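import Groth.Agent.Lib.LocRes.LocalTrace

/-!
The residue theorem, and the Weil differential of a differential form.
-/

set_option autoImplicit false
set_option linter.style.haveILetI false

namespace GrothLib.LocRes

open LaurentSeries WithZero
open GrothLib.FunFld
open _root_.FunFld (Place Divisor adele WD IsWeil IsDivOf mulW)

universe u v w

variable {k : Type u} {K : Type v} [Field k] [Field K] [Algebra k K]

theorem smul_sgl (h : IsFG k K) (c : K) (P : Place k K) (z : K) :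
    (⟨c • (sgl P z : Place k K → K), h.smul_mem_adele c _ (sgl P z).2⟩ : adele k K) =
      sgl P (c * z) := by
  refine Subtype.ext (funext fun Q => ?_)
  rcases eq_or_ne Q P with rfl | hne
  · simp [sgl_apply_self]
  · simp [sgl_apply_of_ne hne]

theorem mulMap_sgl (h : IsFG k K) (ω : Module.Dual k (adele k K)) (c : K) (P : Place k K) (z : K) :
    mulMap h ω c (sgl P z) = ω (sgl P (c * z)) :=
  congrArg ω (smul_sgl h c P z)

theorem isWeil_mulMap (h : IsFG k K) {ω : Module.Dual k (adele k K)} (hω : IsWeil ω) (c : K) :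
    IsWeil (mulMap h ω c) :=
  let ⟨_, hC⟩ := hω
  ⟨_, mulW_mem_WD' (h.mem_L_neg_div c) (h.smul_mem_adele c) hC⟩

/-- Vanishing on large single components at one place enlarges the bound there. -/
theorem mem_WD_update {C E : Divisor k K} {ω : Module.Dual k (adele k K)} (hω : ω ∈ WD C)
    (P : Place k K) (hE : ∀ Q, Q ≠ P → E Q ≤ C Q)
    (hP : ∀ z, val P z ≤ exp (E P) → ω (sgl P z) = 0) : ω ∈ WD E := by
  refine mem_WD_iff.2 fun a ha => ?_
  obtain ⟨u, hu, v, hv, huv⟩ := Submodule.mem_sup.1 ha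
  have hu' : u ∈ adele k K := AD_le_adele E hu
  have hv' : v ∈ adele k K := by
    rw [show v = (a : Place k K → K) - u by rw [← huv]; abel]; exact sub_mem a.2 hu'
  rw [show a = ⟨u, hu'⟩ + ⟨v, hv'⟩ from Subtype.ext huv.symm, map_add,
    mem_WD_iff.1 hω ⟨v, hv'⟩ (Submodule.mem_sup_right hv), add_zero]
  have h1 : ω (⟨u, hu'⟩ - sgl P (u P)) = 0 := WD_apply_eq_zero hω _ fun Q => by
    simp only [AddSubgroupClass.coe_sub, Pi.sub_apply]
    rcases eq_or_ne Q P with rfl | hne
    · rw [sgl_apply_self, sub_self, map_zero]; exact zero_le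
    · rw [sgl_apply_of_ne hne, sub_zero]
      exact (hu Q).trans (exp_le_exp.2 (hE Q hne))
  rwa [map_sub, hP _ (hu P), sub_zero] at h1

/-- A Weil differential with a vanishing component is zero. -/
theorem eq_zero_of_sgl (hK : _root_.FunFld.IsFunctionField k K) {ω : Module.Dual k (adele k K)}
    (hω : IsWeil ω) (P : Place k K) (hP : ∀ z, ω (sgl P z) = 0) : ω = 0 := by
  classical
  obtain ⟨C, hC⟩ := hω
  obtain ⟨N, hN⟩ := exists_delta_eq_genus_of_deg hK
  set n := (N - C.deg).toNat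
  refine IsFG.not_mem_WD_of_delta_eq hK (D := C + Finsupp.single P (n : ℤ)) (hN _ ?_)
    (mem_WD_update hC P (fun Q hQ => by simp [Ne.symm hQ]) fun z _ => hP z)
  rw [deg_add, deg_single]
  have h1 : (1 : ℤ) ≤ P.deg := by exact_mod_cast IsFG.deg_pos hK.1 P
  have h2 := Int.self_le_toNat (N - C.deg)
  have h3 : (n : ℤ) ≤ n * P.deg := le_mul_of_one_le_right (Int.natCast_nonneg _) h1
  omega

/-- A Weil differential is the sum of its components. -/
theorem apply_eq_finsum {C : Divisor k K} {ω : Module.Dual k (adele k K)} (hω : ω ∈ WD C)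
    (a : adele k K) :
    (Function.support fun P => ω (sgl P ((a : Place k K → K) P))).Finite ∧
      ω a = ∑ᶠ P, ω (sgl P ((a : Place k K → K) P)) := by
  classical
  have ha : ∀ᶠ P : Place k K in Filter.cofinite, val P ((a : Place k K → K) P) ≤ 1 := a.2
  rw [Filter.eventually_cofinite] at ha
  let S : Finset (Place k K) := ha.toFinset ∪ C.support
  have hS : ∀ P, P ∉ S → val P ((a : Place k K → K) P) ≤ exp (C P) := fun P hP => by
    simp only [S, Finset.mem_union, not_or, Set.Finite.mem_toFinset, Set.mem_ofPred_eq,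
      not_not] at hP
    rw [Finsupp.notMem_support_iff.1 hP.2, exp_zero]
    exact hP.1
  have hsupp : (Function.support fun P => ω (sgl P ((a : Place k K → K) P))) ⊆ ↑S := fun P hP => by
    by_contra hPS
    exact hP (WD_sgl_eq_zero hω (hS P hPS))
  refine ⟨S.finite_toSet.subset hsupp, ?_⟩
  rw [finsum_eq_sum_of_support_subset _ hsupp, ← map_sum, ← sub_eq_zero, ← map_sub]
  refine WD_apply_eq_zero hω _ fun Q => ?_
  rw [AddSubgroupClass.coe_sub, Pi.sub_apply, Submodule.coe_sum, Finset.sum_apply]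
  by_cases hQ : Q ∈ S
  · rw [Finset.sum_eq_single Q (fun P _ hne => sgl_apply_of_ne (Ne.symm hne) _)
      (fun h => absurd hQ h), sgl_apply_self, sub_self, map_zero]
    exact zero_le
  · rw [Finset.sum_eq_zero fun P hP => sgl_apply_of_ne
      (show Q ≠ P from fun h => hQ (h ▸ hP)) _, sub_zero]
    exact hS Q hQ

variable {F : Place k K → Type w} [∀ P, Field (F P)] [∀ P, Algebra k (F P)]
  [∀ P, FiniteDimensional k (F P)]
  {φ : ∀ P, K →ₐ[k] LaurentSeries (F P)} (hφ : ∀ P, _root_.LocRes.IsExpansionAt P.1 (φ P))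
include hφ

/-- The components of some Weil differential are the residues of `z dx`. -/
theorem exists_weil (hK : _root_.FunFld.IsFunctionField k K) (hg : _root_.FunFld.IsGeometric k K)
    (x : K) : ∃ Ω : Module.Dual k (adele k K), IsWeil Ω ∧
      ∀ P z, Ω (sgl P z) = _root_.LocRes.locRes (φ P) z x := by
  classical
  have key : ∀ (P : Place k K) (t : K), val P t = exp (-1) → ∀ (c : K),
      c • KaehlerDifferential.D k K t = KaehlerDifferential.D k K x →
      ∀ (ω : Module.Dual k (adele k K)),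
      (∀ z, ω (sgl P z) = _root_.LocRes.locRes (φ P) z t) →
      ∀ z, mulMap hK.1 ω c (sgl P z) = _root_.LocRes.locRes (φ P) z x := by
    intro P t _ c hc ω hω z
    rw [mulMap_sgl, hω, _root_.LocRes.locRes, _root_.LocRes.locRes, _root_.LocRes.resExp,
      _root_.LocRes.resExp, D_eq_mul_of_smul (φ P) hc, map_mul (φ P), mul_comm (φ P c), mul_assoc]
  have htr : ∀ (P : Place k K) (t : K), val P t = exp (-1) → Transcendental k t := fun P t ht =>
    transcendental_of_val_ne_one P (fun h0 => by rw [h0, map_zero] at ht; exact exp_ne_zero ht.symm)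
      (by rw [ht, ← exp_zero, Ne, exp_inj]; omega)
  obtain ⟨P₀⟩ := IsFG.exists_place hK.1
  obtain ⟨t₀, -, ht₀⟩ := exists_val_eq P₀ (-1)
  obtain ⟨c₀, hc₀⟩ := exists_D_eq hK.1 hg (D_ne_zero_of_val_eq (hφ P₀) ht₀) x
  obtain ⟨ω₀, hω₀, hω₀s⟩ := exists_local.{u, v, w} hK (htr P₀ t₀ ht₀)
  refine ⟨mulMap hK.1 ω₀ c₀, isWeil_mulMap hK.1 hω₀ c₀, fun P z => ?_⟩
  obtain ⟨s, hs⟩ := exists_approx_eq {P₀, P} (fun _ => (0 : K)) fun _ => -1
  have hs₀ : val P₀ s = exp (-1) := by simpa using hs P₀ (by simp)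
  have hsP : val P s = exp (-1) := by simpa using hs P (by simp)
  obtain ⟨c, hc⟩ := exists_D_eq hK.1 hg (D_ne_zero_of_val_eq (hφ P) hsP) x
  obtain ⟨ω₁, hω₁, hω₁s⟩ := exists_local.{u, v, w} hK (htr P s hsP)
  -- the differentials built from `t₀` and from `s` agree at `P₀`, hence everywhere
  have h12 : mulMap hK.1 ω₁ c = mulMap hK.1 ω₀ c₀ := by
    obtain ⟨C₁, hC₁⟩ := isWeil_mulMap hK.1 hω₁ c
    obtain ⟨C₂, hC₂⟩ := isWeil_mulMap hK.1 hω₀ c₀
    rw [← sub_eq_zero]
    refine eq_zero_of_sgl hK ⟨C₁ ⊓ C₂, sub_mem (WD_anti inf_le_left hC₁) (WD_anti inf_le_right hC₂)⟩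
      P₀ fun y => ?_
    rw [LinearMap.sub_apply, key P₀ s hs₀ c hc ω₁ (hω₁s _ P₀ (φ P₀) (hφ P₀) hs₀),
      key P₀ t₀ ht₀ c₀ hc₀ ω₀ (hω₀s _ P₀ (φ P₀) (hφ P₀) ht₀), sub_self]
  rw [← h12, key P s hsP c hc ω₁ (hω₁s _ P (φ P) (hφ P) hsP)]

/-- The order of the differential is the divisor of the Weil differential it induces. -/
theorem isDivOf_eq_ordDiff (hK : _root_.FunFld.IsFunctionField k K)
    (hg : _root_.FunFld.IsGeometric k K) {u v : K} (hu : u ≠ 0)
    (hv : KaehlerDifferential.D k K v ≠ 0) {ω : Module.Dual k (adele k K)}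
    (hω : ∀ P z, ω (sgl P z) = _root_.LocRes.locRes (φ P) (z * u) v) :
    ω ≠ 0 ∧ ∀ C : Divisor k K, IsDivOf ω C → ∀ P, C P = _root_.LocRes.ordDiff (φ P) u v := by
  classical
  have hs : ∀ P, Valued.v (φ P u * _root_.LocRes.D (F P) (φ P v)) =
      exp (-_root_.LocRes.ordDiff (φ P) u v) := fun P => by
    rw [_root_.LocRes.ordDiff, _root_.LocRes.vDiff, neg_neg, exp_log]
    exact (Valuation.ne_zero_iff _).2 (mul_ne_zero
      ((map_ne_zero (φ P)).2 hu) (D_map_ne_zero (hφ P) hK.1 hg hv))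
  have hne : ∀ P, ∃ z, val P z ≤ exp (_root_.LocRes.ordDiff (φ P) u v + 1) ∧ ω (sgl P z) ≠ 0 :=
    fun P => by
      haveI := isSeparable_coeffField (hφ P) hK.1 hg
      obtain ⟨z, hz, hz'⟩ := exists_res_ne (hφ P) (hs P)
      refine ⟨z, hz, ?_⟩
      rwa [hω, _root_.LocRes.locRes, _root_.LocRes.resExp, map_mul (φ P), mul_assoc]
  refine ⟨?_, fun C hC P => ?_⟩
  · rintro rfl
    obtain ⟨P⟩ := IsFG.exists_place hK.1
    obtain ⟨z, -, hz⟩ := hne P
    exact hz rfl
  have hCmem : ω ∈ WD C := (hC C).2 le_rfl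
  refine le_antisymm ?_ ?_
  · by_contra hlt
    obtain ⟨z, hz, hz'⟩ := hne P
    exact hz' (WD_sgl_eq_zero hCmem (hz.trans (exp_le_exp.2 (by omega))))
  · set m := _root_.LocRes.ordDiff (φ P) u v with hm
    have hE : ω ∈ WD (C + Finsupp.single P (m - C P)) := by
      refine mem_WD_update hCmem P (fun Q hQ => by simp [Ne.symm hQ]) fun z hz => ?_
      rw [Finsupp.add_apply, Finsupp.single_eq_same, add_sub_cancel] at hz
      rw [hω, _root_.LocRes.locRes, _root_.LocRes.resExp, map_mul (φ P), mul_assoc]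
      have h1 : Valued.v (φ P z * (φ P u * _root_.LocRes.D (F P) (φ P v))) ≤ 1 := by
        rw [map_mul, (hφ P).1, hs P]
        refine (mul_le_mul_left hz _).trans_eq ?_
        rw [← exp_add, add_neg_cancel, exp_zero]
      obtain ⟨q, hq⟩ := (LaurentSeries.val_le_one_iff_eq_coe (F P) _).mp h1
      rw [← hq, res_coe, map_zero]
    have := (hC _).1 hE P
    simp only [Finsupp.add_apply, Finsupp.single_eq_same] at this
    omega

/-- The residue theorem. -/
theorem sum_locRes_eq_zero (hK : _root_.FunFld.IsFunctionField k K) (u v : K) :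
    (Function.support fun P => _root_.LocRes.locRes (φ P) u v).Finite ∧
      ∑ᶠ P, _root_.LocRes.locRes (φ P) u v = 0 := by
  classical
  by_cases hsep : ∃ P, Algebra.IsSeparable k (F P)
  · obtain ⟨P, hP⟩ := hsep
    obtain ⟨Ω, ⟨C, hC⟩, hΩs⟩ :=
      exists_weil hφ hK (isGeometric_of_isSeparable_coeff hK (φ P)) v
    let a : adele k K := ⟨_root_.FunFld.diag k K u, IsFG.Kc_le_adele hK.1 ⟨u, rfl⟩⟩
    have hsum := apply_eq_finsum hC a
    simp only [a, diag_apply, hΩs] at hsum
    refine ⟨hsum.1, hsum.2.symm.trans ?_⟩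
    exact mem_WD_iff.1 hC _ (Submodule.mem_sup_right ⟨u, rfl⟩)
  · have h0 : ∀ P, _root_.LocRes.locRes (φ P) u v = 0 := fun P =>
      locRes_eq_zero_of_not_isSeparable (fun h => hsep ⟨P, h⟩) _ u v
    simp [h0]

/-- The Weil differential of `u dv`. -/
theorem exists_weil_mul (hK : _root_.FunFld.IsFunctionField k K)
    (hg : _root_.FunFld.IsGeometric k K) (u v : K) :
    ∃ ω : Module.Dual k (adele k K), IsWeil ω ∧
      (∀ P z, ω (sgl P z) = _root_.LocRes.locRes (φ P) (z * u) v) ∧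
      ∀ a : adele k K,
        (Function.support fun P => _root_.LocRes.locRes (φ P)
          ((a : Place k K → K) P * u) v).Finite ∧
        ω a = ∑ᶠ P, _root_.LocRes.locRes (φ P) ((a : Place k K → K) P * u) v := by
  obtain ⟨Ω, hΩ, hΩs⟩ := exists_weil hφ hK hg v
  have hs : ∀ P z, mulMap hK.1 Ω u (sgl P z) = _root_.LocRes.locRes (φ P) (z * u) v := fun P z => by
    rw [mulMap_sgl, hΩs, mul_comm]
  obtain ⟨C, hC⟩ := isWeil_mulMap hK.1 hΩ u
  refine ⟨mulMap hK.1 Ω u, ⟨C, hC⟩, hs, fun a => ?_⟩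
  have hsum := apply_eq_finsum hC a
  simp only [hs] at hsum
  exact hsum

/-- The differentials with divisor at least `D` are the elements of `WD D`. -/
theorem exists_equiv_WD (hK : _root_.FunFld.IsFunctionField k K)
    (hg : _root_.FunFld.IsGeometric k K) {v : K} (hv : KaehlerDifferential.D k K v ≠ 0)
    (D : Divisor k K) :
    Module.finrank k (Submodule.span k
        {y : K | ∀ P, _root_.LocRes.vDiff (φ P) y v ≤ exp (-(D P))}) =
      Module.finrank k (WD D) := by
  classical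
  obtain ⟨Ω, hΩ, hΩs⟩ := exists_weil hφ hK hg v
  have hΩ0 : Ω ≠ 0 := (isDivOf_eq_ordDiff hφ hK hg one_ne_zero hv
    (fun P z => by rw [hΩs, mul_one])).1
  have hset : {y : K | ∀ P, _root_.LocRes.vDiff (φ P) y v ≤ exp (-(D P))} =
      ((WD D).comap (mulMap hK.1 Ω) : Submodule k K) := by
    ext y
    rw [SetLike.mem_coe, Submodule.mem_comap, Set.mem_ofPred_eq]
    rcases eq_or_ne y 0 with rfl | hy
    · simp [_root_.LocRes.vDiff]
    have hω : ∀ P z, mulMap hK.1 Ω y (sgl P z) = _root_.LocRes.locRes (φ P) (z * y) v :=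
      fun P z => by rw [mulMap_sgl, hΩs, mul_comm]
    obtain ⟨hω0, hdiv⟩ := isDivOf_eq_ordDiff hφ hK hg hy hv hω
    obtain ⟨C, hC⟩ := exists_isDivOf' hK (isWeil_mulMap hK.1 hΩ y) hω0
    rw [hC D]
    refine forall_congr' fun P => ?_
    rw [hdiv C hC P, _root_.LocRes.ordDiff]
    have h0 : _root_.LocRes.vDiff (φ P) y v ≠ 0 :=
      (Valuation.ne_zero_iff _).2 (mul_ne_zero ((map_ne_zero (φ P)).2 hy)
        (D_map_ne_zero (hφ P) hK.1 hg hv))
    rw [← log_le_iff_le_exp h0]
    omega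
  rw [hset, Submodule.span_eq,
    (Submodule.equivMapOfInjective _ (mulMap_injective hK.1 hΩ0) _).finrank_eq,
    Submodule.map_comap_eq_self]
  intro ω hω
  exact exists_smul_eq hK hΩ hΩ0 ⟨D, hω⟩

end GrothLib.LocRes
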