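import Groth.Agent.Lib.LocRes.Expansion
import Groth.Agent.Lib.FunFld.Hasse

/-!
Hasse derivatives read through Laurent expansions.
-/

set_option autoImplicit false
set_option linter.style.haveILetI false

namespace GrothLib.FunFld

open _root_.FunFld

universe u v w

variable {F : Type w} [Field F]

/-- Taylor shift of power series, with Laurent coefficients. -/
noncomputable def shiftPS : PowerSeries F →+* PowerSeries (LaurentSeries F) :=
  (PowerSeries.map (HahnSeries.ofPowerSeries ℤ F)).comp shiftHom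

theorem shiftPS_apply (q : PowerSeries F) :
    shiftPS q = PowerSeries.map (HahnSeries.ofPowerSeries ℤ F) (shift q) := rfl

theorem isUnit_shiftPS (y : Submonoid.powers (PowerSeries.X : PowerSeries F)) :
    IsUnit (shiftPS (y : PowerSeries F)) := by
  obtain ⟨_, n, rfl⟩ := y
  simp only [map_pow]
  refine IsUnit.pow n (PowerSeries.isUnit_iff_constantCoeff.mpr (isUnit_iff_ne_zero.mpr ?_))
  rw [← PowerSeries.coeff_zero_eq_constantCoeff_apply]
  rw [shiftPS_apply, PowerSeries.coeff_map]
  intro h
  have h2 := congrArg (PowerSeries.coeff 1) (HahnSeries.ofPowerSeries_injective (h.trans (map_zero _).symm))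
  rw [coeff_shift] at h2
  simp at h2

/-- Taylor shift of Laurent series. -/
noncomputable def shiftLS : LaurentSeries F →+* PowerSeries (LaurentSeries F) :=
  IsLocalization.lift (M := Submonoid.powers (PowerSeries.X : PowerSeries F)) (g := shiftPS) isUnit_shiftPS

theorem shiftLS_coe (q : PowerSeries F) :
    shiftLS (q : LaurentSeries F) = shiftPS q :=
  IsLocalization.lift_eq isUnit_shiftPS q

theorem constantCoeff_shiftLS (y : LaurentSeries F) : PowerSeries.constantCoeff (shiftLS y) = y := by
  have h : (PowerSeries.constantCoeff).comp (shiftLS (F := F)) = RingHom.id _ := by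
    refine IsLocalization.ringHom_ext (Submonoid.powers (PowerSeries.X : PowerSeries F)) (RingHom.ext fun q => ?_)
    show PowerSeries.constantCoeff (shiftLS (q : LaurentSeries F)) = (q : LaurentSeries F)
    rw [shiftLS_coe, ← PowerSeries.coeff_zero_eq_constantCoeff_apply]
    rw [shiftPS_apply, PowerSeries.coeff_map]
    congr 1
    ext w
    rw [coeff_shift]
    simp
  exact RingHom.congr_fun h y

theorem hasseDeriv_coe (q : PowerSeries F) (n : ℕ) :
    LaurentSeries.hasseDeriv F n (q : LaurentSeries F) =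
      ((PowerSeries.coeff n (shift q) : PowerSeries F) : LaurentSeries F) := by
  ext w
  rw [LaurentSeries.hasseDeriv_coeff]
  rcases lt_or_ge w 0 with hw | hw
  · rw [GrothLib.LocRes.coeff_coe_eq_zero _ hw]
    rcases lt_or_ge (w + n) 0 with h | h
    · rw [GrothLib.LocRes.coeff_coe_eq_zero _ h, smul_zero]
    · obtain ⟨m, hm⟩ := Int.eq_ofNat_of_zero_le h
      rw [hm, Ring.choose_natCast, Nat.choose_eq_zero_of_lt (by omega), Nat.cast_zero, zero_smul]
  · obtain ⟨m, rfl⟩ := Int.eq_ofNat_of_zero_le hw
    rw [show (m : ℤ) + n = ((m + n : ℕ) : ℤ) by push_cast; ring, LaurentSeries.coeff_coe_powerSeries,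
      LaurentSeries.coeff_coe_powerSeries, coeff_shift, Ring.choose_natCast, Nat.cast_smul_eq_nsmul,
      nsmul_eq_mul]

variable {k : Type u} {K : Type v} [Field k] [Field K] [Algebra k K] [Algebra k F]

theorem expansion_hasseD (hK : IsFG k K) (hg : IsGeometric k K) {P : Place k K}
    {φ : K →ₐ[k] LaurentSeries F} (hφ : _root_.LocRes.IsExpansionAt P.1 φ) {t : K}
    (ht : φ t = HahnSeries.single 1 1) {H : K →ₐ[k] PowerSeries K}
    (hH : _root_.LocRes.IsHasseFamily t H) {x : K} (hx : P.1 x ≤ 1) (n : ℕ) :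
    φ (_root_.LocRes.hasseD H n x) = LaurentSeries.hasseDeriv F n (φ x) := by
  haveI := isSeparable_adjoin_self hH hK hg
  have h : (PowerSeries.map φ.toRingHom).comp H.toRingHom = shiftLS.comp φ.toRingHom := by
    refine eq_of_agree_adjoin (k := k) (s := t) PowerSeries.constantCoeff _ _ (fun z => ?_) (fun c => ?_) ?_
    · simp only [RingHom.comp_apply]
      show PowerSeries.constantCoeff (PowerSeries.map φ.toRingHom (H z)) = _
      rw [constantCoeff_shiftLS, ← PowerSeries.coeff_zero_eq_constantCoeff_apply, PowerSeries.coeff_map,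
        PowerSeries.coeff_zero_eq_constantCoeff_apply, hH.2]
    · show PowerSeries.map φ.toRingHom (H (algebraMap k K c)) = shiftLS (φ (algebraMap k K c))
      rw [algebraMap_H hH, PowerSeries.map_C, AlgHom.toRingHom_eq_coe, RingHom.coe_coe,
        _root_.LocRes.map_algebraMap, ← HahnSeries.ofPowerSeries_C, shiftLS_coe]
      rw [shiftPS_apply]
      conv_rhs => rw [← Polynomial.coe_C, shift_coe, Polynomial.eval₂_C]
      simp
    · show PowerSeries.map φ.toRingHom (H t) = shiftLS (φ t)
      rw [hH.1, map_add, PowerSeries.map_C, PowerSeries.map_X, AlgHom.toRingHom_eq_coe, RingHom.coe_coe,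
        ht, ← HahnSeries.ofPowerSeries_X, shiftLS_coe]
      rw [shiftPS_apply]
      conv_rhs => rw [← Polynomial.coe_X, shift_coe, Polynomial.eval₂_X]
      simp
  have h2 := congrArg (fun Φ => PowerSeries.coeff n (Φ x)) h
  simp only [RingHom.comp_apply, PowerSeries.coeff_map] at h2
  obtain ⟨q, hq⟩ := (LaurentSeries.val_le_one_iff_eq_coe F (φ x)).mp ((hφ.1 x).trans_le hx)
  rw [_root_.LocRes.hasseD_apply]
  refine h2.trans ?_
  show PowerSeries.coeff n (shiftLS (φ x)) = _
  rw [← hq, shiftLS_coe, hasseDeriv_coe]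
  rw [shiftPS_apply, PowerSeries.coeff_map]

theorem val_hasseD_le_one (hK : IsFG k K) (hg : IsGeometric k K) {P : Place k K}
    {φ : K →ₐ[k] LaurentSeries F} (hφ : _root_.LocRes.IsExpansionAt P.1 φ) {t : K}
    (ht : φ t = HahnSeries.single 1 1) {H : K →ₐ[k] PowerSeries K}
    (hH : _root_.LocRes.IsHasseFamily t H) {x : K} (hx : P.1 x ≤ 1) (n : ℕ) :
    P.1 (_root_.LocRes.hasseD H n x) ≤ 1 := by
  rw [← hφ.1, expansion_hasseD hK hg hφ ht hH hx]
  obtain ⟨q, hq⟩ := (LaurentSeries.val_le_one_iff_eq_coe F (φ x)).mp ((hφ.1 x).trans_le hx)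
  rw [← hq, hasseDeriv_coe]
  exact (LaurentSeries.val_le_one_iff_eq_coe F _).mpr ⟨_, rfl⟩

end GrothLib.FunFld
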