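import Groth.Agent.Lib.LocRes.DiffExpLocal

/-!
The different exponent at a place with trivial residue extension, through the dual of the integral
closure under the trace form.
-/

set_option autoImplicit false
set_option linter.style.haveILetI false
set_option linter.unusedSectionVars false

namespace GrothLib.LocRes

open WithZero Polynomial
open GrothLib.FunFld
open _root_.FunFld (Place IsOver IsOverWith ramIdx)

universe u v

variable {k : Type u} {K K' : Type v} [Field k] [Field K] [Field K'] [Algebra k K] [Algebra K K']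
  [Algebra k K'] [IsScalarTower k K K'] [FiniteDimensional K K']
  {P : Place k K} [Algebra P.O K'] [IsScalarTower P.O K K']

/-- The elements of `K'` of trace dual to the integral closure of `O_P`. -/
def InCodifferent (P : Place k K) [Algebra P.O K'] (y : K') : Prop :=
  ∀ z : K', IsIntegral P.O z → P.1 (Algebra.trace K K' (y * z)) ≤ 1

theorem isIntegral_of_mem_adjoin {y a : K'} (hy : IsIntegral P.O y)
    (ha : a ∈ Algebra.adjoin P.O ({y} : Set K')) : IsIntegral P.O a :=
  adjoin_le_integralClosure hy ha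

/-- Euler's computation of the dual of `O_P[y]`, one inclusion. -/
theorem derivative_mul_mem [Algebra.IsSeparable K K'] {y z : K'}
    (hy : IntermediateField.adjoin K ({y} : Set K') = ⊤) (hyi : IsIntegral P.O y)
    (hz : ∀ a ∈ Algebra.adjoin P.O ({y} : Set K'), P.1 (Algebra.trace K K' (z * a)) ≤ 1) :
    aeval y (derivative (minpoly K y)) * z ∈ Algebra.adjoin P.O ({y} : Set K') := by
  have htop : Algebra.adjoin K ({y} : Set K') = ⊤ := by
    rw [← IntermediateField.adjoin_simple_toSubalgebra_of_isAlgebraic (Algebra.IsAlgebraic.isAlgebraic y),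
      hy, IntermediateField.top_toSubalgebra]
  have hne : aeval y (derivative (minpoly K y)) ≠ 0 :=
    (Algebra.IsSeparable.isSeparable K y).aeval_derivative_ne_zero (minpoly.aeval K y)
  have hmem : z ∈ (Algebra.traceForm K K').dualSubmodule
      (Subalgebra.toSubmodule (Algebra.adjoin P.O ({y} : Set K'))) := fun a ha => by
    rw [Algebra.traceForm_apply, Submodule.mem_one]
    exact ⟨⟨_, hz a ha⟩, rfl⟩
  rw [traceForm_dualSubmodule_adjoin P.O K htop hyi] at hmem
  obtain ⟨b, hb, rfl⟩ := hmem
  show _ * ((aeval y (derivative (minpoly K y)))⁻¹ • b) ∈ _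
  rw [smul_eq_mul, ← mul_assoc, mul_inv_cancel₀ hne, one_mul]
  exact hb

/-- Euler's computation of the dual of `O_P[y]`, the other inclusion at `1`. -/
theorem trace_div_derivative_le_one [Algebra.IsSeparable K K'] {y c : K'}
    (hy : IntermediateField.adjoin K ({y} : Set K') = ⊤) (hyi : IsIntegral P.O y)
    (hc : c ∈ Algebra.adjoin P.O ({y} : Set K')) :
    P.1 (Algebra.trace K K' ((aeval y (derivative (minpoly K y)))⁻¹ * c)) ≤ 1 := by
  have htop : Algebra.adjoin K ({y} : Set K') = ⊤ := by
    rw [← IntermediateField.adjoin_simple_toSubalgebra_of_isAlgebraic (Algebra.IsAlgebraic.isAlgebraic y),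
      hy, IntermediateField.top_toSubalgebra]
  have hmem : (aeval y (derivative (minpoly K y)))⁻¹ * c ∈ (Algebra.traceForm K K').dualSubmodule
      (Subalgebra.toSubmodule (Algebra.adjoin P.O ({y} : Set K'))) := by
    rw [traceForm_dualSubmodule_adjoin P.O K htop hyi]
    exact ⟨c, hc, rfl⟩
  have h1 := hmem 1 (one_mem (Algebra.adjoin P.O ({y} : Set K')))
  rw [Algebra.traceForm_apply, mul_one, Submodule.mem_one] at h1
  obtain ⟨a, ha⟩ := h1
  rw [← ha]
  exact a.2

/-- The residue field upstairs is that downstairs. -/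
def TrivialResidue (P : Place k K) (Q : Place k K') : Prop :=
  ∀ w : K', val Q w ≤ 1 → ∃ c : K, val P c ≤ 1 ∧ val Q (w - algebraMap K K' c) < 1

variable {Q : Place k K'} {e : ℕ} (hK : IsFG k K) (he : IsOverWith Q P e)
  {s : K'} (hs : val Q s = exp (-1))
  (hs' : ∀ Q' : Place k K', IsOver Q' P → Q' ≠ Q → val Q' s = 1)
  (hdeg : Q.deg ≤ P.deg) (hres : TrivialResidue P Q)

include hK hs hs' in
theorem isIntegral_s : IsIntegral P.O s := (isIntegral_iff_forall hK s).mpr fun R hR => by
  by_cases hne : R = Q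
  · subst hne; rw [hs, ← exp_zero, exp_le_exp]; norm_num
  · rw [hs' R hR hne]

include hs hres in
theorem approx_adjoin {w : K'} (hw : val Q w ≤ 1) (n : ℕ) :
    ∃ a ∈ Algebra.adjoin P.O ({s} : Set K'), val Q (w - a) ≤ exp (-(n : ℤ)) := by
  induction n with
  | zero => exact ⟨0, zero_mem _, by simpa using hw⟩
  | succ n ih =>
    obtain ⟨a, ha, han⟩ := ih
    have hs0 : s ≠ 0 := s_ne_zero hs
    obtain ⟨c, hc, hcn⟩ := hres ((w - a) / s ^ n) (by
      rw [map_div₀, map_pow, hs, ← exp_nsmul, div_le_one₀ (zero_lt_iff.mpr exp_ne_zero)]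
      simpa using han)
    refine ⟨a + algebraMap K K' c * s ^ n, add_mem ha (mul_mem ?_ (pow_mem (Algebra.self_mem_adjoin_singleton _ _) n)), ?_⟩
    · rw [show algebraMap K K' c = algebraMap P.O K' ⟨c, hc⟩ from
        (IsScalarTower.algebraMap_apply P.O K K' (⟨c, hc⟩ : P.O)).symm]
      exact Subalgebra.algebraMap_mem _ _
    · rw [show w - (a + algebraMap K K' c * s ^ n) = ((w - a) / s ^ n - algebraMap K K' c) * s ^ n by
        field_simp; ring, map_mul, map_pow, hs, ← exp_nsmul]
      have h1 : val Q ((w - a) / s ^ n - algebraMap K K' c) ≤ exp (-1) := by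
        rw [show (-1 : ℤ) = 0 - 1 by ring, le_exp_sub_one_iff, exp_zero]; exact hcn
      refine (mul_le_mul_left h1 _).trans ?_
      rw [← exp_add, exp_le_exp]
      simp

/-- Every element is carried into `O_P[y]` by a power of a uniformizer, if `y` generates. -/
theorem exists_pow_mul_mem {y : K'} (hy : IntermediateField.adjoin K ({y} : Set K') = ⊤) {t : K}
    (ht : val P t = exp (-1)) (z : K') :
    ∃ N, ∀ n ≥ N, algebraMap K K' (t ^ n) * z ∈ Algebra.adjoin P.O ({y} : Set K') := by
  have htop : Algebra.adjoin K ({y} : Set K') = ⊤ := by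
    rw [← IntermediateField.adjoin_simple_toSubalgebra_of_isAlgebraic (Algebra.IsAlgebraic.isAlgebraic y),
      hy, IntermediateField.top_toSubalgebra]
  have hC : ∀ c : K, val P c ≤ 1 → algebraMap K K' c ∈ Algebra.adjoin P.O ({y} : Set K') := fun c hc => by
    rw [show algebraMap K K' c = algebraMap P.O K' ⟨c, hc⟩ from
        (IsScalarTower.algebraMap_apply P.O K K' (⟨c, hc⟩ : P.O)).symm]
    exact Subalgebra.algebraMap_mem _ _
  have htn : ∀ n : ℕ, val P (t ^ n) = exp (-(n : ℤ)) := fun n => by
    rw [map_pow, ht, ← exp_nsmul]; simp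
  have hz : z ∈ Algebra.adjoin K ({y} : Set K') := by rw [htop]; trivial
  induction hz using Algebra.adjoin_induction with
  | mem z hz =>
    rw [Set.mem_singleton_iff] at hz
    exact ⟨0, fun n _ => mul_mem (hC _ (by rw [htn, ← exp_zero, exp_le_exp]; simp))
      (hz ▸ Algebra.self_mem_adjoin_singleton _ _)⟩
  | algebraMap a =>
    refine ⟨(-P.ord a).toNat, fun n hn => ?_⟩
    rw [← map_mul]
    refine hC _ ?_
    rcases eq_or_ne a 0 with rfl | ha
    · simp
    rw [map_mul, htn, val_eq P ha, ← exp_add, ← exp_zero, exp_le_exp]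
    omega
  | add a b _ _ iha ihb =>
    obtain ⟨N, hN⟩ := iha
    obtain ⟨N', hN'⟩ := ihb
    exact ⟨max N N', fun n hn => by
      rw [mul_add]; exact add_mem (hN n (le_of_max_le_left hn)) (hN' n (le_of_max_le_right hn))⟩
  | mul a b _ _ iha ihb =>
    obtain ⟨N, hN⟩ := iha
    obtain ⟨N', hN'⟩ := ihb
    refine ⟨N + N', fun n hn => ?_⟩
    obtain ⟨m, rfl⟩ : ∃ m, n = N + m := ⟨n - N, by omega⟩
    rw [show algebraMap K K' (t ^ (N + m)) * (a * b) =
      algebraMap K K' (t ^ N) * a * (algebraMap K K' (t ^ m) * b) by rw [pow_add, map_mul]; ring]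
    exact mul_mem (hN N le_rfl) (hN' m (by omega))

include hK in
/-- `O_P[y]` has a conductor. -/
theorem exists_conductor [Algebra.IsSeparable K K'] {y : K'}
    (hy : IntermediateField.adjoin K ({y} : Set K') = ⊤) {t : K} (ht : val P t = exp (-1)) :
    ∃ M, ∀ w : K', IsIntegral P.O w → algebraMap K K' (t ^ M) * w ∈ Algebra.adjoin P.O ({y} : Set K') := by
  classical
  haveI : Module.Finite P.O (integralClosure P.O K') := integralClosure_finite hK P
  obtain ⟨G, hG⟩ := Module.Finite.fg_top (R := P.O) (M := integralClosure P.O K')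
  choose N hN using fun g : integralClosure P.O K' => exists_pow_mul_mem hy ht (g : K')
  refine ⟨∑ g ∈ G, N g, fun w hw => ?_⟩
  have hmem : (⟨w, hw⟩ : integralClosure P.O K') ∈ Submodule.span P.O (G : Set (integralClosure P.O K')) := by
    rw [hG]; trivial
  suffices ∀ x ∈ Submodule.span P.O (G : Set (integralClosure P.O K')),
      algebraMap K K' (t ^ (∑ g ∈ G, N g)) * (x : K') ∈ Algebra.adjoin P.O ({y} : Set K') from this _ hmem
  intro x hx
  induction hx using Submodule.span_induction with
  | mem g hg => exact hN g _ (Finset.single_le_sum (fun _ _ => Nat.zero_le _) hg)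
  | zero => simp
  | add a b _ _ iha ihb => rw [Subalgebra.coe_add, mul_add]; exact add_mem iha ihb
  | smul r a _ iha => rw [Subalgebra.coe_smul, mul_smul_comm]; exact Subalgebra.smul_mem _ iha r

include hK he hs hs' hdeg

/-- An element of `O_P[s]`, a unit at `Q`, vanishing at the other places above `P`. -/
theorem exists_separator :
    ∃ h ∈ Algebra.adjoin P.O ({s} : Set K'), val Q h = 1 ∧
      ∀ Q' : Place k K', IsOver Q' P → Q' ≠ Q → val Q' h ≤ exp (-1) := by
  classical
  obtain ⟨hcoef, hlow, h0⟩ := coeff_minpoly_s hK he hs hs' hdeg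
  set p := minpoly K s with hp
  have hs0 : s ≠ 0 := s_ne_zero hs
  set h := ∑ i ∈ Finset.range (p.natDegree + 1), p.coeff (e + i) • s ^ i with hh
  have hev := minpoly.aeval K s
  rw [← hp, aeval_eq_sum_range' (n := e + (p.natDegree + 1)) (by omega), Finset.sum_range_add] at hev
  have hkey : h * s ^ e = -∑ i ∈ Finset.range e, p.coeff i • s ^ i := by
    rw [eq_neg_iff_add_eq_zero, add_comm, ← hev, hh, Finset.sum_mul]
    congr 1
    exact Finset.sum_congr rfl fun i _ => by rw [Algebra.smul_def, Algebra.smul_def, pow_add]; ring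
  refine ⟨h, ?_, ?_, fun Q' hQ' hne => ?_⟩
  · refine sum_mem fun i _ => ?_
    rw [Algebra.smul_def]
    refine mul_mem ?_ (pow_mem (Algebra.self_mem_adjoin_singleton _ _) i)
    rw [show algebraMap K K' (p.coeff (e + i)) = algebraMap P.O K' ⟨_, hcoef (e + i)⟩ from
      (IsScalarTower.algebraMap_apply P.O K K' (⟨_, hcoef (e + i)⟩ : P.O)).symm]
    exact Subalgebra.algebraMap_mem _ _
  · have hv : val Q (∑ i ∈ Finset.range e, p.coeff i • s ^ i) = exp (-(e : ℤ)) := by
      obtain ⟨e', rfl⟩ := Nat.exists_eq_succ_of_ne_zero (pos_of_isOverWith he).ne'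
      rw [Finset.sum_range_succ', (val Q).map_add_eq_of_lt_right]
      · rw [pow_zero, Algebra.smul_def, mul_one,
          show val Q (algebraMap K K' (p.coeff 0)) = val P (p.coeff 0) ^ e'.succ from he _, h0, ← exp_nsmul]
        simp
      · rw [pow_zero, Algebra.smul_def, mul_one,
          show val Q (algebraMap K K' (p.coeff 0)) = val P (p.coeff 0) ^ e'.succ from he _, h0, ← exp_nsmul]
        refine (val Q).map_sum_lt exp_ne_zero fun i hi => ?_
        rw [Algebra.smul_def, map_mul, map_pow, hs,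
          show val Q (algebraMap K K' (p.coeff (i + 1))) = val P (p.coeff (i + 1)) ^ e'.succ from he _]
        have h1 : val P (p.coeff (i + 1)) ≤ exp (-1) := by
          rw [show (-1 : ℤ) = 0 - 1 by ring, le_exp_sub_one_iff, exp_zero]
          exact hlow _ (by have := Finset.mem_range.mp hi; omega)
        refine (mul_le_mul_left (pow_le_pow_left₀ zero_le h1 _) _).trans_lt ?_
        rw [← exp_nsmul, ← exp_nsmul, ← exp_add, exp_lt_exp]
        simp only [nsmul_eq_mul]
        omega
    have h2 := congrArg (val Q) hkey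
    rw [map_mul, map_pow, hs, Valuation.map_neg, hv, ← exp_nsmul,
      show (e • (-1 : ℤ)) = -(e : ℤ) by simp] at h2
    exact (mul_eq_right₀ exp_ne_zero).mp h2
  · obtain ⟨e', he'⟩ := hQ'
    have h2 := congrArg (val Q') hkey
    rw [map_mul, map_pow, hs' Q' ⟨e', he'⟩ hne, one_pow, mul_one, Valuation.map_neg] at h2
    rw [h2, show (-1 : ℤ) = 0 - 1 by ring, le_exp_sub_one_iff, exp_zero]
    refine (val Q').map_sum_lt one_ne_zero fun i hi => ?_
    rw [Algebra.smul_def, map_mul, map_pow, hs' Q' ⟨e', he'⟩ hne, one_pow, mul_one,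
      show val Q' (algebraMap K K' (p.coeff i)) = val P (p.coeff i) ^ e' from he' _]
    exact pow_lt_one₀ zero_le (hlow i (Finset.mem_range.mp hi)) (pos_of_isOverWith he').ne'

include hres in
/-- A power of the separator carries the integral closure into `O_P[s]`. -/
theorem exists_pow_separator_mul_mem [Algebra.IsSeparable K K'] {h : K'}
    (hmem : h ∈ Algebra.adjoin P.O ({s} : Set K')) (hQ : val Q h = 1)
    (hQ' : ∀ Q' : Place k K', IsOver Q' P → Q' ≠ Q → val Q' h ≤ exp (-1)) :
    ∃ B : ℕ, ∀ w : K', IsIntegral P.O w → h ^ B * w ∈ Algebra.adjoin P.O ({s} : Set K') := by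
  classical
  obtain ⟨t, ht0, ht⟩ := exists_val_eq P (-1)
  obtain ⟨M, hM⟩ := exists_conductor hK (adjoin_s_eq_top hK he hs hs' hdeg) ht
  have hfin := (sum_ramIdx (K' := K') hK P).1
  refine ⟨∑ R ∈ hfin.toFinset, ramIdx R P * M, fun w hw => ?_⟩
  set B := ∑ R ∈ hfin.toFinset, ramIdx R P * M
  obtain ⟨a, ha, hwa⟩ := approx_adjoin hs hres (val_le_one_of_isIntegral ⟨e, he⟩ hw) (e * M)
  have hT : algebraMap K K' (t ^ M) ≠ 0 := (_root_.map_ne_zero _).mpr (pow_ne_zero _ ht0)
  have hq : IsIntegral P.O (h ^ B * (w - a) / algebraMap K K' (t ^ M)) := by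
    refine (isIntegral_iff_forall hK _).mpr fun R hR => ?_
    obtain ⟨eR, heR⟩ := hR
    rw [map_div₀, show val R (algebraMap K K' (t ^ M)) = val P (t ^ M) ^ eR from heR _, map_pow, ht,
      ← pow_mul, ← exp_nsmul, div_le_one₀ (zero_lt_iff.mpr exp_ne_zero), map_mul, map_pow]
    by_cases hne : R = Q
    · subst hne
      obtain ⟨-, rfl⟩ := isOverWith_unique he heR
      rw [hQ, one_pow, one_mul]
      refine hwa.trans ?_
      rw [exp_le_exp, nsmul_eq_mul]
      push_cast
      linarith
    · have hwa1 : val R (w - a) ≤ 1 :=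
        val_le_one_of_isIntegral ⟨eR, heR⟩ (hw.sub (isIntegral_of_mem_adjoin (isIntegral_s hK hs hs') ha))
      have hB : eR * M ≤ B := by
        rw [← ramIdx_eq heR]
        exact Finset.single_le_sum (f := fun R => ramIdx R P * M) (fun _ _ => Nat.zero_le _)
          (hfin.mem_toFinset.mpr ⟨eR, heR⟩)
      refine (mul_le_of_le_one_right' hwa1).trans ((pow_le_pow_left₀ zero_le (hQ' R ⟨eR, heR⟩ hne) _).trans ?_)
      rw [← exp_nsmul, exp_le_exp, nsmul_eq_mul, nsmul_eq_mul]
      have : ((eR * M : ℕ) : ℤ) ≤ B := by exact_mod_cast hB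
      push_cast at this ⊢
      linarith
  have h1 := hM _ hq
  rw [mul_div_cancel₀ _ hT] at h1
  have h2 := add_mem h1 (mul_mem (pow_mem hmem B) ha)
  rwa [← mul_add, sub_add_cancel] at h2

include hres in
/-- The extremal element of the codifferent at `Q`. -/
theorem exists_inCodifferent [Algebra.IsSeparable K K'] :
    ∃ (z h : K'), InCodifferent P z ∧ val Q z = exp (Q.ord (aeval s (derivative (minpoly K s)))) ∧
      IsIntegral P.O h ∧ val Q h = 1 ∧ ∀ Q' : Place k K', IsOver Q' P → Q' ≠ Q → val Q' h ≤ exp (-1) := by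
  obtain ⟨h, hmem, hQ, hQ'⟩ := exists_separator hK he hs hs' hdeg
  obtain ⟨B, hB⟩ := exists_pow_separator_mul_mem hK he hs hs' hdeg hres hmem hQ hQ'
  have hne : aeval s (derivative (minpoly K s)) ≠ 0 :=
    (Algebra.IsSeparable.isSeparable K s).aeval_derivative_ne_zero (minpoly.aeval K s)
  refine ⟨(aeval s (derivative (minpoly K s)))⁻¹ * h ^ B, h, fun w hw => ?_, ?_,
    isIntegral_of_mem_adjoin (isIntegral_s hK hs hs') hmem, hQ, hQ'⟩
  · rw [mul_assoc]
    exact trace_div_derivative_le_one (adjoin_s_eq_top hK he hs hs' hdeg) (isIntegral_s hK hs hs') (hB w hw)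
  · rw [map_mul, map_inv₀, map_pow, hQ, one_pow, mul_one, val_eq Q hne, ← exp_neg, neg_neg]

include hres in
theorem codifferent_min [Algebra.IsSeparable K K'] :
    (∀ y : K', InCodifferent P y → val Q y ≤ exp (Q.ord (aeval s (derivative (minpoly K s))))) := by
  intro y hy
  have hne : aeval s (derivative (minpoly K s)) ≠ 0 :=
    (Algebra.IsSeparable.isSeparable K s).aeval_derivative_ne_zero (minpoly.aeval K s)
  have hsi := isIntegral_s hK hs hs'
  have h1 := val_le_one_of_isIntegral ⟨e, he⟩ (isIntegral_of_mem_adjoin hsi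
    (derivative_mul_mem (adjoin_s_eq_top hK he hs hs' hdeg) hsi fun a ha =>
      hy a (isIntegral_of_mem_adjoin hsi ha)))
  rw [map_mul, val_eq Q hne, ← le_inv_mul_iff₀ (zero_lt_iff.mpr exp_ne_zero), mul_one, ← exp_neg,
    neg_neg] at h1
  exact h1

include hres in
theorem le_ord_derivative [Algebra.IsSeparable K K'] {y : K'}
    (hy : IntermediateField.adjoin K ({y} : Set K') = ⊤) (hyi : IsIntegral P.O y) :
    Q.ord (aeval s (derivative (minpoly K s))) ≤ Q.ord (aeval y (derivative (minpoly K y))) ∧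
    (Q.ord (aeval y (derivative (minpoly K y))) = Q.ord (aeval s (derivative (minpoly K s))) →
      ∀ z : K', val Q z ≤ 1 → ∃ a ∈ Algebra.adjoin P.O ({y} : Set K'),
        ∃ b ∈ Algebra.adjoin P.O ({y} : Set K'), val Q b = 1 ∧ z * b = a) := by
  classical
  obtain ⟨z₀, h, hz₀, hv, hhi, hQ, hQ'⟩ := exists_inCodifferent hK he hs hs' hdeg hres
  have hne : aeval y (derivative (minpoly K y)) ≠ 0 :=
    (Algebra.IsSeparable.isSeparable K y).aeval_derivative_ne_zero (minpoly.aeval K y)
  have hb : ∀ w : K', IsIntegral P.O w →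
      aeval y (derivative (minpoly K y)) * (z₀ * w) ∈ Algebra.adjoin P.O ({y} : Set K') := fun w hw =>
    derivative_mul_mem hy hyi fun a ha => by
      rw [mul_assoc]; exact hz₀ _ (hw.mul (isIntegral_of_mem_adjoin hyi ha))
  have h1 := val_le_one_of_isIntegral ⟨e, he⟩ (isIntegral_of_mem_adjoin hyi (hb 1 isIntegral_one))
  rw [mul_one, map_mul, val_eq Q hne, hv, ← exp_add, ← exp_zero, exp_le_exp] at h1
  refine ⟨by omega, fun heq z hz => ?_⟩
  have hfin := (sum_ramIdx (K' := K') hK P).1
  set N := ∑ R ∈ hfin.toFinset, (-(R.ord z)).toNat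
  have hzh : IsIntegral P.O (z * h ^ N) := by
    refine (isIntegral_iff_forall hK _).mpr fun R hR => ?_
    rw [map_mul, map_pow]
    by_cases hne' : R = Q
    · subst hne'; rw [hQ, one_pow, mul_one]; exact hz
    · rcases eq_or_ne z 0 with rfl | hz0
      · simp
      refine (mul_le_mul_right (pow_le_pow_left₀ zero_le (hQ' R hR hne') _) _).trans ?_
      rw [val_eq R hz0, ← exp_nsmul, ← exp_add, ← exp_zero, exp_le_exp]
      have := Finset.single_le_sum (f := fun R => (-(R.ord z)).toNat) (fun _ _ => Nat.zero_le _)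
        (hfin.mem_toFinset.mpr hR)
      simp only [nsmul_eq_mul]
      omega
  refine ⟨_, hb _ hzh, _, hb _ (hhi.pow N), ?_, by ring⟩
  rw [map_mul, map_mul, map_pow, hQ, one_pow, mul_one, val_eq Q hne, hv, ← exp_add, heq, neg_add_cancel,
    exp_zero]

omit hK he hs hs' hdeg in
theorem trivialResidue_of_surjective {P : Place k K} {Q : Place k K'} [P.1.HasExtension Q.1]
    (hf : Function.Surjective (algebraMap (IsLocalRing.ResidueField P.O) (IsLocalRing.ResidueField Q.O))) :
    TrivialResidue P Q := fun w hw => by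
  obtain ⟨r, hr⟩ := hf (IsLocalRing.residue Q.O ⟨w, hw⟩)
  obtain ⟨c, rfl⟩ := IsLocalRing.residue_surjective r
  rw [IsLocalRing.ResidueField.algebraMap_residue] at hr
  refine ⟨c, c.2, ?_⟩
  exact (res_eq_zero_iff Q (⟨w, hw⟩ - algebraMap P.O Q.O c)).mp (by
    show IsLocalRing.residue Q.O _ = 0
    rw [map_sub, hr, sub_self])

omit hK he hs hs' hdeg in
theorem deg_le_of_hasExtension {P : Place k K} {Q : Place k K'} (hKfg : IsFG k K) [P.1.HasExtension Q.1]
    (hf : Function.Surjective (algebraMap (IsLocalRing.ResidueField P.O) (IsLocalRing.ResidueField Q.O))) :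
    Q.deg ≤ P.deg := deg_le_of_surjective hKfg _ hf fun c => by
  show algebraMap (IsLocalRing.ResidueField P.O) (IsLocalRing.ResidueField Q.O)
    (IsLocalRing.residue P.O (algebraMap k P.O c)) = IsLocalRing.residue Q.O (algebraMap k Q.O c)
  rw [← IsLocalRing.ResidueField.algebraMap_residue]
  refine congrArg (IsLocalRing.residue Q.O) (Subtype.ext ?_)
  exact (IsScalarTower.algebraMap_apply k K K' c).symm

end GrothLib.LocRes
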