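import Groth.Agent.Lib.LocRes.Basic
import Groth.Agent.Lib.FunFld.Basic
import Mathlib.RingTheory.PowerSeries.Trunc

/-!
Laurent expansions at a rational place.
-/

set_option autoImplicit false
set_option linter.style.haveILetI false

namespace GrothLib.FunFld

open _root_.FunFld WithZero
open scoped Polynomial

universe u v

variable {k : Type u} {K : Type v} [Field k] [Field K] [Algebra k K]

/-- The residue field of `P` is the constant field. -/
def IsRational (P : Place k K) : Prop :=
  Function.Bijective (algebraMap k (IsLocalRing.ResidueField P.O))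

/-- `q` is the Taylor series of `y` in `t`. -/
def IsTaylor (P : Place k K) (t y : K) (q : PowerSeries k) : Prop :=
  ∀ N : ℕ, val P (y - Polynomial.aeval t (PowerSeries.trunc N q)) ≤ exp (-(N : ℤ))

variable {P : Place k K} {t : K} (ht : val P t = exp (-1))

theorem val_aeval_le_one (ht1 : val P t ≤ 1) (p : k[X]) : val P (Polynomial.aeval t p) ≤ 1 := by
  induction p using Polynomial.induction_on' with
  | add p q hp hq => rw [map_add]; exact ((val P).map_add _ _).trans (max_le hp hq)
  | monomial n a =>
    rw [Polynomial.aeval_monomial, map_mul, map_pow]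
    exact mul_le_one' (P.2.1 a) (pow_le_one₀ zero_le ht1)

include ht

theorem val_t_le_one : val P t ≤ 1 := by rw [ht, ← exp_zero, exp_le_exp]; norm_num

theorem val_t_pow (N : ℕ) : val P (t ^ N) = exp (-(N : ℤ)) := by
  rw [map_pow, ht, ← exp_nsmul]; simp

theorem t_ne_zero : t ≠ 0 := fun h => by rw [h, map_zero] at ht; exact exp_ne_zero ht.symm

theorem val_aeval_le_of_coeff_eq_zero {p : k[X]} {N : ℕ} (hp : ∀ i < N, p.coeff i = 0) :
    val P (Polynomial.aeval t p) ≤ exp (-(N : ℤ)) := by
  obtain ⟨q, rfl⟩ := Polynomial.X_pow_dvd_iff.mpr hp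
  rw [map_mul, map_mul, map_pow, Polynomial.aeval_X, val_t_pow ht]
  exact mul_le_of_le_one_right' (val_aeval_le_one (val_t_le_one ht) q)

theorem isTaylor_unique {y : K} {q q' : PowerSeries k} (h : IsTaylor P t y q) (h' : IsTaylor P t y q') :
    q = q' := by
  ext n
  induction n using Nat.strong_induction_on with
  | _ n ih =>
    by_contra hne
    have h1 := ((val P).map_sub (y - Polynomial.aeval t (PowerSeries.trunc (n + 1) q'))
      (y - Polynomial.aeval t (PowerSeries.trunc (n + 1) q))).trans (max_le (h' (n + 1)) (h (n + 1)))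
    rw [sub_sub_sub_cancel_left, ← map_sub] at h1
    have hp : PowerSeries.trunc (n + 1) q - PowerSeries.trunc (n + 1) q' =
        Polynomial.C (PowerSeries.coeff n q - PowerSeries.coeff n q') * Polynomial.X ^ n := by
      ext i
      rw [Polynomial.coeff_sub, PowerSeries.coeff_trunc, PowerSeries.coeff_trunc,
        Polynomial.coeff_C_mul_X_pow]
      rcases lt_trichotomy i n with hi | rfl | hi
      · rw [if_pos (by omega), if_pos (by omega), if_neg (by omega), ih i hi, sub_self]
      · simp
      · rw [if_neg (by omega), if_neg (by omega), if_neg (by omega), sub_self]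
    rw [hp, map_mul, map_mul, Polynomial.aeval_C, map_pow, Polynomial.aeval_X,
      val_const P (sub_ne_zero.mpr hne), one_mul, val_t_pow ht, exp_le_exp] at h1
    push_cast at h1
    omega

theorem IsTaylor.add {y z : K} {q r : PowerSeries k} (h : IsTaylor P t y q) (h' : IsTaylor P t z r) :
    IsTaylor P t (y + z) (q + r) := fun N => by
  rw [map_add, map_add, add_sub_add_comm]
  exact ((val P).map_add _ _).trans (max_le (h N) (h' N))

theorem IsTaylor.mul {y z : K} {q r : PowerSeries k} (h : IsTaylor P t y q) (h' : IsTaylor P t z r) :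
    IsTaylor P t (y * z) (q * r) := fun N => by
  set A := Polynomial.aeval t (PowerSeries.trunc N q)
  set B := Polynomial.aeval t (PowerSeries.trunc N r)
  have hz : val P z ≤ 1 := by
    have := h' 0
    rwa [PowerSeries.trunc_zero', map_zero, sub_zero, Nat.cast_zero, neg_zero, exp_zero] at this
  have h3 : val P (A * B - Polynomial.aeval t (PowerSeries.trunc N (q * r))) ≤ exp (-(N : ℤ)) := by
    rw [← map_mul, ← map_sub]
    refine val_aeval_le_of_coeff_eq_zero ht fun i hi => ?_
    rw [Polynomial.coeff_sub, PowerSeries.coeff_trunc, if_pos hi,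
      PowerSeries.coeff_mul_eq_coeff_trunc_mul_trunc q r hi, ← Polynomial.coe_mul, Polynomial.coeff_coe,
      sub_self]
  have h1 : val P ((y - A) * z) ≤ exp (-(N : ℤ)) := by
    rw [map_mul]; exact (mul_le_of_le_one_right' hz).trans (h N)
  have h2 : val P (A * (z - B)) ≤ exp (-(N : ℤ)) := by
    rw [map_mul]; exact (mul_le_of_le_one_left' (val_aeval_le_one (val_t_le_one ht) _)).trans (h' N)
  rw [show y * z - Polynomial.aeval t (PowerSeries.trunc N (q * r)) =
    (y - A) * z + A * (z - B) + (A * B - Polynomial.aeval t (PowerSeries.trunc N (q * r))) by ring]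
  exact ((val P).map_add _ _).trans (max_le (((val P).map_add _ _).trans (max_le h1 h2)) h3)

theorem isTaylor_C (a : k) : IsTaylor P t (algebraMap k K a) (PowerSeries.C a) := fun N => by
  rcases N with _ | N
  · simpa [PowerSeries.trunc_zero'] using P.2.1 a
  · rw [PowerSeries.trunc_C, Polynomial.aeval_C, sub_self, map_zero]; exact zero_le

theorem isTaylor_X : IsTaylor P t t (PowerSeries.X) := fun N => by
  rcases N with _ | _ | N
  · simpa [PowerSeries.trunc_zero'] using val_t_le_one ht
  · rw [show PowerSeries.trunc 1 (PowerSeries.X : PowerSeries k) = 0 by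
      ext i; simp [PowerSeries.coeff_X]]
    simp [ht]
  · rw [PowerSeries.trunc_X, Polynomial.aeval_X, sub_self, map_zero]; exact zero_le

omit ht in
theorem exists_residue_const (hrat : IsRational P) (y : P.O) :
    ∃ a : k, val P ((y : K) - algebraMap k K a) < 1 := by
  obtain ⟨a, ha⟩ := hrat.2 (res P y)
  refine ⟨a, ?_⟩
  have : res P (y - algebraMap k P.O a) = 0 := by rw [map_sub, AlgHom.commutes, ha, sub_self]
  exact (res_eq_zero_iff P _).mp this

/-- The constant term. -/
noncomputable def cst (hrat : IsRational P) (y : P.O) : k := (exists_residue_const hrat y).choose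

/-- The shifted tail. -/
noncomputable def next (hrat : IsRational P) (y : P.O) : P.O :=
  ⟨((y : K) - algebraMap k K (cst hrat y)) / t, by
    show val P _ ≤ 1
    have h := (exists_residue_const hrat y).choose_spec
    rw [map_div₀, div_le_one₀ (by rw [ht]; exact zero_lt_iff.mpr exp_ne_zero), ht,
      show (-1 : ℤ) = 0 - 1 by norm_num, le_exp_sub_one_iff, exp_zero]
    exact h⟩

/-- The Taylor series. -/
noncomputable def taylor (hrat : IsRational P) (y : P.O) : PowerSeries k :=
  PowerSeries.mk fun i => cst hrat ((next ht hrat)^[i] y)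

theorem isTaylor_taylor (hrat : IsRational P) (y : P.O) : IsTaylor P t (y : K) (taylor ht hrat y) := by
  intro N
  have key : ∀ N, (y : K) - Polynomial.aeval t (PowerSeries.trunc N (taylor ht hrat y)) =
      t ^ N * (((next ht hrat)^[N] y : P.O) : K) := by
    intro N
    induction N with
    | zero => simp [PowerSeries.trunc_zero']
    | succ N ih =>
      rw [PowerSeries.trunc_succ, map_add, ← sub_sub, ih, Polynomial.aeval_monomial,
        Function.iterate_succ_apply']
      have ht0 := t_ne_zero ht
      simp only [taylor, PowerSeries.coeff_mk, next]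
      field_simp
      ring
  rw [key N, map_mul, val_t_pow ht]
  exact mul_le_of_le_one_right' ((next ht hrat)^[N] y).2

/-- The Taylor series as a ring map. -/
noncomputable def taylorHom (hrat : IsRational P) : P.O →+* PowerSeries k where
  toFun := taylor ht hrat
  map_one' := isTaylor_unique ht (isTaylor_taylor ht hrat 1) (by
    simpa using isTaylor_C (P := P) ht (1 : k))
  map_zero' := isTaylor_unique ht (isTaylor_taylor ht hrat 0) (by
    simpa using isTaylor_C (P := P) ht (0 : k))
  map_add' a b := isTaylor_unique ht (isTaylor_taylor ht hrat (a + b))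
    ((isTaylor_taylor ht hrat a).add ht (isTaylor_taylor ht hrat b))
  map_mul' a b := isTaylor_unique ht (isTaylor_taylor ht hrat (a * b))
    ((isTaylor_taylor ht hrat a).mul ht (isTaylor_taylor ht hrat b))

theorem taylorHom_injective (hrat : IsRational P) : Function.Injective (taylorHom ht hrat) := by
  rw [injective_iff_map_eq_zero]
  intro y hy
  have h := isTaylor_taylor ht hrat y
  by_contra hne
  have hy0 : (y : K) ≠ 0 := fun h0 => hne (Subtype.ext h0)
  obtain ⟨N, hN⟩ : ∃ N : ℕ, ¬ val P (y : K) ≤ exp (-(N : ℤ)) := by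
    refine ⟨(P.ord (y : K)).toNat + 1, ?_⟩
    rw [val_eq P hy0, exp_le_exp]
    push_cast
    omega
  have h1 := h N
  rw [show taylor ht hrat y = 0 from hy, map_zero, map_zero, sub_zero] at h1
  exact hN h1

theorem exists_expansion (hrat : IsRational P) :
    ∃ φ : K →ₐ[k] LaurentSeries k, _root_.LocRes.IsExpansionAt P.1 φ ∧
      φ t = HahnSeries.single 1 1 := by
  haveI : IsFractionRing P.O K := inferInstance
  let f : P.O →+* LaurentSeries k := (HahnSeries.ofPowerSeries ℤ k).comp (taylorHom ht hrat)
  have hf : Function.Injective f := HahnSeries.ofPowerSeries_injective.comp (taylorHom_injective ht hrat)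
  have hlift : ∀ y : P.O, IsFractionRing.lift hf (y : K) = f y := fun y =>
    IsFractionRing.lift_algebraMap hf y
  let φ : K →ₐ[k] LaurentSeries k :=
    { IsFractionRing.lift hf with
      commutes' := fun a => by
        show IsFractionRing.lift hf (algebraMap k K a) = _
        rw [← algebraMap_O_coe P a, hlift]
        show HahnSeries.ofPowerSeries ℤ k (taylor ht hrat (algebraMap k P.O a)) = _
        rw [isTaylor_unique ht (isTaylor_taylor ht hrat (algebraMap k P.O a)) (isTaylor_C ht a),
          HahnSeries.algebraMap_apply', PowerSeries.algebraMap_eq] }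
  have hφ : ∀ y : P.O, φ (y : K) = f y := hlift
  have htO : val P t ≤ 1 := val_t_le_one ht
  have hX : φ t = HahnSeries.single 1 1 := by
    rw [show t = ((⟨t, htO⟩ : P.O) : K) from rfl, hφ]
    show HahnSeries.ofPowerSeries ℤ k (taylor ht hrat ⟨t, htO⟩) = _
    rw [isTaylor_unique ht (isTaylor_taylor ht hrat ⟨t, htO⟩) (isTaylor_X ht), HahnSeries.ofPowerSeries_X]
  refine ⟨φ, ⟨fun y => ?_, fun a => ⟨algebraMap k K a, P.2.1 a, ?_⟩, t, ht⟩, hX⟩
  · have hle : ∀ y : K, val P y ≤ 1 → Valued.v (φ y) ≤ 1 := fun y hy => by
      rw [show y = ((⟨y, hy⟩ : P.O) : K) from rfl, hφ]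
      exact (LaurentSeries.val_le_one_iff_eq_coe k _).mpr ⟨_, rfl⟩
    rcases eq_or_ne y 0 with rfl | hy
    · simp
    set w := y / t ^ (P.ord y) with hw
    have ht0 := t_ne_zero ht
    have hvw : val P w = 1 := by
      rw [hw, map_div₀, map_zpow₀, ht, val_eq P hy, ← exp_zsmul]
      simp
    have h1 : Valued.v (φ w) = 1 := by
      refine le_antisymm (hle w hvw.le) ?_
      have h2 := hle w⁻¹ (by rw [map_inv₀, hvw, inv_one])
      have hw0 : w ≠ 0 := (val P).ne_zero_iff.mp (by rw [hvw]; exact one_ne_zero)
      rw [map_inv₀, map_inv₀] at h2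
      exact (inv_le_one₀ (zero_lt_iff.mpr ((Valuation.ne_zero_iff _).mpr ((map_ne_zero φ).mpr hw0)))).mp h2
    have hy' : y = t ^ (P.ord y) * w := by rw [hw, mul_div_cancel₀ _ (zpow_ne_zero _ ht0)]
    conv_lhs => rw [hy', map_mul, map_mul, map_zpow₀, map_zpow₀, h1, mul_one, hX,
      LaurentSeries.valuation_single_zpow]
    show _ = val P y
    rw [val_eq P hy, ← exp_zsmul]
    simp
  · rw [AlgHom.commutes, HahnSeries.algebraMap_apply', PowerSeries.algebraMap_eq,
      HahnSeries.ofPowerSeries_C, HahnSeries.C_apply, HahnSeries.coeff_single_same]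

end GrothLib.FunFld
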