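import Groth.Prelude.Def_LocRes
import Mathlib.RingTheory.MvPolynomial.Basic

/-!
Elementary residue calculus on formal Laurent series.
-/

universe u v w

open LaurentSeries HahnSeries

namespace GrothLib.LocRes

theorem coeff_pow_mul_derivative {R : Type u} [CommRing R] (u : PowerSeries R) (n m M : ℕ)
    (h : M + 1 = (n + 1) * m) :
    PowerSeries.coeff M (u ^ n * PowerSeries.derivative R u) =
      (m : R) * PowerSeries.coeff (M + 1) (u ^ (n + 1)) := by
  let U : PowerSeries (MvPolynomial ℕ ℤ) := PowerSeries.mk MvPolynomial.X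
  let g : MvPolynomial ℕ ℤ →+* R := MvPolynomial.eval₂Hom (Int.castRingHom R) fun i => PowerSeries.coeff i u
  have hU : PowerSeries.map g U = u := by ext i; simp [U, g]
  have hd : PowerSeries.map g (PowerSeries.derivative _ U) = PowerSeries.derivative R u := by
    ext i; simp [U, g, PowerSeries.coeff_derivative]
  have key : PowerSeries.coeff M (U ^ n * PowerSeries.derivative _ U) =
      (m : MvPolynomial ℕ ℤ) * PowerSeries.coeff (M + 1) (U ^ (n + 1)) := by
    refine mul_left_cancel₀ (Nat.cast_ne_zero.mpr n.succ_ne_zero : ((n + 1 : ℕ) : MvPolynomial ℕ ℤ) ≠ 0) ?_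
    calc ((n + 1 : ℕ) : MvPolynomial ℕ ℤ) * PowerSeries.coeff M (U ^ n * PowerSeries.derivative _ U)
        = PowerSeries.coeff M (PowerSeries.derivative _ (U ^ (n + 1))) := by
          rw [Derivation.leibniz_pow, Nat.add_sub_cancel, smul_eq_mul, nsmul_eq_mul,
            show ((n + 1 : ℕ) : PowerSeries (MvPolynomial ℕ ℤ)) =
              PowerSeries.C (((n + 1 : ℕ) : MvPolynomial ℕ ℤ)) from (map_natCast PowerSeries.C _).symm,
            PowerSeries.coeff_C_mul]
      _ = PowerSeries.coeff (M + 1) (U ^ (n + 1)) * ((M : MvPolynomial ℕ ℤ) + 1) :=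
          PowerSeries.coeff_derivative _ _
      _ = _ := by
          rw [show ((M : MvPolynomial ℕ ℤ) + 1) = ((n + 1 : ℕ) : MvPolynomial ℕ ℤ) * m by exact_mod_cast h]
          ring
  have := congrArg g key
  rw [← PowerSeries.coeff_map, map_mul g, map_natCast, ← PowerSeries.coeff_map, map_mul, map_pow,
    map_pow, hd, hU] at this
  exact this

variable {R : Type u} [CommRing R]

theorem D_single_mul (a : ℤ) (u : PowerSeries R) :
    _root_.LocRes.D R (single a 1 * (u : R⸨X⸩)) =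
      single a 1 * ((PowerSeries.derivative R u : PowerSeries R) : R⸨X⸩) +
        single (a - 1) (a : R) * (u : R⸨X⸩) := by
  rw [_root_.LocRes.D_apply, _root_.LocRes.derivative_single_mul, _root_.LocRes.derivative_coe,
    zsmul_one]

theorem coeff_coe_eq_zero (u : PowerSeries R) {i : ℤ} (hi : i < 0) : (u : R⸨X⸩).coeff i = 0 := by
  rw [PowerSeries.coeff_coe, if_pos hi]

theorem res_coe (u : PowerSeries R) : _root_.LocRes.res R (u : R⸨X⸩) = 0 :=
  coeff_coe_eq_zero u (by norm_num)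

theorem single_pow' (a : ℤ) (n : ℕ) : (single a (1 : R)) ^ n = single ((n : ℤ) * a) 1 := by
  rw [HahnSeries.single_pow, one_pow, nsmul_eq_mul]

theorem res_pow_mul_D (f : R⸨X⸩) (n : ℕ) : _root_.LocRes.res R (f ^ n * _root_.LocRes.D R f) = 0 := by
  obtain ⟨a, u, rfl⟩ : ∃ (a : ℤ) (u : PowerSeries R), f = single a 1 * (u : R⸨X⸩) :=
    ⟨_, _, f.single_order_mul_powerSeriesPart.symm⟩
  have e : (single a 1 * (u : R⸨X⸩)) ^ n * _root_.LocRes.D R (single a 1 * (u : R⸨X⸩)) =
      single (((n : ℤ) + 1) * a) 1 * ((u ^ n * PowerSeries.derivative R u : PowerSeries R) : R⸨X⸩) +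
        single (((n : ℤ) + 1) * a - 1) (a : R) * ((u ^ (n + 1) : PowerSeries R) : R⸨X⸩) := by
    rw [D_single_mul, mul_pow, single_pow', mul_add, pow_succ]
    simp only [PowerSeries.coe_mul, PowerSeries.coe_pow]
    congr 1
    · rw [mul_mul_mul_comm, HahnSeries.single_mul_single, mul_one, add_mul, one_mul]
    · rw [mul_mul_mul_comm, HahnSeries.single_mul_single, one_mul,
        show (n : ℤ) * a + (a - 1) = ((n : ℤ) + 1) * a - 1 by ring]
  rw [e, _root_.LocRes.res_apply, HahnSeries.coeff_add, HahnSeries.coeff_single_mul,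
    HahnSeries.coeff_single_mul, one_mul,
    show -1 - (((n : ℤ) + 1) * a - 1) = -(((n : ℤ) + 1) * a) by ring]
  rcases lt_trichotomy a 0 with ha | rfl | ha
  · obtain ⟨m, rfl⟩ : ∃ m : ℕ, a = -(((m + 1 : ℕ) : ℤ)) := ⟨(-a - 1).toNat, by omega⟩
    obtain ⟨M, hM⟩ : ∃ M : ℕ, M + 1 = (n + 1) * (m + 1) := ⟨(n + 1) * (m + 1) - 1,
      Nat.sub_add_cancel (Nat.one_le_iff_ne_zero.mpr (by simp))⟩
    have hM' : ((M : ℤ) + 1) = ((n : ℤ) + 1) * ((m + 1 : ℕ) : ℤ) := by exact_mod_cast hM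
    rw [show -1 - ((n : ℤ) + 1) * -((m + 1 : ℕ) : ℤ) = (M : ℤ) by rw [mul_neg, ← hM']; ring,
      show -(((n : ℤ) + 1) * -((m + 1 : ℕ) : ℤ)) = ((M + 1 : ℕ) : ℤ) by rw [mul_neg, ← hM']; push_cast; ring,
      LaurentSeries.coeff_coe_powerSeries, LaurentSeries.coeff_coe_powerSeries,
      coeff_pow_mul_derivative u n (m + 1) M hM]
    push_cast
    ring
  · rw [mul_zero, sub_zero, coeff_coe_eq_zero _ (by norm_num)]
    simp
  · have : 0 < ((n : ℤ) + 1) * a := mul_pos (by positivity) ha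
    rw [coeff_coe_eq_zero _ (by omega), coeff_coe_eq_zero _ (by omega)]
    simp

variable {F : Type u} [Field F]

theorem res_zpow_mul_D (f : F⸨X⸩) (n : ℤ) (hn : n ≠ 0) :
    _root_.LocRes.res F (f ^ (n - 1) * _root_.LocRes.D F f) = 0 := by
  rcases lt_or_gt_of_ne hn with hn | hn
  · rcases eq_or_ne f 0 with rfl | hf
    · simp
    obtain ⟨g, rfl⟩ : ∃ g, f = g⁻¹ := ⟨f⁻¹, (inv_inv f).symm⟩
    have hg : g ≠ 0 := fun h => hf (by simp [h])
    obtain ⟨m, rfl⟩ : ∃ m : ℕ, n = -((m : ℤ) + 1) := ⟨(-n - 1).toNat, by omega⟩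
    rw [show g⁻¹ ^ (-((m : ℤ) + 1) - 1) * _root_.LocRes.D F g⁻¹ =
        -(g ^ m * _root_.LocRes.D F g) by
      rw [Derivation.leibniz_inv, smul_eq_mul, inv_zpow',
        show -(-((m : ℤ) + 1) - 1) = ((m + 2 : ℕ) : ℤ) by push_cast; ring, zpow_natCast, inv_pow,
        pow_add]
      field_simp, map_neg, res_pow_mul_D, neg_zero]
  · obtain ⟨m, rfl⟩ : ∃ m : ℕ, n = (m : ℤ) + 1 := ⟨(n - 1).toNat, by omega⟩
    rw [add_sub_cancel_right, zpow_natCast, res_pow_mul_D]

theorem exists_eq_single_mul {f : F⸨X⸩} (hf : f ≠ 0) :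
    ∃ (a : ℤ) (u : PowerSeries F), PowerSeries.constantCoeff u ≠ 0 ∧
      f = single a 1 * (u : F⸨X⸩) ∧ Valued.v f = WithZero.exp (-a) := by
  have hc : PowerSeries.constantCoeff f.powerSeriesPart ≠ 0 := by
    rw [← PowerSeries.coeff_zero_eq_constantCoeff_apply, LaurentSeries.powerSeriesPart_coeff,
      Nat.cast_zero, add_zero]
    exact HahnSeries.coeff_order_eq_zero.not.mpr hf
  refine ⟨f.order, f.powerSeriesPart, hc, f.single_order_mul_powerSeriesPart.symm, ?_⟩
  conv_lhs => rw [← f.single_order_mul_powerSeriesPart]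
  rw [map_mul, LaurentSeries.valuation_single_zpow]
  refine (mul_eq_left₀ WithZero.exp_ne_zero).mpr ?_
  have h1 : Valued.v (f.powerSeriesPart : F⸨X⸩) ≤ 1 :=
    (LaurentSeries.val_le_one_iff_eq_coe F _).mpr ⟨_, rfl⟩
  have h2 : Valued.v ((f.powerSeriesPart⁻¹ : PowerSeries F) : F⸨X⸩) ≤ 1 :=
    (LaurentSeries.val_le_one_iff_eq_coe F _).mpr ⟨_, rfl⟩
  refine le_antisymm h1 ?_
  calc (1 : WithZero (Multiplicative ℤ))
      = Valued.v (f.powerSeriesPart : F⸨X⸩) * Valued.v ((f.powerSeriesPart⁻¹ : PowerSeries F) : F⸨X⸩) := by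
        rw [← map_mul, ← PowerSeries.coe_mul, PowerSeries.mul_inv_cancel _ hc, PowerSeries.coe_one, map_one]
    _ ≤ Valued.v (f.powerSeriesPart : F⸨X⸩) * 1 := mul_le_mul_right h2 _
    _ = _ := mul_one _

theorem res_inv_mul_D {f : F⸨X⸩} (hf : f ≠ 0) :
    _root_.LocRes.res F (f⁻¹ * _root_.LocRes.D F f) = ((-WithZero.log (Valued.v f) : ℤ) : F) := by
  obtain ⟨a, u, hu, rfl, hv⟩ := exists_eq_single_mul hf
  have hinv : (single a (1 : F) * (u : F⸨X⸩))⁻¹ = single (-a) 1 * ((u⁻¹ : PowerSeries F) : F⸨X⸩) := by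
    refine inv_eq_of_mul_eq_one_right ?_
    rw [mul_mul_mul_comm, HahnSeries.single_mul_single, add_neg_cancel, mul_one, ← PowerSeries.coe_mul,
      PowerSeries.mul_inv_cancel _ hu, PowerSeries.coe_one, mul_one]
    rfl
  rw [hv, WithZero.log_exp, neg_neg, hinv, D_single_mul, mul_add]
  simp only [mul_mul_mul_comm (single (-a) (1 : F)) ((u⁻¹ : PowerSeries F) : F⸨X⸩)]
  rw [HahnSeries.single_mul_single, HahnSeries.single_mul_single,
    ← PowerSeries.coe_mul, ← PowerSeries.coe_mul, PowerSeries.inv_mul_cancel _ hu, PowerSeries.coe_one,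
    neg_add_cancel, one_mul, one_mul, mul_one, show -a + (a - 1) = -1 by ring, _root_.LocRes.res_apply,
    HahnSeries.coeff_add, HahnSeries.coeff_single_same, HahnSeries.coeff_single_mul, sub_zero, one_mul,
    coeff_coe_eq_zero _ (by norm_num : (-1 : ℤ) < 0), zero_add]

theorem res_mul_D_eq_zero {f g : F⸨X⸩} (hf : Valued.v f ≤ 1) (hg : Valued.v g ≤ 1) :
    _root_.LocRes.res F (f * _root_.LocRes.D F g) = 0 := by
  obtain ⟨p, rfl⟩ := (LaurentSeries.val_le_one_iff_eq_coe F f).mp hf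
  obtain ⟨q, rfl⟩ := (LaurentSeries.val_le_one_iff_eq_coe F g).mp hg
  rw [_root_.LocRes.D_coe, ← PowerSeries.coe_mul, res_coe]

theorem D_eq_zero_iff [CharZero F] (f : F⸨X⸩) :
    _root_.LocRes.D F f = 0 ↔ f = HahnSeries.C (f.coeff 0) := by
  constructor
  · intro h
    ext n
    rw [HahnSeries.C_apply]
    rcases eq_or_ne n 0 with rfl | hn
    · rw [HahnSeries.coeff_single_same]
    · rw [HahnSeries.coeff_single_of_ne hn]
      have h1 := congrArg (fun s : F⸨X⸩ => s.coeff (n - 1)) h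
      simp only [_root_.LocRes.D_coeff, sub_add_cancel, HahnSeries.coeff_zero, zsmul_eq_mul,
        mul_eq_zero, Int.cast_eq_zero] at h1
      exact h1.resolve_left hn
  · intro h
    rw [h, _root_.LocRes.D_apply, _root_.LocRes.derivative_C]

theorem exists_D_eq_iff [CharZero F] (g : F⸨X⸩) :
    (∃ f, _root_.LocRes.D F f = g) ↔ _root_.LocRes.res F g = 0 := by
  constructor
  · rintro ⟨f, rfl⟩
    rw [_root_.LocRes.res_apply, _root_.LocRes.D_coeff]
    simp
  · intro h
    rcases eq_or_ne g 0 with rfl | hg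
    · exact ⟨0, map_zero _⟩
    let f : F⸨X⸩ := HahnSeries.ofSuppBddBelow (fun n => if n = 0 then 0 else g.coeff (n - 1) / (n : F))
      ⟨g.order + 1, fun n hn => by
        simp only [Function.mem_support, ne_eq, ite_eq_left_iff, not_forall] at hn
        obtain ⟨-, h2⟩ := hn
        by_contra hlt
        rw [HahnSeries.coeff_eq_zero_of_lt_order (by omega), zero_div] at h2
        exact h2 rfl⟩
    refine ⟨f, ?_⟩
    ext n
    rw [_root_.LocRes.D_coeff, zsmul_eq_mul]
    show _ * (if n + 1 = 0 then 0 else g.coeff (n + 1 - 1) / ((n + 1 : ℤ) : F)) = g.coeff n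
    split_ifs with hn
    · obtain rfl : n = -1 := by omega
      rw [mul_zero]
      exact h.symm
    · rw [add_sub_cancel_right, mul_div_cancel₀]
      exact_mod_cast hn

end GrothLib.LocRes
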