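import Groth.Agent.Lib.LocRes.Diff
import Mathlib.RingTheory.Unramified.Field

/-!
The coefficient field of a Laurent expansion at a place of a geometric function field is separable.
-/

set_option autoImplicit false
set_option linter.style.haveILetI false

namespace GrothLib.LocRes

open LaurentSeries
open GrothLib.FunFld

universe u v w

variable {k : Type u} {K : Type v} {F : Type w} [Field k] [Field K] [Field F] [Algebra k K] [Algebra k F]

theorem coeff_zero_mul_coe {f : F⸨X⸩} (hf : Valued.v f ≤ 1) (u : PowerSeries F) :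
    (f * (u : F⸨X⸩)).coeff 0 = f.coeff 0 * PowerSeries.constantCoeff u := by
  obtain ⟨p, rfl⟩ := (LaurentSeries.val_le_one_iff_eq_coe F f).mp hf
  rw [← PowerSeries.coe_mul, PowerSeries.coeff_coe, PowerSeries.coeff_coe, if_neg (lt_irrefl 0),
    if_neg (lt_irrefl 0), Int.natAbs_zero, PowerSeries.coeff_zero_eq_constantCoeff, map_mul]

variable {P : _root_.FunFld.Place k K} {φ : K →ₐ[k] F⸨X⸩} (hφ : _root_.LocRes.IsExpansionAt P.1 φ)
include hφ

theorem exists_val_eq_exp (n : ℤ) : ∃ y : K, y ≠ 0 ∧ Valued.v (φ y) = WithZero.exp n := by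
  obtain ⟨y, hy0, hy⟩ := exists_val_eq P n
  exact ⟨y, hy0, by rw [hφ.1]; exact hy⟩

/-- The image of `K` is dense in the Laurent series. -/
theorem exists_approx (z : F⸨X⸩) (hz : Valued.v z ≤ 1) (N : ℕ) :
    ∃ f : K, Valued.v (z - φ f) ≤ WithZero.exp (-(N : ℤ)) := by
  induction N with
  | zero => exact ⟨0, by simpa using hz⟩
  | succ N ih =>
    obtain ⟨f, hf⟩ := ih
    obtain ⟨t, -, ht⟩ := exists_val_eq_exp hφ (-(N : ℤ))
    have ht0 : φ t ≠ 0 := fun h => by rw [h, map_zero] at ht; exact WithZero.exp_ne_zero ht.symm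
    have hq : Valued.v ((z - φ f) / φ t) ≤ 1 := by
      rw [map_div₀, ht]
      exact (div_le_one₀ (zero_lt_iff.mpr WithZero.exp_ne_zero)).mpr hf
    obtain ⟨g, hg, hg0⟩ := hφ.2.1 (((z - φ f) / φ t).coeff 0)
    refine ⟨f + t * g, ?_⟩
    rw [show z - φ (f + t * g) = φ t * ((z - φ f) / φ t - φ g) by
      rw [map_add, map_mul, mul_sub, mul_div_cancel₀ _ ht0]; ring, map_mul, ht,
      show -((N + 1 : ℕ) : ℤ) = -(N : ℤ) + (-1) by push_cast; ring, WithZero.exp_add]
    refine mul_le_mul_right ?_ _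
    refine (LaurentSeries.valuation_le_iff_coeff_lt_eq_zero F).mpr fun i hi => ?_
    rcases lt_or_eq_of_le (show i ≤ 0 by omega) with hi' | rfl
    · have hg' : Valued.v (φ g) ≤ 1 := by rw [hφ.1]; exact hg
      obtain ⟨p, hp⟩ := (LaurentSeries.val_le_one_iff_eq_coe F _).mp hq
      obtain ⟨q, hq'⟩ := (LaurentSeries.val_le_one_iff_eq_coe F _).mp hg'
      rw [HahnSeries.coeff_sub, ← hp, ← hq', coeff_coe_eq_zero _ hi', coeff_coe_eq_zero _ hi', sub_zero]
    · rw [HahnSeries.coeff_sub, hg0, sub_self]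

theorem D_map_ne_zero_of_span {x : K}
    (hD : ∀ y : K, ∃ c : K, c • KaehlerDifferential.D k K x = KaehlerDifferential.D k K y) :
    _root_.LocRes.D F (φ x) ≠ 0 := by
  intro h
  obtain ⟨t, -, ht⟩ := exists_val_eq_exp hφ (-1)
  obtain ⟨c, hc⟩ := hD t
  have hDt : _root_.LocRes.D F (φ t) = 0 := by rw [D_eq_mul_of_smul φ hc, h, mul_zero]
  obtain ⟨a, u, hu, hut, hv⟩ := exists_eq_single_mul (f := φ t)
    (fun h0 => by rw [h0, map_zero] at ht; exact WithZero.exp_ne_zero ht.symm)
  rw [ht, WithZero.exp_inj, neg_inj] at hv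
  subst hv
  have h1 := congrArg (fun s : F⸨X⸩ => s.coeff 0) hDt
  simp only [HahnSeries.coeff_zero, _root_.LocRes.D_coeff] at h1
  rw [zero_add, one_smul, hut, HahnSeries.coeff_single_mul, one_mul, sub_self,
    PowerSeries.coeff_coe, if_neg (lt_irrefl 0)] at h1
  exact hu (by simpa [PowerSeries.coeff_zero_eq_constantCoeff] using h1)

theorem D_map_ne_zero (hK : IsFG k K) (hg : _root_.FunFld.IsGeometric k K) {x : K}
    (hx : KaehlerDifferential.D k K x ≠ 0) : _root_.LocRes.D F (φ x) ≠ 0 :=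
  D_map_ne_zero_of_span hφ fun y => exists_D_eq hK hg hx y

/-- The coefficient field is separable over `k`, if one exact differential spans all. -/
theorem isSeparable_coeffField_of_span [FiniteDimensional k F] {x : K}
    (hD : ∀ y : K, ∃ c : K, c • KaehlerDifferential.D k K x = KaehlerDifferential.D k K y) :
    Algebra.IsSeparable k F := by
  suffices Algebra.FormallyUnramified k F from Algebra.FormallyUnramified.isSeparable k F
  by_contra hns
  -- a nonzero derivation of `F`
  have : ¬ Subsingleton Ω[F⁄k] := fun h => hns ⟨h⟩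
  haveI := not_subsingleton_iff_nontrivial.mp this
  have hne : ∃ (δ : Derivation k F F) (a : F), δ a ≠ 0 := by
    by_contra hall
    push_neg at hall
    obtain ⟨w, hw⟩ := exists_ne (0 : Ω[F⁄k])
    obtain ⟨l, hl⟩ : ∃ l : Ω[F⁄k] →ₗ[F] F, l w ≠ 0 := by
      by_contra h
      push_neg at h
      exact hw ((Module.forall_dual_apply_eq_zero_iff F w).mp h)
    refine hl ?_
    have : l = 0 := by
      refine LinearMap.ext_on (KaehlerDifferential.span_range_derivation k F) ?_
      rintro _ ⟨a, rfl⟩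
      exact hall (l.compDer (KaehlerDifferential.D k F)) a
    rw [this]; rfl
  obtain ⟨δ, a, ha⟩ := hne
  -- the coefficientwise derivation
  let Δ : F⸨X⸩ → F⸨X⸩ := fun s => HahnSeries.map s δ.toLinearMap.toAddMonoidHom
  have hΔc : ∀ (s : F⸨X⸩) i, (Δ s).coeff i = δ (s.coeff i) := fun s i => rfl
  have hΔadd : ∀ s s' : F⸨X⸩, Δ (s + s') = Δ s + Δ s' := fun s s' => by
    ext i; simp [hΔc]
  have hΔmul : ∀ s s' : F⸨X⸩, Δ (s * s') = s * Δ s' + s' * Δ s := fun s s' => by
    have hsub : ∀ r : F⸨X⸩, (Δ r).support ⊆ r.support := fun r i hi h0 => hi (by rw [hΔc, h0, map_zero])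
    ext i
    rw [hΔc, HahnSeries.coeff_add, mul_comm s' (Δ s),
      HahnSeries.coeff_mul (x := s) (y := s'),
      HahnSeries.coeff_mul_right' s'.isPWO_support (hsub s'),
      HahnSeries.coeff_mul_left' s.isPWO_support (hsub s), map_sum, ← Finset.sum_add_distrib]
    refine Finset.sum_congr rfl fun p _ => ?_
    rw [Derivation.leibniz, hΔc, hΔc, smul_eq_mul, smul_eq_mul]
    ring
  have hΔle : ∀ (s : F⸨X⸩) (n : ℤ), Valued.v s ≤ WithZero.exp (-n) → Valued.v (Δ s) ≤ WithZero.exp (-n) :=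
    fun s n hs => (LaurentSeries.valuation_le_iff_coeff_lt_eq_zero F).mpr fun i hi => by
      rw [hΔc, (LaurentSeries.valuation_le_iff_coeff_lt_eq_zero F).mp hs i hi, map_zero]
  have hDle : ∀ (s : F⸨X⸩) (n : ℤ), Valued.v s ≤ WithZero.exp (-n) →
      Valued.v (_root_.LocRes.D F s) ≤ WithZero.exp (-(n - 1)) :=
    fun s n hs => (LaurentSeries.valuation_le_iff_coeff_lt_eq_zero F).mpr fun i hi => by
      rw [_root_.LocRes.D_coeff, (LaurentSeries.valuation_le_iff_coeff_lt_eq_zero F).mp hs _ (by omega),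
        smul_zero]
  have hΔC : ∀ b : F, Δ (HahnSeries.C b) = HahnSeries.C (δ b) := fun b => by
    ext i
    rw [hΔc, HahnSeries.C_apply, HahnSeries.C_apply, HahnSeries.coeff_single, HahnSeries.coeff_single]
    split_ifs <;> simp
  -- `Δ ∘ φ = r · D ∘ φ`
  have hrel : ∀ y c : K, c • KaehlerDifferential.D k K x = KaehlerDifferential.D k K y →
      Δ (φ y) = φ c * Δ (φ x) := by
    intro y c h
    letI : Algebra K F⸨X⸩ := φ.toRingHom.toAlgebra
    letI : SMul k F⸨X⸩ := Algebra.toSMul
    letI : Module k F⸨X⸩ := Algebra.toModule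
    haveI : IsScalarTower k K F⸨X⸩ := IsScalarTower.of_algebraMap_eq fun a => (φ.commutes a).symm
    let d : Derivation k K F⸨X⸩ := Derivation.mk'
      { toFun := fun z => Δ (φ z)
        map_add' := fun a b => by rw [map_add, hΔadd]
        map_smul' := fun a z => by
          rw [RingHom.id_apply, Algebra.smul_def a z, map_mul, AlgHom.commutes,
            Algebra.smul_def a (Δ (φ z)), ← φ.commutes a, _root_.LocRes.map_algebraMap, hΔmul, hΔC,
            Derivation.map_algebraMap, map_zero, mul_zero, add_zero] }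
      fun a b => by
        show Δ (φ (a * b)) = φ a * Δ (φ b) + φ b * Δ (φ a)
        rw [map_mul, hΔmul]
    have := congrArg d.liftKaehlerDifferential h
    rw [map_smul, Derivation.liftKaehlerDifferential_comp_D, Derivation.liftKaehlerDifferential_comp_D,
      Algebra.smul_def] at this
    exact this.symm
  set r := Δ (φ x) / _root_.LocRes.D F (φ x) with hr
  have hDx := D_map_ne_zero_of_span hφ hD
  have hΔr : ∀ y : K, Δ (φ y) = r * _root_.LocRes.D F (φ y) := fun y => by
    obtain ⟨c, hc⟩ := hD y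
    rw [hrel y c hc, D_eq_mul_of_smul φ hc, hr, div_mul_eq_mul_div, mul_left_comm,
      mul_div_assoc, mul_div_cancel_right₀ _ hDx]
  obtain ⟨N, hN⟩ : ∃ N : ℕ, Valued.v r * WithZero.exp (-((N : ℤ) - 1)) < 1 := by
    rcases eq_or_ne (Valued.v r) 0 with h0 | h0
    · exact ⟨0, by rw [h0, zero_mul]; exact zero_lt_one⟩
    · refine ⟨(WithZero.log (Valued.v r)).toNat + 2, ?_⟩
      rw [← WithZero.exp_log h0, ← WithZero.exp_add, ← WithZero.exp_zero, WithZero.exp_lt_exp,
        WithZero.log_exp]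
      push_cast
      omega
  obtain ⟨f, hf⟩ := exists_approx hφ (HahnSeries.C a)
    ((LaurentSeries.val_le_one_iff_eq_coe F _).mpr ⟨PowerSeries.C a, by simp⟩) (N + 1)
  have hfs : φ f = HahnSeries.C a + -(HahnSeries.C a - φ f) := by ring
  set s := -(HahnSeries.C a - φ f) with hs
  have hs' : Valued.v s ≤ WithZero.exp (-((N + 1 : ℕ) : ℤ)) := by rwa [hs, Valuation.map_neg]
  have h := hΔr f
  rw [hfs, hΔadd, hΔC, map_add, D_C, zero_add] at h
  have h2 : Valued.v (HahnSeries.C (δ a) : F⸨X⸩) < 1 := by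
    rw [eq_sub_of_add_eq h]
    refine lt_of_le_of_lt ((Valued.v).map_sub _ _) (max_lt ?_ ?_)
    · rw [map_mul]
      refine lt_of_le_of_lt (mul_le_mul_right (hDle s _ hs') _) (lt_of_le_of_lt ?_ hN)
      refine mul_le_mul_right (WithZero.exp_le_exp.mpr ?_) _
      push_cast; omega
    · refine lt_of_le_of_lt (hΔle s _ hs') ?_
      rw [← WithZero.exp_zero, WithZero.exp_lt_exp]; push_cast; omega
  have h3 := (LaurentSeries.valuation_le_iff_coeff_lt_eq_zero F (D := 1)).mp (show
      Valued.v (HahnSeries.C (δ a) : F⸨X⸩) ≤ WithZero.exp (-(1 : ℤ)) by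
    rw [show -(1 : ℤ) = 0 - 1 by ring, le_exp_sub_one_iff, WithZero.exp_zero]; exact h2) 0 one_pos
  rw [HahnSeries.C_apply, HahnSeries.coeff_single_same] at h3
  exact ha h3

/-- The coefficient field is separable over `k`. -/
theorem isSeparable_coeffField (hK : IsFG k K) (hg : _root_.FunFld.IsGeometric k K)
    [FiniteDimensional k F] : Algebra.IsSeparable k F := by
  obtain ⟨x, -, hsep⟩ := exists_separatingElement hK hg
  exact isSeparable_coeffField_of_span hφ fun y =>
    exists_D_eq hK hg (D_ne_zero_of_isSeparable hK hsep) y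

theorem exists_locRes_ne_zero (hK : IsFG k K) (hg : _root_.FunFld.IsGeometric k K)
    [FiniteDimensional k F] {x : K} (hx : KaehlerDifferential.D k K x ≠ 0) :
    ∃ y : K, _root_.LocRes.locRes φ y x ≠ 0 := by
  haveI := isSeparable_coeffField hφ hK hg
  obtain ⟨b, hb⟩ : ∃ b : F, Algebra.trace k F b ≠ 0 := by
    by_contra h
    push_neg at h
    exact Algebra.trace_ne_zero k F (LinearMap.ext h)
  have hDx := D_map_ne_zero hφ hK hg hx
  obtain ⟨m, u, hu, hDu, -⟩ := exists_eq_single_mul hDx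
  obtain ⟨t, -, ht⟩ := exists_val_eq_exp hφ (m + 1)
  have ht0 : φ t ≠ 0 := fun h => by rw [h, map_zero] at ht; exact WithZero.exp_ne_zero ht.symm
  obtain ⟨a, w, hw, htw, hv⟩ := exists_eq_single_mul ht0
  rw [ht, WithZero.exp_inj] at hv
  obtain ⟨g, hg1, hg0⟩ := hφ.2.1 (b / (PowerSeries.constantCoeff (w * u)))
  refine ⟨g * t, ?_⟩
  have : _root_.LocRes.resExp φ (g * t) x = b := by
    rw [_root_.LocRes.resExp, _root_.LocRes.res_apply, map_mul φ, htw, hDu,
      show φ g * (HahnSeries.single a 1 * (w : F⸨X⸩)) * (HahnSeries.single m 1 * (u : F⸨X⸩)) =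
        HahnSeries.single (a + m) 1 * (φ g * ((w * u : PowerSeries F) : F⸨X⸩)) by
        rw [PowerSeries.coe_mul, ← one_mul (1 : F), ← HahnSeries.single_mul_single, one_mul]; ring,
      HahnSeries.coeff_single_mul, one_mul, show -1 - (a + m) = 0 by omega,
      coeff_zero_mul_coe (by rw [hφ.1]; exact hg1), hg0, div_mul_cancel₀]
    rw [map_mul]; exact mul_ne_zero hw hu
  rw [_root_.LocRes.locRes, this]
  exact hb

end GrothLib.LocRes
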