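import Groth.Agent.Lib.LocRes.Basic
import Groth.Agent.Lib.FunFld.Separating

/-!
Differentials read through a Laurent expansion.
-/

set_option autoImplicit false
set_option linter.style.haveILetI false

namespace GrothLib.LocRes

open LaurentSeries
open GrothLib.FunFld

universe u v w

variable {k : Type u} {K : Type v} {F : Type w} [Field k] [Field K] [Field F] [Algebra k K] [Algebra k F]
  (φ : K →ₐ[k] F⸨X⸩)

omit [Field K] in
theorem D_C (a : F) : _root_.LocRes.D F (HahnSeries.C a) = 0 := by
  rw [_root_.LocRes.D_apply, _root_.LocRes.derivative_C]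

/-- A relation between exact differentials persists in any Laurent expansion. -/
theorem D_eq_mul_of_smul {x y c : K}
    (h : c • KaehlerDifferential.D k K x = KaehlerDifferential.D k K y) :
    _root_.LocRes.D F (φ y) = φ c * _root_.LocRes.D F (φ x) := by
  letI : Algebra K F⸨X⸩ := φ.toRingHom.toAlgebra
  letI : SMul k F⸨X⸩ := Algebra.toSMul
  letI : Module k F⸨X⸩ := Algebra.toModule
  haveI : IsScalarTower k K F⸨X⸩ := IsScalarTower.of_algebraMap_eq fun a => (φ.commutes a).symm
  let d : Derivation k K F⸨X⸩ := Derivation.mk'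
    { toFun := fun z => _root_.LocRes.D F (φ z)
      map_add' := fun a b => by rw [map_add, map_add]
      map_smul' := fun a z => by
        rw [RingHom.id_apply, Algebra.smul_def a z, map_mul, AlgHom.commutes,
          Derivation.leibniz, Algebra.smul_def a (_root_.LocRes.D F (φ z)), ← φ.commutes a,
          _root_.LocRes.map_algebraMap, D_C, smul_zero, add_zero, smul_eq_mul] }
    fun a b => by
      show _root_.LocRes.D F (φ (a * b)) = φ a * _root_.LocRes.D F (φ b) + φ b * _root_.LocRes.D F (φ a)
      rw [map_mul, Derivation.leibniz, smul_eq_mul, smul_eq_mul]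
  have := congrArg d.liftKaehlerDifferential h
  rw [map_smul, Derivation.liftKaehlerDifferential_comp_D, Derivation.liftKaehlerDifferential_comp_D,
    Algebra.smul_def] at this
  exact this.symm

theorem D_ne_zero_of_vDiff_ne_zero {u x : K} (h : _root_.LocRes.vDiff φ u x ≠ 0) :
    KaehlerDifferential.D k K x ≠ 0 := fun h0 => h <| by
  have := D_eq_mul_of_smul φ (x := x) (y := x) (c := 0) (by rw [h0, smul_zero])
  rw [map_zero, zero_mul] at this
  rw [_root_.LocRes.vDiff, this, mul_zero, map_zero]

theorem exists_D_eq (hK : IsFG k K) (hg : _root_.FunFld.IsGeometric k K) {x : K}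
    (hx : KaehlerDifferential.D k K x ≠ 0) (y : K) :
    ∃ c : K, c • KaehlerDifferential.D k K x = KaehlerDifferential.D k K y := by
  haveI := (isSeparable_iff_D_ne_zero hK hg x).mpr hx
  exact Submodule.mem_span_singleton.mp
    (span_D_eq_top (k := k) x ▸ Submodule.mem_top : KaehlerDifferential.D k K y ∈ _)

theorem ordDiff_one_eq {x y c : K}
    (h : c • KaehlerDifferential.D k K x = KaehlerDifferential.D k K y)
    (hc : Valued.v (φ c) ≠ 0) (hx : _root_.LocRes.vDiff φ 1 x ≠ 0) :
    _root_.LocRes.ordDiff φ 1 y = -WithZero.log (Valued.v (φ c)) + _root_.LocRes.ordDiff φ 1 x := by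
  simp only [_root_.LocRes.ordDiff, _root_.LocRes.vDiff, map_one, one_mul] at hx ⊢
  rw [D_eq_mul_of_smul φ h, map_mul, WithZero.log_mul hc hx, neg_add]

end GrothLib.LocRes
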