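import Groth.Agent.Lib.LocRes.CoeffField
import Groth.Prelude.Def_W4bk4goldsch23Ext

/-!
The different exponent through Laurent expansions.
-/

set_option autoImplicit false
set_option linter.style.haveILetI false

namespace GrothLib.LocRes

open LaurentSeries
open GrothLib.FunFld

universe u v v' w

variable {k : Type u} {K : Type v} {K' : Type v'} {F F' : Type w} [Field k] [Field K] [Field K'] [Field F] [Field F']
  [Algebra k K] [Algebra K K'] [Algebra k K'] [IsScalarTower k K K'] [Algebra k F] [Algebra k F']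

theorem algebraMap_smul_D {x y c : K}
    (h : c • KaehlerDifferential.D k K x = KaehlerDifferential.D k K y) :
    algebraMap K K' c • KaehlerDifferential.D k K' (algebraMap K K' x) =
      KaehlerDifferential.D k K' (algebraMap K K' y) := by
  have := congrArg (KaehlerDifferential.map k k K K') h
  rwa [map_smul, KaehlerDifferential.map_D, KaehlerDifferential.map_D, ← algebraMap_smul K' c] at this

theorem ne_zero_of_isOverWith {P : _root_.FunFld.Place k K} {Q : _root_.FunFld.Place k K'} {e : ℕ}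
    (he : _root_.FunFld.IsOverWith Q P e) : e ≠ 0 := fun h => by
  have := he 0
  rw [h, map_zero, map_zero, map_zero, pow_zero] at this
  exact zero_ne_one this

theorem diffExp_indep (hK : IsFG k K) (hg : _root_.FunFld.IsGeometric k K)
    {P : _root_.FunFld.Place k K} {Q : _root_.FunFld.Place k K'} {e : ℕ}
    (he : _root_.FunFld.IsOverWith Q P e)
    {φ : K →ₐ[k] F⸨X⸩} (hφ : _root_.LocRes.IsExpansionAt P.1 φ)
    {ψ : K' →ₐ[k] F'⸨X⸩} (hψ : _root_.LocRes.IsExpansionAt Q.1 ψ)
    {x : K} (hx : _root_.LocRes.vDiff φ 1 x ≠ 0)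
    (hx' : _root_.LocRes.vDiff ψ 1 (algebraMap K K' x) ≠ 0)
    {x' : K} (hx2 : _root_.LocRes.vDiff φ 1 x' ≠ 0) :
    _root_.LocRes.diffExp φ ψ e x' = _root_.LocRes.diffExp φ ψ e x ∧
      _root_.LocRes.vDiff ψ 1 (algebraMap K K' x') ≠ 0 := by
  obtain ⟨c, hc⟩ := exists_D_eq hK hg (D_ne_zero_of_vDiff_ne_zero φ hx) x'
  have hc0 : c ≠ 0 := fun h => by
    rw [h, zero_smul] at hc
    exact D_ne_zero_of_vDiff_ne_zero φ hx2 hc.symm
  have h1 : P.1 c ≠ 0 := (Valuation.ne_zero_iff _).mpr hc0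
  have hψc := algebraMap_smul_D (K' := K') hc
  have h2 : Valued.v (ψ (algebraMap K K' c)) ≠ 0 := by rw [hψ.1, he]; exact pow_ne_zero _ h1
  refine ⟨?_, ?_⟩
  · rw [_root_.LocRes.diffExp, _root_.LocRes.diffExp, ordDiff_one_eq φ hc (by rwa [hφ.1]) hx,
      ordDiff_one_eq ψ hψc h2 hx', hφ.1, hψ.1, he, WithZero.log_pow]
    simp only [nsmul_eq_mul, Nat.cast_id]
    ring
  · simp only [_root_.LocRes.vDiff, map_one, one_mul] at hx' ⊢
    rw [D_eq_mul_of_smul ψ hψc, map_mul]
    exact mul_ne_zero h2 hx'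

omit [IsScalarTower k K K'] in
/-- Order of `df` against order of `f`. -/
theorem val_D_of_val {f : F⸨X⸩} {n : ℤ} (hf : Valued.v f = WithZero.exp (-n)) :
    ((n : F) ≠ 0 → Valued.v (_root_.LocRes.D F f) = WithZero.exp (-(n - 1))) ∧
      ((n : F) = 0 → Valued.v (_root_.LocRes.D F f) ≤ WithZero.exp (-n)) := by
  obtain ⟨a, u, hu, rfl, hv⟩ := exists_eq_single_mul (f := f)
    (fun h => by rw [h, map_zero] at hf; exact WithZero.exp_ne_zero hf.symm)
  rw [hf, WithZero.exp_inj, neg_inj] at hv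
  subst hv
  have hlow : ∀ w : PowerSeries F, ∀ (i : ℤ), i < n →
      (HahnSeries.single n (1 : F) * (w : F⸨X⸩)).coeff i = 0 := fun w i hi => by
    rw [HahnSeries.coeff_single_mul, one_mul, coeff_coe_eq_zero _ (by omega)]
  have hcoeff : ∀ i : ℤ, i < n → (_root_.LocRes.D F (HahnSeries.single n (1 : F) * (u : F⸨X⸩))).coeff i =
      if i = n - 1 then (n : F) * PowerSeries.constantCoeff u else 0 := fun i hi => by
    rw [_root_.LocRes.D_coeff]
    rcases eq_or_ne i (n - 1) with rfl | hne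
    · rw [if_pos rfl, sub_add_cancel, HahnSeries.coeff_single_mul, one_mul, sub_self, PowerSeries.coeff_coe,
        if_neg (lt_irrefl 0), zsmul_eq_mul]
      simp
    · rw [if_neg hne, hlow u _ (by omega), smul_zero]
  refine ⟨fun hn => le_antisymm ?_ ?_, fun hn => ?_⟩
  · exact (LaurentSeries.valuation_le_iff_coeff_lt_eq_zero F).mpr fun i hi => by
      rw [hcoeff i (by omega), if_neg (by omega)]
  · by_contra hlt
    rw [not_le] at hlt
    have h2 : Valued.v (_root_.LocRes.D F (HahnSeries.single n (1 : F) * (u : F⸨X⸩))) ≤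
        WithZero.exp (-n) := by
      rwa [show -n = -(n - 1) - 1 by ring, le_exp_sub_one_iff]
    have := (LaurentSeries.valuation_le_iff_coeff_lt_eq_zero F).mp h2 (n - 1) (by omega)
    rw [hcoeff _ (by omega), if_pos rfl] at this
    exact mul_ne_zero hn hu this
  · exact (LaurentSeries.valuation_le_iff_coeff_lt_eq_zero F).mpr fun i hi => by
      rw [hcoeff i hi]
      split_ifs <;> simp [hn]

theorem diffExp_tame (hK : IsFG k K) (hg : _root_.FunFld.IsGeometric k K)
    {P : _root_.FunFld.Place k K} {Q : _root_.FunFld.Place k K'} {e : ℕ}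
    (he : _root_.FunFld.IsOverWith Q P e)
    {φ : K →ₐ[k] F⸨X⸩} (hφ : _root_.LocRes.IsExpansionAt P.1 φ)
    {ψ : K' →ₐ[k] F'⸨X⸩} (hψ : _root_.LocRes.IsExpansionAt Q.1 ψ)
    {x : K} (hx : _root_.LocRes.vDiff φ 1 x ≠ 0)
    (hx' : _root_.LocRes.vDiff ψ 1 (algebraMap K K' x) ≠ 0) :
    (¬ (ringChar K ∣ e) → _root_.LocRes.diffExp φ ψ e x = (e : ℤ) - 1) ∧
      (ringChar K ∣ e → (e : ℤ) ≤ _root_.LocRes.diffExp φ ψ e x) := by
  obtain ⟨t, -, ht⟩ := exists_val_eq_exp hφ (-1)
  have hDt : Valued.v (_root_.LocRes.D F (φ t)) = WithZero.exp (-((1 : ℤ) - 1)) :=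
    (val_D_of_val (n := 1) (by rw [ht])).1 (by simp)
  have htd : _root_.LocRes.vDiff φ 1 t ≠ 0 := by
    rw [_root_.LocRes.vDiff, map_one, one_mul, hDt]; exact WithZero.exp_ne_zero
  obtain ⟨heq, htd'⟩ := diffExp_indep hK hg he hφ hψ hx hx' htd
  have htv : Valued.v (ψ (algebraMap K K' t)) = WithZero.exp (-(e : ℤ)) := by
    rw [hψ.1, he, ← hφ.1, ht, ← WithZero.exp_nsmul]; simp
  have hchar : ringChar K ∣ e ↔ ((e : ℤ) : F') = 0 := by
    rw [Int.cast_natCast, ← CharP.cast_eq_zero_iff K (ringChar K) e,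
      ← map_eq_zero_iff _ (ψ.toRingHom.comp (algebraMap K K')).injective, map_natCast,
      ← map_natCast (HahnSeries.C : F' →+* F'⸨X⸩), map_eq_zero_iff _ HahnSeries.C_injective]
  rw [← heq, _root_.LocRes.diffExp, _root_.LocRes.ordDiff, _root_.LocRes.ordDiff,
    _root_.LocRes.vDiff, _root_.LocRes.vDiff, map_one, map_one, one_mul, one_mul, hDt,
    WithZero.log_exp]
  obtain ⟨h1, h2⟩ := val_D_of_val htv
  refine ⟨fun hd => ?_, fun hd => ?_⟩
  · rw [h1 (fun h => hd (hchar.mpr h)), WithZero.log_exp]; ring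
  · simp only [_root_.LocRes.vDiff, map_one, one_mul] at htd'
    have := (WithZero.log_le_log htd' WithZero.exp_ne_zero).mpr (h2 (hchar.mp hd))
    rw [WithZero.log_exp] at this
    linarith

end GrothLib.LocRes
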