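import Groth.Agent.Lib.LocRes.DiffExp

/-!
The different exponent at a totally ramified Artin–Schreier place.
-/

set_option autoImplicit false
set_option linter.style.haveILetI false

namespace GrothLib.LocRes

open LaurentSeries WithZero
open GrothLib.FunFld

universe u v v' w

variable {k : Type u} {L : Type v} {K : Type v'} {F F' : Type w} [Field k] [Field L] [Field K] [Field F] [Field F']
  [Algebra k L] [Algebra L K] [Algebra k K] [IsScalarTower k L K] [Algebra k F] [Algebra k F']

theorem diffExp_as (hL : IsFG k L) (hg : _root_.FunFld.IsGeometric k L) (h2 : (2 : k) = 0)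
    {p : _root_.FunFld.Place k L} {P : _root_.FunFld.Place k K}
    (he : _root_.FunFld.IsOverWith P p 2)
    {φ : L →ₐ[k] F⸨X⸩} (hφ : _root_.LocRes.IsExpansionAt p.1 φ)
    {ψ : K →ₐ[k] F'⸨X⸩} (hψ : _root_.LocRes.IsExpansionAt P.1 ψ)
    {f : L} (hneg : p.ord f < 0) (hodd : Odd (p.ord f)) {y : K} (heq : y ^ 2 + y = algebraMap L K f)
    {z : L} (hz : _root_.LocRes.vDiff φ 1 z ≠ 0) (hz' : _root_.LocRes.vDiff ψ 1 (algebraMap L K z) ≠ 0) :
    _root_.LocRes.diffExp φ ψ 2 z = 1 - p.ord f := by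
  have hf0 : f ≠ 0 := fun h0 => by rw [h0, ord_zero] at hneg; exact lt_irrefl _ hneg
  have hchar : ∀ (E : Type w) [Field E] [Algebra k E], (2 : E) = 0 := fun E _ _ => by
    rw [← map_ofNat (algebraMap k E) 2, h2, map_zero]
  obtain ⟨r, hr⟩ := hodd
  have hoddF : ∀ (E : Type w) [Field E] [Algebra k E], ((p.ord f : ℤ) : E) = 1 := fun E _ _ => by
    rw [hr]; push_cast; rw [hchar E]; ring
  have hv1 : Valued.v (φ f) = WithZero.exp (-(p.ord f)) := by rw [hφ.1]; exact val_eq p hf0
  have hD1 := (val_D_of_val hv1).1 (by rw [hoddF F]; exact one_ne_zero)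
  have hzf : _root_.LocRes.vDiff φ 1 f ≠ 0 := by
    rw [_root_.LocRes.vDiff, map_one, one_mul, hD1]; exact WithZero.exp_ne_zero
  obtain ⟨heq', -⟩ := diffExp_indep hL hg he hφ hψ hz hz' hzf
  have hfA : algebraMap L K f ≠ 0 := (map_ne_zero _).mpr hf0
  have hordf : P.ord (algebraMap L K f) = 2 * p.ord f := by
    show -log (P.1 _) = _
    rw [he, log_pow, _root_.FunFld.Place.ord, nsmul_eq_mul]
    push_cast; ring
  have hy0 : y ≠ 0 := fun h0 => hfA (by rw [← heq, h0]; ring)
  have hordy : P.ord y = p.ord f := by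
    rcases lt_or_ge (P.ord y) 0 with hyn | hyn
    · have h2y : P.ord (y ^ 2) = 2 * P.ord y := by rw [ord_pow]; norm_num
      have hlt : P.1 y < P.1 (y ^ 2) := by
        rw [show P.1 y = _ from val_eq P hy0, show P.1 (y ^ 2) = _ from val_eq P (pow_ne_zero 2 hy0),
          WithZero.exp_lt_exp]
        omega
      have h3 : P.1 (algebraMap L K f) = P.1 (y ^ 2) := by rw [← heq]; exact P.1.map_add_eq_of_lt_left hlt
      rw [show P.1 (algebraMap L K f) = _ from val_eq P hfA,
        show P.1 (y ^ 2) = _ from val_eq P (pow_ne_zero 2 hy0), WithZero.exp_inj] at h3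
      omega
    · exfalso
      have hv : P.1 y ≤ 1 := (val_le_one_iff P hy0).mpr hyn
      have h3 : P.1 (algebraMap L K f) ≤ 1 := by
        rw [← heq]; exact (P.1.map_add _ _).trans (max_le (by rw [map_pow]; exact pow_le_one₀ zero_le hv) hv)
      have := (val_le_one_iff P hfA).mp h3
      omega
  have hv2 : Valued.v (ψ y) = WithZero.exp (-(p.ord f)) := by rw [hψ.1, ← hordy]; exact val_eq P hy0
  have hD2 := (val_D_of_val hv2).1 (by rw [hoddF F']; exact one_ne_zero)
  have hDf : _root_.LocRes.D F' (ψ (algebraMap L K f)) = _root_.LocRes.D F' (ψ y) := by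
    rw [← heq, map_add, map_add, map_pow, Derivation.leibniz_pow]
    have h0 : ((2 : ℕ) : F'⸨X⸩) = 0 := by
      rw [← map_natCast (HahnSeries.C : F' →+* F'⸨X⸩), Nat.cast_ofNat, hchar F', map_zero]
    rw [nsmul_eq_mul, h0, zero_mul, zero_add]
  rw [← heq', _root_.LocRes.diffExp, _root_.LocRes.ordDiff, _root_.LocRes.ordDiff, _root_.LocRes.vDiff,
    _root_.LocRes.vDiff, map_one, map_one, one_mul, one_mul, hDf, hD1, hD2, WithZero.log_exp]
  push_cast
  ring

end GrothLib.LocRes
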