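import Groth.Agent.Lib.LocRes.DiffExp
import Groth.Agent.Lib.FunFld.NormOrd
import Groth.Agent.Lib.FunFld.Unramified
import Mathlib.RingTheory.DedekindDomain.Different

/-!
The different exponent at a place of residue degree one, through a local parameter.
-/

set_option autoImplicit false
set_option linter.style.haveILetI false
set_option linter.unusedSectionVars false

namespace GrothLib.LocRes

open LaurentSeries WithZero Polynomial
open GrothLib.FunFld
open _root_.FunFld (Place IsOver IsOverWith IsGeometric IsFunctionField ramIdx)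

universe u v w

theorem D_eval {F : Type w} [Field F] (p : (F⸨X⸩)[X]) (S : F⸨X⸩) :
    _root_.LocRes.D F (p.eval S) =
      p.derivative.eval S * _root_.LocRes.D F S + p.sum fun i a => _root_.LocRes.D F a * S ^ i := by
  induction p using Polynomial.induction_on' with
  | add p q hp hq =>
    rw [eval_add, map_add, hp, hq, derivative_add, eval_add,
      Polynomial.sum_add_index p q _ (fun i => by simp) (fun i a b => by rw [map_add, add_mul])]
    ring
  | monomial n a =>
    rw [Polynomial.sum_monomial_index a _ (by simp), eval_monomial, derivative_monomial,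
      eval_monomial, Derivation.leibniz, Derivation.leibniz_pow]
    simp only [smul_eq_mul, nsmul_eq_mul]
    ring

variable {k : Type u} {K K' : Type v} [Field k] [Field K] [Field K'] [Algebra k K] [Algebra K K']
  [Algebra k K'] [IsScalarTower k K K'] [FiniteDimensional K K']
  {P : Place k K} {Q : Place k K'} {e : ℕ} (hK : IsFG k K) (he : IsOverWith Q P e)
  {s : K'} (hs : val Q s = exp (-1))
  (hs' : ∀ Q' : Place k K', IsOver Q' P → Q' ≠ Q → val Q' s = 1)
  (hdeg : Q.deg ≤ P.deg)

include hs in
theorem s_ne_zero : s ≠ 0 := fun h => by rw [h, map_zero] at hs; exact exp_ne_zero hs.symm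

include hs in
theorem ord_s : Q.ord s = 1 := by simpa using ord_eq_of_val_eq Q hs

include hK he in
theorem exists_parameter :
    ∃ s : K', val Q s = exp (-1) ∧ ∀ Q' : Place k K', IsOver Q' P → Q' ≠ Q → val Q' s = 1 := by
  classical
  obtain ⟨π, -, hπ⟩ := exists_val_eq Q (-1)
  have hfin := (sum_ramIdx (K' := K') hK P).1
  obtain ⟨s, hs⟩ := GrothLib.FunFld.exists_approx hfin.toFinset (fun R => if R = Q then π else 1) fun _ => -2
  refine ⟨s, ?_, fun R hR hne => ?_⟩
  · have h := hs Q (hfin.mem_toFinset.2 ⟨e, he⟩)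
    rw [if_pos rfl] at h
    rw [show s = π + (s - π) by ring, (val Q).map_add_eq_of_lt_left, hπ]
    rw [hπ]; exact h.trans_lt (exp_lt_exp.2 (by norm_num))
  · have h := hs R (hfin.mem_toFinset.2 hR)
    rw [if_neg hne] at h
    rw [show s = 1 + (s - 1) by ring, (val R).map_add_eq_of_lt_left, map_one]
    rw [map_one]; exact h.trans_lt (by rw [← exp_zero, exp_lt_exp]; norm_num)

include hK he hs hs' hdeg

theorem ord_norm_s : P.ord (Algebra.norm K s) = 1 ∧ P.deg = Q.deg := by
  classical
  have hfin := (sum_ramIdx (K' := K') hK P).1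
  have h := ord_norm hK P s hfin.toFinset fun R => hfin.mem_toFinset
  rw [Finset.sum_eq_single Q (fun R hR hne => by
      rw [ord_eq_of_val_eq R (n := 0) (by rw [exp_zero]; exact hs' R (hfin.mem_toFinset.1 hR) hne)]
      simp) (fun hQ => absurd (hfin.mem_toFinset.2 ⟨e, he⟩) hQ), ord_s hs, mul_one] at h
  have h1 : (0 : ℤ) < Q.deg := by exact_mod_cast (isFG_extension (K := K) hK).deg_pos Q
  have h2 : (0 : ℤ) < P.deg := by exact_mod_cast hK.deg_pos P
  have h3 : (Q.deg : ℤ) ≤ P.deg := by exact_mod_cast hdeg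
  have h4 : P.ord (Algebra.norm K s) = 1 := by
    rcases lt_trichotomy (P.ord (Algebra.norm K s)) 1 with h' | h' | h'
    · nlinarith
    · exact h'
    · nlinarith
  rw [h4, mul_one] at h
  exact ⟨h4, by omega⟩

/-- A local parameter trivial elsewhere generates. -/
theorem adjoin_s_eq_top : IntermediateField.adjoin K ({s} : Set K') = ⊤ := by
  classical
  set E := IntermediateField.adjoin K ({s} : Set K') with hE
  let sE : E := ⟨s, IntermediateField.mem_adjoin_simple_self K s⟩
  haveI : FiniteDimensional K E := Module.Finite.left K E K'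
  haveI : FiniteDimensional E K' := Module.Finite.right K E K'
  haveI : IsScalarTower k E K' := IsScalarTower.of_algebraMap_eq fun a => by
    rw [IsScalarTower.algebraMap_apply k K K' a, IsScalarTower.algebraMap_apply k K E a]; rfl
  have hKE : IsFG k E := isFG_extension (K := K) hK
  obtain ⟨R, e₂, he₂, hR⟩ := exists_isOverWith (K := E) Q
  obtain ⟨P', e₁, he₁, hP'⟩ := exists_isOverWith (K := K) R
  have hQP : IsOverWith Q P' (e₁ * e₂) := fun z => by
    rw [IsScalarTower.algebraMap_apply K E K', hR, hP', ← pow_mul]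
  obtain ⟨rfl, -⟩ := isOverWith_unique he hQP
  have hsR : R.ord sE = 1 ∧ e₂ = 1 := by
    have h := ord_of_isOverWith hR sE
    rw [show Q.ord (algebraMap E K' sE) = 1 from ord_s hs] at h
    have h1 : (e₂ : ℤ) = 1 := Int.eq_one_of_mul_eq_one_right (Int.natCast_nonneg _) h.symm
    rw [h1, one_mul] at h
    exact ⟨h.symm, by exact_mod_cast h1⟩
  have hother : ∀ R' : Place k E, IsOver R' P → R' ≠ R → R'.ord sE = 0 := by
    rintro R' ⟨e', he'⟩ hne
    have hfin := (sum_ramIdx (K' := K') hKE R').1
    obtain ⟨Q', hQ'⟩ : ∃ Q' : Place k K', IsOver Q' R' := by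
      have h := (sum_ramIdx (K' := K') hKE R').2 hfin.toFinset fun S => hfin.mem_toFinset
      have hpos : 0 < Module.finrank E K' * R'.deg :=
        Nat.mul_pos Module.finrank_pos (hKE.deg_pos R')
      rw [← h] at hpos
      obtain ⟨S, hS, -⟩ := Finset.exists_ne_zero_of_sum_ne_zero hpos.ne'
      exact ⟨S, hfin.mem_toFinset.1 hS⟩
    obtain ⟨e'', he''⟩ := hQ'
    have hQ'P : IsOverWith Q' P (e' * e'') := fun z => by
      rw [IsScalarTower.algebraMap_apply K E K', he'', he', ← pow_mul]
    have hQne : Q' ≠ Q := fun h => hne (isOverWith_unique (h ▸ he'') hR).1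
    have h0 := ord_eq_of_val_eq Q' (x := s) (n := 0) (by rw [exp_zero]; exact hs' Q' ⟨_, hQ'P⟩ hQne)
    have h2 := ord_of_isOverWith he'' sE
    rw [show Q'.ord (algebraMap E K' sE) = 0 by simpa using h0, eq_comm, mul_eq_zero] at h2
    refine h2.resolve_left ?_
    exact_mod_cast (pos_of_isOverWith he'').ne'
  have hfinE := (sum_ramIdx (K' := E) hK P).1
  have h1 := ord_norm hK P sE hfinE.toFinset fun R' => hfinE.mem_toFinset
  rw [Finset.sum_eq_single R (fun R' hR' hne => by rw [hother R' (hfinE.mem_toFinset.1 hR') hne, mul_zero])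
    (fun h => absurd (hfinE.mem_toFinset.2 ⟨e₁, hP'⟩) h), hsR.1, mul_one] at h1
  have hfinK := (sum_ramIdx (K' := K') hKE R).1
  have h2 := (sum_ramIdx (K' := K') hKE R).2 hfinK.toFinset fun S => hfinK.mem_toFinset
  have huniq : ∀ S : Place k K', IsOver S R → S = Q := by
    rintro S ⟨e'', he''⟩
    by_contra hne
    have hSP : IsOverWith S P (e₁ * e'') := fun z => by
      rw [IsScalarTower.algebraMap_apply K E K', he'', hP', ← pow_mul]
    have h0 := ord_eq_of_val_eq S (x := s) (n := 0) (by rw [exp_zero]; exact hs' S ⟨_, hSP⟩ hne)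
    have h3 := ord_of_isOverWith he'' sE
    rw [show S.ord (algebraMap E K' sE) = 0 by simpa using h0, hsR.1, mul_one] at h3
    exact (pos_of_isOverWith he'').ne' (by exact_mod_cast h3.symm)
  rw [Finset.sum_eq_single Q (fun S hS hne => absurd (huniq S (hfinK.mem_toFinset.1 hS)) hne)
    (fun h => absurd (hfinK.mem_toFinset.2 ⟨e₂, hR⟩) h), ramIdx_eq hR, hsR.2, one_mul] at h2
  -- `deg R` is at least `deg P`
  have hdP : (0 : ℤ) < P.deg := by exact_mod_cast hK.deg_pos P
  have hdR : (0 : ℤ) < R.deg := by exact_mod_cast hKE.deg_pos R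
  have hle : P.deg ≤ R.deg := by
    have : 1 ≤ P.ord (Algebra.norm K sE) := by
      by_contra hlt
      rw [not_le] at hlt
      nlinarith
    have : (P.deg : ℤ) ≤ R.deg := by nlinarith
    omega
  have h3 : Module.finrank E K' = 1 := by
    have hQd := (ord_norm_s hK he hs hs' hdeg).2
    have hR0 : 0 < R.deg := hKE.deg_pos R
    have : Module.finrank E K' * R.deg ≤ 1 * R.deg := by omega
    have h4 := Nat.le_of_mul_le_mul_right this hR0
    have h5 : 0 < Module.finrank E K' := Module.finrank_pos
    omega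
  rw [eq_top_iff]
  intro z _
  obtain ⟨c, hc⟩ := (finrank_eq_one_iff_of_nonzero' (1 : K') one_ne_zero).1 h3 z
  rw [← hc, Algebra.smul_def, mul_one]
  exact c.2

theorem natDegree_minpoly_s : (minpoly K s).natDegree = Module.finrank K K' := by
  rw [← IntermediateField.adjoin.finrank (Algebra.IsIntegral.isIntegral s),
    adjoin_s_eq_top hK he hs hs' hdeg, IntermediateField.finrank_top']

/-- The minimal polynomial is Eisenstein up to degree `e`. -/
theorem coeff_minpoly_s :
    (∀ i, val P ((minpoly K s).coeff i) ≤ 1) ∧ (∀ i < e, val P ((minpoly K s).coeff i) < 1) ∧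
      val P ((minpoly K s).coeff 0) = exp (-1) := by
  classical
  letI : Algebra P.O K' := ((algebraMap K K').comp P.O.subtype).toAlgebra
  haveI : IsScalarTower P.O K K' := IsScalarTower.of_algebraMap_eq fun _ => rfl
  have hint : IsIntegral P.O s := (isIntegral_iff_forall hK s).mpr fun R hR => by
    by_cases hne : R = Q
    · subst hne; rw [hs, ← exp_zero, exp_le_exp]; norm_num
    · rw [hs' R hR hne]
  have hmap := minpoly.isIntegrallyClosed_eq_field_fractions' K hint
  have hcoef : ∀ i, val P ((minpoly K s).coeff i) ≤ 1 := fun i => by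
    rw [hmap, coeff_map]; exact ((minpoly P.O s).coeff i).2
  have hintK : IsIntegral K s := Algebra.IsIntegral.isIntegral s
  refine ⟨hcoef, fun i hi => ?_, ?_⟩
  · by_contra hge
    rw [not_lt] at hge
    obtain ⟨j, hj, hmin⟩ : ∃ j, 1 ≤ val P ((minpoly K s).coeff j) ∧
        ∀ m < j, val P ((minpoly K s).coeff m) < 1 := by
      have hex : ∃ j, 1 ≤ val P ((minpoly K s).coeff j) := ⟨i, hge⟩
      exact ⟨Nat.find hex, Nat.find_spec hex, fun m hm => not_le.mp (Nat.find_min hex hm)⟩
    have hji : j ≤ i := by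
      by_contra h; exact not_le.mpr (hmin i (not_le.mp h)) hge
    have hjn : j ≤ (minpoly K s).natDegree := le_natDegree_of_ne_zero fun h0 => by
      rw [h0, map_zero] at hj; exact not_le.mpr zero_lt_one hj
    have h0 := minpoly.aeval K s
    rw [aeval_eq_sum_range, ← Finset.sum_erase_add _ _ (Finset.mem_range.mpr (Nat.lt_succ_of_le hjn))] at h0
    have hvj : val Q ((minpoly K s).coeff j • s ^ j) = exp (-(j : ℤ)) := by
      rw [Algebra.smul_def, map_mul, map_pow, hs, show val Q (algebraMap K K' _) = val P _ ^ e from he _,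
        le_antisymm (hcoef j) hj, one_pow, one_mul, ← exp_nsmul]
      simp
    have hlt : val Q (∑ m ∈ (Finset.range ((minpoly K s).natDegree + 1)).erase j,
        (minpoly K s).coeff m • s ^ m) < val Q ((minpoly K s).coeff j • s ^ j) := by
      rw [hvj]
      refine (val Q).map_sum_lt exp_ne_zero fun m hm => ?_
      rw [Finset.mem_erase] at hm
      rw [Algebra.smul_def, map_mul, map_pow, hs, show val Q (algebraMap K K' _) = val P _ ^ e from he _]
      rcases lt_or_gt_of_ne hm.1 with hmj | hmj
      · have h1 : val P ((minpoly K s).coeff m) ≤ exp (-1) := by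
          rw [show (-1 : ℤ) = 0 - 1 by ring, le_exp_sub_one_iff, exp_zero]; exact hmin m hmj
        refine (mul_le_mul_left (pow_le_pow_left₀ zero_le h1 e) _).trans_lt ?_
        rw [← exp_nsmul, ← exp_nsmul, ← exp_add, exp_lt_exp]
        simp only [nsmul_eq_mul]
        omega
      · refine (mul_le_of_le_one_left' (pow_le_one₀ zero_le (hcoef m))).trans_lt ?_
        rw [← exp_nsmul, exp_lt_exp]
        simp only [nsmul_eq_mul]
        omega
    have h5 := (val Q).map_add_eq_of_lt_right hlt
    rw [h0, map_zero, hvj] at h5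
    exact exp_ne_zero h5.symm
  · have hn := (ord_norm_s hK he hs hs' hdeg).1
    have hns : Algebra.norm K s ≠ 0 := Algebra.norm_ne_zero_iff.mpr (s_ne_zero hs)
    have hPB : Algebra.norm K s = (-1) ^ (minpoly K s).natDegree * (minpoly K s).coeff 0 := by
      let pb : PowerBasis K K' := PowerBasis.ofAdjoinEqTop' hintK (by
        rw [← IntermediateField.adjoin_simple_toSubalgebra_of_isAlgebraic hintK.isAlgebraic,
          adjoin_s_eq_top hK he hs hs' hdeg, IntermediateField.top_toSubalgebra])
      have hgen : pb.gen = s := by simp [pb]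
      rw [← hgen, Algebra.PowerBasis.norm_gen_eq_coeff_zero_minpoly, pb.natDegree_minpoly]
    have h1 : val P (Algebra.norm K s) = val P ((minpoly K s).coeff 0) := by
      rw [hPB, map_mul, map_pow, Valuation.map_neg, map_one, one_pow, one_mul]
    rw [← h1, val_eq P hns, hn]

variable {F F' : Type w} [Field F] [Algebra k F] [Field F'] [Algebra k F']
  {φ : K →ₐ[k] F⸨X⸩} {ψ : K' →ₐ[k] F'⸨X⸩} {x : K}

theorem ord_derivative_eq_diffExp [Algebra.IsSeparable K K'] (hg : IsGeometric k K)
    (hφ : _root_.LocRes.IsExpansionAt P.1 φ) (hψ : _root_.LocRes.IsExpansionAt Q.1 ψ)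
    (hx : _root_.LocRes.vDiff φ 1 x ≠ 0) (hx' : _root_.LocRes.vDiff ψ 1 (algebraMap K K' x) ≠ 0) :
    Q.ord (aeval s (derivative (minpoly K s))) = _root_.LocRes.diffExp φ ψ e x := by
  classical
  obtain ⟨hcoef, hlow, h0⟩ := coeff_minpoly_s hK he hs hs' hdeg
  obtain ⟨t, -, ht⟩ := exists_val_eq P (-1)
  have hDt : Valued.v (_root_.LocRes.D F (φ t)) = exp (-((1 : ℤ) - 1)) :=
    (val_D_of_val (n := 1) (by rw [hφ.1]; exact ht)).1 (by simp)
  rw [sub_self, neg_zero, exp_zero] at hDt
  have htd : _root_.LocRes.vDiff φ 1 t ≠ 0 := by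
    rw [_root_.LocRes.vDiff, map_one, one_mul, hDt]; exact one_ne_zero
  obtain ⟨heq, htd'⟩ := diffExp_indep hK hg he hφ hψ hx hx' htd
  rw [← heq]
  have hDx0 := D_ne_zero_of_vDiff_ne_zero φ htd
  -- derivatives of the coefficients
  have hc : ∀ i, ∃ c : K, val P c ≤ 1 ∧
      _root_.LocRes.D F' (ψ (algebraMap K K' ((minpoly K s).coeff i))) =
        ψ (algebraMap K K' c) * _root_.LocRes.D F' (ψ (algebraMap K K' t)) ∧
      (val P ((minpoly K s).coeff i) = exp (-1) → val P c = 1) := by
    intro i
    obtain ⟨c, hc⟩ := exists_D_eq hK hg hDx0 ((minpoly K s).coeff i)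
    have h1 := congrArg Valued.v (D_eq_mul_of_smul φ hc)
    rw [map_mul, hDt, mul_one, hφ.1] at h1
    refine ⟨c, ?_, D_eq_mul_of_smul ψ (algebraMap_smul_D (K' := K') hc), fun hv => ?_⟩
    · show P.1 c ≤ 1
      rw [← h1]
      obtain ⟨q, hq⟩ := (LaurentSeries.val_le_one_iff_eq_coe F _).mp
        (show Valued.v (φ ((minpoly K s).coeff i)) ≤ 1 by rw [hφ.1]; exact hcoef i)
      rw [← hq, _root_.LocRes.D_coe]
      exact (LaurentSeries.val_le_one_iff_eq_coe F _).mpr ⟨_, rfl⟩
    · show P.1 c = 1
      rw [← h1, (val_D_of_val (n := 1) (by rw [hφ.1]; exact hv)).1 (by simp)]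
      simp
  choose c hc1 hc2 hc3 using hc
  set G := (minpoly K s).map (ψ.toRingHom.comp (algebraMap K K')) with hG
  have hGev : ∀ p : K[X], (p.map (ψ.toRingHom.comp (algebraMap K K'))).eval (ψ s) = ψ (aeval s p) := fun p => by
    rw [eval_map, ← show ψ.toRingHom s = ψ s from rfl, ← hom_eval₂, aeval_def]
    rfl
  have hid := D_eval G (ψ s)
  rw [hG, hGev, minpoly.aeval, map_zero, map_zero, derivative_map, hGev,
    sum_over_range' _ (fun i => by simp) ((minpoly K s).natDegree + 1)
      (lt_of_le_of_lt natDegree_map_le (Nat.lt_succ_self _))] at hid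
  simp only [coeff_map, RingHom.comp_apply, AlgHom.toRingHom_eq_coe, RingHom.coe_coe, hc2] at hid
  set Sg := ∑ i ∈ Finset.range ((minpoly K s).natDegree + 1), algebraMap K K' (c i) * s ^ i with hSg
  have hsum : ∑ i ∈ Finset.range ((minpoly K s).natDegree + 1),
      ψ (algebraMap K K' (c i)) * _root_.LocRes.D F' (ψ (algebraMap K K' t)) * ψ s ^ i =
        ψ Sg * _root_.LocRes.D F' (ψ (algebraMap K K' t)) := by
    rw [hSg, map_sum, Finset.sum_mul]
    exact Finset.sum_congr rfl fun i _ => by rw [map_mul, map_pow]; ring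
  rw [hsum] at hid
  have hSgv : val Q Sg = 1 := by
    rw [hSg, Finset.sum_range_succ', (val Q).map_add_eq_of_lt_right]
    · rw [map_mul, map_pow, pow_zero, mul_one, show val Q (algebraMap K K' (c 0)) = val P (c 0) ^ e from he _,
        hc3 0 h0, one_pow]
    · rw [map_mul, map_pow, pow_zero, mul_one, show val Q (algebraMap K K' (c 0)) = val P (c 0) ^ e from he _,
        hc3 0 h0, one_pow]
      refine (val Q).map_sum_lt one_ne_zero fun i _ => ?_
      rw [map_mul, map_pow, hs, show val Q (algebraMap K K' (c (i + 1))) = val P (c (i + 1)) ^ e from he _]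
      refine (mul_le_of_le_one_left' (pow_le_one₀ zero_le (hc1 _))).trans_lt ?_
      rw [← exp_nsmul, ← exp_zero, exp_lt_exp]; simp; omega
  have hvs : Valued.v (_root_.LocRes.D F' (ψ s)) = 1 := by
    rw [(val_D_of_val (n := 1) (by rw [hψ.1]; exact hs)).1 (by simp), sub_self, neg_zero, exp_zero]
  have hder : aeval s (derivative (minpoly K s)) ≠ 0 :=
    (Algebra.IsSeparable.isSeparable K s).aeval_derivative_ne_zero (minpoly.aeval K s)
  have h4 := congrArg Valued.v (eq_neg_of_add_eq_zero_left hid.symm)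
  rw [map_mul, Valuation.map_neg, map_mul, hvs, mul_one, hψ.1, hψ.1] at h4
  change val Q _ = val Q Sg * _ at h4
  rw [hSgv, one_mul, val_eq Q hder] at h4
  rw [_root_.LocRes.diffExp, _root_.LocRes.ordDiff, _root_.LocRes.ordDiff, _root_.LocRes.vDiff,
    _root_.LocRes.vDiff, map_one, map_one, one_mul, one_mul, hDt, ← h4, log_exp, log_one]
  simp

section
attribute [local instance 2000] Algebra.toModule
omit hK he hs hs' hdeg in
theorem deg_le_of_surjective {P : Place k K} {Q : Place k K'} (hKfg : IsFG k K)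
    (f : IsLocalRing.ResidueField P.O →+* IsLocalRing.ResidueField Q.O) (hf : Function.Surjective f)
    (hc : ∀ c : k, f (algebraMap k _ c) = algebraMap k _ c) : Q.deg ≤ P.deg := by
  haveI : @Module.Finite k (IsLocalRing.ResidueField P.O) _ _ Algebra.toModule := hKfg.finite_residueField P
  let g : IsLocalRing.ResidueField P.O →ₐ[k] IsLocalRing.ResidueField Q.O := AlgHom.mk f hc
  have h := LinearMap.finrank_range_add_finrank_ker g.toLinearMap
  rw [LinearMap.range_eq_top.mpr hf, finrank_top] at h
  exact le_of_le_of_eq (Nat.le_add_right _ _) h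
end

omit hs hs' hdeg in
theorem totallyRamified (hn : e = Module.finrank K K') :
    Q.deg ≤ P.deg ∧ ∀ Q' : Place k K', IsOver Q' P → Q' = Q := by
  classical
  obtain ⟨hfin, hsum⟩ := sum_ramIdx (K' := K') hK P
  have h := hsum hfin.toFinset fun R => hfin.mem_toFinset
  rw [← Finset.sum_erase_add _ _ (hfin.mem_toFinset.2 ⟨e, he⟩), ramIdx_eq he, hn] at h
  have hn0 : 0 < Module.finrank K K' := Module.finrank_pos
  have hQ : 0 < Q.deg := (isFG_extension (K := K) hK).deg_pos Q
  have hrec : ∀ Q' : Place k K', IsOver Q' P → Q' ≠ Q → 0 < ∑ x ∈ hfin.toFinset.erase Q, ramIdx x P * x.deg := by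
    intro Q' hQ' hne
    refine lt_of_lt_of_le ?_ (Finset.single_le_sum (fun _ _ => Nat.zero_le _)
      (Finset.mem_erase.2 ⟨hne, hfin.mem_toFinset.2 hQ'⟩))
    obtain ⟨e', he'⟩ := hQ'
    rw [ramIdx_eq he']
    exact Nat.mul_pos (pos_of_isOverWith he') ((isFG_extension (K := K) hK).deg_pos Q')
  have hle : Q.deg ≤ P.deg := Nat.le_of_mul_le_mul_left (h ▸ Nat.le_add_left _ _) hn0
  refine ⟨hle, fun Q' hQ' => ?_⟩
  by_contra hne
  have h0 := hrec Q' hQ' hne
  -- `Q` alone exhausts the fundamental equality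
  obtain ⟨s, hs, hs'⟩ := exists_parameter hK he
  have hd := (ord_norm_s hK he hs hs' hle).2
  rw [← hd] at h
  omega

end GrothLib.LocRes
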