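import Groth.Agent.Lib.LocRes.Basic
import Groth.Agent.Lib.FunFld.Basic
import Mathlib.RingTheory.PowerSeries.Trunc
import Mathlib.FieldTheory.PrimitiveElement
import Mathlib.RingTheory.Polynomial.Basic

/-!
Laurent expansions at a place with separable residue field: the residue field lifts to every
`O ⧸ m ^ N` compatibly, by Newton approximation of a root.
-/

set_option autoImplicit false
set_option linter.style.haveILetI false
set_option linter.unusedSectionVars false

namespace GrothLib.LocRes

open WithZero Polynomial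
open GrothLib.FunFld
open _root_.FunFld (Place)

universe u v

variable {k : Type u} {K : Type v} [Field k] [Field K] [Algebra k K]

noncomputable local instance (priority := high) resSMulES {k K : Type*} [Field k] [Field K] [Algebra k K]
    (P : Place k K) : SMul k (IsLocalRing.ResidueField P.O) := Algebra.toSMul

noncomputable local instance (priority := high) resModuleES {k K : Type*} [Field k] [Field K] [Algebra k K]
    (P : Place k K) : Module k (IsLocalRing.ResidueField P.O) := Algebra.toModule

/-- The elements of value at most `exp (-N)`, an ideal of the valuation ring. -/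
def ballIdeal (P : Place k K) (N : ℕ) : Ideal P.O where
  carrier := {x | val P (x : K) ≤ exp (-(N : ℤ))}
  add_mem' {a b} ha hb := by
    show val P (((a + b : P.O) : P.O) : K) ≤ _
    push_cast
    exact ((val P).map_add _ _).trans (max_le ha hb)
  zero_mem' := by
    show val P ((0 : P.O) : K) ≤ _
    simp
  smul_mem' c {x} hx := by
    show val P ((c • x : P.O) : K) ≤ _
    rw [smul_eq_mul]
    push_cast
    rw [map_mul]
    exact (mul_le_of_le_one_left' c.2).trans hx

theorem mem_ballIdeal {P : Place k K} {N : ℕ} {x : P.O} :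
    x ∈ ballIdeal P N ↔ val P (x : K) ≤ exp (-(N : ℤ)) := Iff.rfl

theorem ballIdeal_zero (P : Place k K) : ballIdeal P 0 = ⊤ := by
  refine eq_top_iff.mpr fun x _ => ?_
  rw [mem_ballIdeal, Nat.cast_zero, neg_zero, exp_zero]
  exact x.2

theorem ballIdeal_anti (P : Place k K) {M N : ℕ} (h : M ≤ N) : ballIdeal P N ≤ ballIdeal P M :=
  fun x hx => (mem_ballIdeal.mp hx).trans (exp_le_exp.mpr (by omega))

theorem mem_ballIdeal_one {P : Place k K} {x : P.O} : x ∈ ballIdeal P 1 ↔ res P x = 0 := by
  rw [mem_ballIdeal, res_eq_zero_iff, show -((1 : ℕ) : ℤ) = 0 - 1 by norm_num, le_exp_sub_one_iff, exp_zero]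

theorem mul_mem_ballIdeal {P : Place k K} {M N : ℕ} {x y : P.O} (hx : x ∈ ballIdeal P M)
    (hy : y ∈ ballIdeal P N) : x * y ∈ ballIdeal P (M + N) := by
  rw [mem_ballIdeal]
  push_cast
  rw [map_mul]
  refine (mul_le_mul' (mem_ballIdeal.mp hx) (mem_ballIdeal.mp hy)).trans ?_
  rw [← exp_add, exp_le_exp]
  omega

theorem mem_ballIdeal_succ_of_mul {P : Place k K} {N : ℕ} {τ w : P.O} (hτ : val P (τ : K) = exp (-1))
    (h : τ * w ∈ ballIdeal P (N + 1)) : w ∈ ballIdeal P N := by
  rw [mem_ballIdeal] at h ⊢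
  push_cast at h
  rw [map_mul, hτ, ← le_inv_mul_iff₀ (zero_lt_iff.mpr exp_ne_zero), ← exp_neg, ← exp_add] at h
  exact h.trans (exp_le_exp.mpr (by omega))

theorem isUnit_of_res_ne {P : Place k K} {x : P.O} (h : res P x ≠ 0) : IsUnit x := by
  by_contra hn
  exact h ((IsLocalRing.residue_eq_zero_iff x).mpr hn)

variable {P : Place k K}

section

variable [FiniteDimensional k (IsLocalRing.ResidueField P.O)]
  [Algebra.IsSeparable k (IsLocalRing.ResidueField P.O)]

/-- Newton approximation: a root modulo every power of the maximal ideal. -/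
theorem exists_root_mod (γ : IsLocalRing.ResidueField P.O) (N : ℕ) :
    ∃ g : P.O, res P g = γ ∧ aeval g (minpoly k γ) ∈ ballIdeal P N := by
  set f := minpoly k γ
  have hsep : aeval γ (derivative f) ≠ 0 :=
    (Algebra.IsSeparable.isSeparable k γ).aeval_derivative_ne_zero (minpoly.aeval k γ)
  induction N with
  | zero =>
    obtain ⟨g, hg⟩ := res_surjective P γ
    exact ⟨g, hg, by rw [ballIdeal_zero]; trivial⟩
  | succ N ih =>
    obtain ⟨g, hg, hN⟩ := ih
    rcases Nat.eq_zero_or_pos N with rfl | hpos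
    · refine ⟨g, hg, ?_⟩
      rw [zero_add, mem_ballIdeal_one, ← aeval_algHom_apply, hg, minpoly.aeval]
    have hu : IsUnit (aeval g (derivative f)) := isUnit_of_res_ne (by
      rw [← aeval_algHom_apply, hg]; exact hsep)
    set d := -(aeval g f * ((hu.unit⁻¹ : (P.O)ˣ) : P.O)) with hd
    have hdN : d ∈ ballIdeal P N := neg_mem (Ideal.mul_mem_right _ _ hN)
    refine ⟨g + d, ?_, ?_⟩
    · have h1 := mem_ballIdeal_one.mp (ballIdeal_anti P hpos hdN)
      rw [map_add, hg, h1, add_zero]
    · obtain ⟨c, hc⟩ := binomExpansion (f.map (algebraMap k P.O)) g d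
      rw [derivative_map] at hc
      simp only [eval_map_algebraMap] at hc
      rw [hc, hd]
      have h0 : aeval g (derivative f) * -(aeval g f * ((hu.unit⁻¹ : (P.O)ˣ) : P.O)) = -aeval g f := by
        rw [mul_neg, mul_left_comm, IsUnit.mul_val_inv, mul_one]
      rw [h0, add_neg_cancel, zero_add, ← hd]
      refine Ideal.mul_mem_left _ _ (ballIdeal_anti P (M := N + 1) (N := N + N) (by omega) ?_)
      rw [pow_two]
      exact mul_mem_ballIdeal hdN hdN

/-- Roots modulo powers of the maximal ideal are unique. -/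
theorem root_mod_unique (γ : IsLocalRing.ResidueField P.O) {N : ℕ} {g g' : P.O} (hg : res P g = γ)
    (hg' : res P g' = γ) (h : aeval g (minpoly k γ) ∈ ballIdeal P N)
    (h' : aeval g' (minpoly k γ) ∈ ballIdeal P N) : g' - g ∈ ballIdeal P N := by
  set f := minpoly k γ
  have hsep : aeval γ (derivative f) ≠ 0 :=
    (Algebra.IsSeparable.isSeparable k γ).aeval_derivative_ne_zero (minpoly.aeval k γ)
  obtain ⟨c, hc⟩ := binomExpansion (f.map (algebraMap k P.O)) g (g' - g)
  rw [derivative_map] at hc
  simp only [eval_map_algebraMap, add_sub_cancel] at hc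
  have hu : IsUnit (aeval g (derivative f) + c * (g' - g)) := isUnit_of_res_ne (by
    rw [map_add, map_mul, map_sub, hg, hg', sub_self, mul_zero, add_zero, ← aeval_algHom_apply, hg]
    exact hsep)
  have hmem : (aeval g (derivative f) + c * (g' - g)) * (g' - g) ∈ ballIdeal P N := by
    rw [show (aeval g (derivative f) + c * (g' - g)) * (g' - g) = aeval g' f - aeval g f by rw [hc]; ring]
    exact sub_mem h' h
  exact (Ideal.unit_mul_mem_iff_mem _ hu).mp hmem

/-- At a place with separable residue field there is a Laurent expansion with that coefficient field. -/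
theorem exists_expansion_of_separable {t : K} (ht : val P t = exp (-1)) :
    ∃ φ : K →ₐ[k] LaurentSeries (IsLocalRing.ResidueField P.O),
      _root_.LocRes.IsExpansionAt P.1 φ := by
  classical
  obtain ⟨γ, hγ⟩ := Field.exists_primitive_element k (IsLocalRing.ResidueField P.O)
  have hint : IsIntegral k γ := Algebra.IsIntegral.isIntegral γ
  let pb : PowerBasis k (IsLocalRing.ResidueField P.O) := PowerBasis.ofAdjoinEqTop' hint (by
    rw [← IntermediateField.adjoin_simple_toSubalgebra_of_isAlgebraic hint.isAlgebraic, hγ,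
      IntermediateField.top_toSubalgebra])
  have hgen : pb.gen = γ := by simp [pb]
  have htO : val P t ≤ 1 := by rw [ht, ← exp_zero, exp_le_exp]; norm_num
  set τ : P.O := ⟨t, htO⟩ with hτdef
  have hτ : val P (τ : K) = exp (-1) := ht
  have hτm : τ ∈ ballIdeal P 1 := le_of_eq ht
  choose g hgres hgroot using fun N => exists_root_mod γ N
  -- the coefficient field modulo `m ^ N`
  let π : ∀ N, IsLocalRing.ResidueField P.O →ₐ[k] P.O ⧸ ballIdeal P N := fun N =>
    pb.lift (Ideal.Quotient.mkₐ k _ (g N)) (by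
      rw [hgen, aeval_algHom_apply]
      exact Ideal.Quotient.eq_zero_iff_mem.mpr (hgroot N))
  have hπγ : ∀ N, π N γ = Ideal.Quotient.mk _ (g N) := fun N => by
    show π N γ = _
    conv_lhs => rw [← hgen]
    exact pb.lift_gen _ _
  have hcompat : ∀ {M N} (h : M ≤ N),
      (Ideal.Quotient.factorₐ k (ballIdeal_anti P h)).comp (π N) = π M := fun {M N} h => by
    refine pb.algHom_ext ?_
    rw [hgen, AlgHom.comp_apply, hπγ, hπγ]
    show Ideal.Quotient.mk (ballIdeal P M) (g N) = _
    exact Ideal.Quotient.eq.mpr (root_mod_unique γ (hgres M) (hgres N) (hgroot M)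
      (ballIdeal_anti P h (hgroot N)))
  let ε : ∀ N, (IsLocalRing.ResidueField P.O)[X] →+* P.O ⧸ ballIdeal P N := fun N =>
    eval₂RingHom (π N).toRingHom (Ideal.Quotient.mk _ τ)
  have hεC : ∀ N a, ε N (C a) = π N a := fun N a => by simp [ε]
  have hεX : ∀ N, ε N X = Ideal.Quotient.mk _ τ := fun N => by simp [ε]
  have hεcompat : ∀ {M N} (h : M ≤ N) (p : (IsLocalRing.ResidueField P.O)[X]),
      Ideal.Quotient.factor (ballIdeal_anti P h) (ε N p) = ε M p := fun {M N} h p => by
    have hh : (Ideal.Quotient.factor (ballIdeal_anti P h)).comp (ε N) = ε M := by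
      refine Polynomial.ringHom_ext (fun a => ?_) ?_
      · rw [RingHom.comp_apply, hεC, hεC, ← hcompat h]; rfl
      · rw [RingHom.comp_apply, hεX, hεX]; rfl
    exact RingHom.congr_fun hh p
  have hres : ∀ N a, 1 ≤ N → ∀ w, Ideal.Quotient.mk (ballIdeal P N) w = π N a → res P w = a := by
    intro N a hN w hw
    have hw1 : Ideal.Quotient.mk (ballIdeal P 1) w = π 1 a := by
      rw [← hcompat hN, AlgHom.comp_apply, ← hw]; rfl
    let ρ : P.O ⧸ ballIdeal P 1 →ₐ[k] IsLocalRing.ResidueField P.O :=
      Ideal.Quotient.liftₐ _ (res P) fun x hx => mem_ballIdeal_one.mp hx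
    have hρ : ρ.comp (π 1) = AlgHom.id k _ := by
      refine pb.algHom_ext ?_
      rw [hgen, AlgHom.comp_apply, hπγ]
      exact hgres 1
    have h := AlgHom.congr_fun hρ a
    rw [AlgHom.comp_apply, ← hw1] at h
    exact h
  -- truncated expansions
  have hex : ∀ N (y : P.O), ∃ p, ε N p = Ideal.Quotient.mk _ y := by
    intro N
    induction N with
    | zero =>
      exact fun y => ⟨0, by
        rw [map_zero, eq_comm, Ideal.Quotient.eq_zero_iff_mem, ballIdeal_zero]; trivial⟩
    | succ N ih =>
      intro y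
      obtain ⟨w, hw⟩ := Ideal.Quotient.mk_surjective (π (N + 1) (res P y))
      have hwy : res P (y - w) = 0 := by
        rw [map_sub, hres (N + 1) _ (Nat.le_add_left 1 N) w hw, sub_self]
      have hy' : val P (((y - w : P.O) : K) / t) ≤ 1 := by
        rw [map_div₀, ht, div_le_one₀ (zero_lt_iff.mpr exp_ne_zero)]
        exact mem_ballIdeal_one.mpr hwy
      obtain ⟨p, hp⟩ := ih ⟨_, hy'⟩
      obtain ⟨w', hw'⟩ := Ideal.Quotient.mk_surjective (ε (N + 1) p)
      refine ⟨C (res P y) + X * p, ?_⟩
      rw [map_add, map_mul, hεC, hεX, ← hw, ← hw', ← map_mul, ← map_add, Ideal.Quotient.eq]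
      have h1 : w' - ⟨_, hy'⟩ ∈ ballIdeal P N := by
        rw [← Ideal.Quotient.eq, ← hp, ← hεcompat (Nat.le_succ N), ← hw']
        rfl
      have ht0 : t ≠ 0 := fun h => by rw [h, map_zero] at ht; exact exp_ne_zero ht.symm
      have h2 : w + τ * w' - y = τ * (w' - ⟨_, hy'⟩) := Subtype.ext (by
        push_cast
        rw [hτdef]
        field_simp
        ring)
      rw [h2, show N + 1 = 1 + N by omega]
      exact mul_mem_ballIdeal hτm h1
  have hker : ∀ N (p : (IsLocalRing.ResidueField P.O)[X]), ε N p = 0 → ∀ i < N, p.coeff i = 0 := by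
    intro N
    induction N with
    | zero => exact fun p _ i hi => absurd hi (Nat.not_lt_zero i)
    | succ N ih =>
      intro p hp
      obtain ⟨w, hw⟩ := Ideal.Quotient.mk_surjective (π (N + 1) (p.coeff 0))
      obtain ⟨w', hw'⟩ := Ideal.Quotient.mk_surjective (ε (N + 1) p.divX)
      rw [← X_mul_divX_add p, map_add, map_mul, hεX, hεC, ← hw, ← hw', ← map_mul, ← map_add,
        Ideal.Quotient.eq_zero_iff_mem] at hp
      have h1 := mem_ballIdeal_one.mp (ballIdeal_anti P (Nat.le_add_left 1 N) hp)
      rw [map_add, map_mul, mem_ballIdeal_one.mp hτm, zero_mul, zero_add,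
        hres (N + 1) _ (Nat.le_add_left 1 N) w hw] at h1
      rw [h1, map_zero, Ideal.Quotient.eq_zero_iff_mem] at hw
      have h2 : w' ∈ ballIdeal P N := mem_ballIdeal_succ_of_mul hτ
        ((Ideal.add_mem_iff_left _ hw).mp hp)
      have h3 : ε N p.divX = 0 := by
        rw [← hεcompat (Nat.le_succ N), ← hw']
        exact Ideal.Quotient.eq_zero_iff_mem.mpr h2
      rintro (_ | i) hi
      · exact h1
      · rw [← coeff_divX]; exact ih _ h3 i (by omega)
  have htrunc : ∀ N (p q : (IsLocalRing.ResidueField P.O)[X]), (∀ i < N, p.coeff i = q.coeff i) →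
      ε N p = ε N q := by
    intro N p q h
    obtain ⟨r, hr⟩ := X_pow_dvd_iff.mpr (show ∀ d < N, (p - q).coeff d = 0 from
      fun i hi => by rw [coeff_sub, h i hi, sub_self])
    rw [← sub_eq_zero, ← map_sub, hr, map_mul, map_pow, hεX, ← map_pow]
    refine mul_eq_zero_of_left (Ideal.Quotient.eq_zero_iff_mem.mpr ?_) _
    rw [mem_ballIdeal]
    push_cast
    rw [map_pow, hτ, ← exp_nsmul, exp_le_exp]
    simp
  choose p hp using hex
  let T₀ : P.O → PowerSeries (IsLocalRing.ResidueField P.O) := fun y =>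
    PowerSeries.mk fun i => (p (i + 1) y).coeff i
  have hT₀ : ∀ N y, ε N (PowerSeries.trunc N (T₀ y)) = Ideal.Quotient.mk _ y := by
    intro N y
    rw [← hp N y]
    refine htrunc N _ _ fun i hi => ?_
    rw [PowerSeries.coeff_trunc, if_pos hi, PowerSeries.coeff_mk]
    have h : ε (i + 1) (p (i + 1) y - p N y) = 0 := by
      rw [map_sub, hp, sub_eq_zero, ← hεcompat (show i + 1 ≤ N by omega) (p N y), hp]
      rfl
    rw [← sub_eq_zero, ← coeff_sub]
    exact hker _ _ h i (Nat.lt_succ_self i)
  have huniq : ∀ y q, (∀ N, ε N (PowerSeries.trunc N q) = Ideal.Quotient.mk _ y) → T₀ y = q := by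
    intro y q hq
    ext i
    have h := hker (i + 1) (PowerSeries.trunc (i + 1) (T₀ y) - PowerSeries.trunc (i + 1) q)
      (by rw [map_sub, hT₀, hq, sub_self]) i (Nat.lt_succ_self i)
    rw [coeff_sub, PowerSeries.coeff_trunc, PowerSeries.coeff_trunc, if_pos (Nat.lt_succ_self i),
      if_pos (Nat.lt_succ_self i), sub_eq_zero] at h
    exact h
  let T : P.O →+* PowerSeries (IsLocalRing.ResidueField P.O) :=
    { toFun := T₀
      map_one' := huniq _ _ fun N => by
        rw [map_one (Ideal.Quotient.mk (ballIdeal P N)), ← map_one (ε N)]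
        refine htrunc N _ _ fun i hi => ?_
        rw [PowerSeries.coeff_trunc, if_pos hi, Polynomial.coeff_one, PowerSeries.coeff_one]
      map_zero' := huniq _ _ fun N => by simp
      map_add' := fun a b => huniq _ _ fun N => by rw [map_add, map_add, hT₀, hT₀, map_add]
      map_mul' := fun a b => huniq _ _ fun N => by
        rw [map_mul (Ideal.Quotient.mk (ballIdeal P N)), ← hT₀ N a, ← hT₀ N b, ← map_mul (ε N)]
        refine htrunc N _ _ fun i hi => ?_
        rw [PowerSeries.coeff_trunc, if_pos hi,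
          PowerSeries.coeff_mul_eq_coeff_trunc_mul_trunc _ _ hi, ← Polynomial.coe_mul, Polynomial.coeff_coe] }
  have hTτ : T τ = PowerSeries.X := huniq _ _ fun N => by
    rw [← hεX N]
    refine htrunc N _ _ fun i hi => ?_
    rw [PowerSeries.coeff_trunc, if_pos hi, PowerSeries.coeff_X, coeff_X]
    simp [eq_comm]
  have hTc : ∀ c : k, T (algebraMap k P.O c) = PowerSeries.C (algebraMap k _ c) := fun c => huniq _ _ fun N => by
    have h1 : Ideal.Quotient.mk (ballIdeal P N) (algebraMap k P.O c) = ε N (C (algebraMap k _ c)) := by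
      rw [hεC, AlgHom.commutes]; rfl
    rw [h1]
    refine htrunc N _ _ fun i hi => ?_
    rw [PowerSeries.coeff_trunc, if_pos hi, PowerSeries.coeff_C, coeff_C]
  have hT0 : ∀ y, PowerSeries.constantCoeff (T y) = res P y := fun y => by
    rw [← PowerSeries.coeff_zero_eq_constantCoeff_apply]
    have h := hT₀ 1 y
    rw [PowerSeries.trunc_one_left, hεC] at h
    exact (hres 1 _ le_rfl y h.symm).symm
  -- units and orders
  have ht0 : t ≠ 0 := fun h => by rw [h, map_zero] at ht; exact exp_ne_zero ht.symm
  have hTinj : Function.Injective T := by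
    rw [injective_iff_map_eq_zero]
    intro y hy
    by_contra hne
    have hy0 : (y : K) ≠ 0 := fun h0 => hne (Subtype.ext h0)
    have hord : 0 ≤ P.ord (y : K) := by
      have := y.2
      rw [mem_O_iff, val_eq P hy0, ← exp_zero, exp_le_exp] at this
      omega
    set n := (P.ord (y : K)).toNat with hn
    have hu : val P ((y : K) / t ^ n) = 1 := by
      rw [map_div₀, map_pow, ht, val_eq P hy0, ← exp_nsmul, nsmul_eq_mul, hn, Int.toNat_of_nonneg hord,
        mul_neg, mul_one, div_self exp_ne_zero]
    have hmul : y = τ ^ n * ⟨(y : K) / t ^ n, hu.le⟩ := Subtype.ext (by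
      push_cast
      rw [hτdef]
      exact (mul_div_cancel₀ _ (pow_ne_zero n ht0)).symm)
    have hunit : IsUnit (T ⟨(y : K) / t ^ n, hu.le⟩) := (isUnit_of_res_ne (fun h0 => by
      rw [res_eq_zero_iff] at h0
      exact h0.ne hu)).map T
    rw [hmul, map_mul, map_pow, hTτ] at hy
    exact mul_ne_zero (pow_ne_zero n PowerSeries.X_ne_zero) hunit.ne_zero hy
  let f : P.O →+* LaurentSeries (IsLocalRing.ResidueField P.O) :=
    (HahnSeries.ofPowerSeries ℤ _).comp T
  have hf : Function.Injective f := HahnSeries.ofPowerSeries_injective.comp hTinj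
  have hlift : ∀ y : P.O, IsFractionRing.lift hf (y : K) = f y := fun y =>
    IsFractionRing.lift_algebraMap hf y
  let φ : K →ₐ[k] LaurentSeries (IsLocalRing.ResidueField P.O) :=
    { IsFractionRing.lift hf with
      commutes' := fun a => by
        show IsFractionRing.lift hf (algebraMap k K a) = _
        rw [← algebraMap_O_coe P a, hlift]
        show HahnSeries.ofPowerSeries ℤ _ (T (algebraMap k P.O a)) = _
        rw [hTc, HahnSeries.algebraMap_apply', PowerSeries.algebraMap_apply] }
  have hφ : ∀ y : P.O, φ (y : K) = f y := hlift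
  have hX : φ t = HahnSeries.single 1 1 := by
    rw [show t = ((τ : P.O) : K) from rfl, hφ]
    show HahnSeries.ofPowerSeries ℤ _ (T τ) = _
    rw [hTτ, HahnSeries.ofPowerSeries_X]
  refine ⟨φ, fun y => ?_, fun a => ?_, t, ht⟩
  · have hle : ∀ y : K, val P y ≤ 1 → Valued.v (φ y) ≤ 1 := fun y hy => by
      rw [show y = ((⟨y, hy⟩ : P.O) : K) from rfl, hφ]
      exact (LaurentSeries.val_le_one_iff_eq_coe _ _).mpr ⟨_, rfl⟩
    rcases eq_or_ne y 0 with rfl | hy
    · simp
    set w := y / t ^ (P.ord y) with hw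
    have hvw : val P w = 1 := by
      rw [hw, map_div₀, map_zpow₀, ht, val_eq P hy, ← exp_zsmul]
      simp
    have h1 : Valued.v (φ w) = 1 := by
      refine le_antisymm (hle w hvw.le) ?_
      have h2 := hle w⁻¹ (by rw [map_inv₀, hvw, inv_one])
      have hw0 : w ≠ 0 := (val P).ne_zero_iff.mp (by rw [hvw]; exact one_ne_zero)
      rw [map_inv₀, map_inv₀] at h2
      exact (inv_le_one₀ (zero_lt_iff.mpr ((Valuation.ne_zero_iff _).mpr
        ((_root_.map_ne_zero φ).mpr hw0)))).mp h2
    have hy' : y = t ^ (P.ord y) * w := by rw [hw, mul_div_cancel₀ _ (zpow_ne_zero _ ht0)]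
    conv_lhs => rw [hy', map_mul, map_mul, map_zpow₀, map_zpow₀, h1, mul_one, hX,
      LaurentSeries.valuation_single_zpow]
    show _ = val P y
    rw [val_eq P hy, ← exp_zsmul]
    simp
  · obtain ⟨y, hy⟩ := res_surjective P a
    refine ⟨y, y.2, ?_⟩
    rw [hφ]
    show (HahnSeries.ofPowerSeries ℤ _ (T y)).coeff 0 = a
    rw [show (0 : ℤ) = ((0 : ℕ) : ℤ) from rfl, HahnSeries.ofPowerSeries_apply_coeff,
      PowerSeries.coeff_zero_eq_constantCoeff_apply, hT0, hy]

end

end GrothLib.LocRes
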