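import Groth.Agent.Lib.LocRes.ResGeom
import Groth.Agent.Lib.FunFld.RatEta
import Mathlib.RingTheory.Nakayama

/-!
At a place read by an expansion, the cotrace of `dt` from `k(t)` is the residue of `z dt`.
-/

set_option autoImplicit false
set_option linter.style.haveILetI false
set_option linter.unusedSectionVars false

namespace GrothLib.LocRes

open LaurentSeries WithZero
open GrothLib.FunFld
open _root_.FunFld (Place IsOverWith IsOver ramIdx)

universe u v w z

section Congr

variable {k : Type u} {K : Type v} {F : Type w} [Field k] [Field K] [Field F] [Algebra k K] [Algebra k F]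
  [FiniteDimensional k F]
  {L : Type z} [Field L] [Algebra k L] [Algebra L K] [IsScalarTower k L K] [FiniteDimensional L K]
  {P : Place k K} {φ : K →ₐ[k] F⸨X⸩}

set_option maxHeartbeats 1600000 in
/-- The trace to `L` of an element congruent to `a` at one unramified place above a rational place,
and to `0` at the others, is congruent to the trace of `a`. -/
theorem trace_congr (hφ : _root_.LocRes.IsExpansionAt P.1 φ) (h : IsFG k L) {P₀ : Place k L}
    (hd : P₀.deg = 1) (hP : IsOverWith P P₀ 1) {τ : L} (hτ : val P₀ τ = exp (-1))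
    {N : ℕ} (hN : 1 ≤ N) (a : F) {l : K}
    (hl : Valued.v (φ l - HahnSeries.C a) ≤ exp (-(N : ℤ)))
    (hl' : ∀ (Q : Place k K) (e : ℕ), Q ≠ P → IsOverWith Q P₀ e →
      val Q l ≤ exp (-((e : ℤ) * N))) :
    val P₀ (Algebra.trace L K l - algebraMap k L (Algebra.trace k F a)) ≤ exp (-(N : ℤ)) := by
  classical
  obtain ⟨M, hMfg, hM⟩ := exists_lattice (K' := K) h P₀
  obtain ⟨hfin, hsum⟩ := sum_ramIdx (K' := K) h P₀
  set S := hfin.toFinset
  have hS : ∀ Q, Q ∈ S ↔ IsOver Q P₀ := fun Q => hfin.mem_toFinset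
  have hsum' : (∑ Q ∈ S, ramIdx Q P₀ * Q.deg) = Module.finrank L K := by
    rw [hsum S hS, hd, mul_one]
  have h' : IsFG k K := isFG_extension (K := L) h
  have hPS : P ∈ S := (hS P).2 ⟨1, hP⟩
  have heP : ramIdx P P₀ = 1 := ramIdx_eq hP
  have hτ0 : τ ≠ 0 := fun h0 => by rw [h0, map_zero] at hτ; exact exp_ne_zero hτ.symm
  set t : K := algebraMap L K τ with ht
  have ht0 : t ≠ 0 := by simpa [ht] using hτ0
  have hvt : ∀ Q ∈ S, ∀ m : ℕ, val Q (t ^ m) = exp (-((ramIdx Q P₀ : ℤ) * m)) := fun Q hQ m => by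
    rw [map_pow, show val Q t = val P₀ τ ^ ramIdx Q P₀ from ramIdx_spec ((hS Q).1 hQ) τ, hτ,
      ← exp_nsmul, ← exp_nsmul]
    congr 1; simp; ring
  have hMem : ∀ x, x ∈ M ↔ ∀ Q ∈ S, val Q x ≤ 1 := fun x =>
    (hM x).trans ⟨fun hx Q hQ => hx Q ((hS Q).1 hQ), fun hx Q hQ => hx Q ((hS Q).2 hQ)⟩
  have hvφ : ∀ x, Valued.v (φ x) = val P x := hφ.1
  -- lifts of a basis of the coefficient field, trivial at the other places
  set β := Module.finBasis k F with hβ
  have hlift : ∀ b : F, ∃ y : K, Valued.v (φ y - HahnSeries.C b) ≤ exp (-(N : ℤ)) ∧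
      ∀ Q ∈ S, Q ≠ P → val Q y ≤ exp (-((ramIdx Q P₀ : ℤ) * N)) := fun b => by
    obtain ⟨f, hf⟩ := exists_approx hφ (HahnSeries.C b)
      ((LaurentSeries.val_le_one_iff_eq_coe F _).mpr ⟨PowerSeries.C b, by simp⟩) N
    obtain ⟨y, hy⟩ := GrothLib.FunFld.exists_approx S (fun Q => if Q = P then f else 0)
      fun Q => -((ramIdx Q P₀ : ℤ) * N)
    refine ⟨y, ?_, fun Q hQ hne => by simpa [hne] using hy Q hQ⟩
    rw [show φ y - HahnSeries.C b = φ (y - f) - (HahnSeries.C b - φ f) by rw [map_sub]; ring]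
    refine ((Valued.v).map_sub _ _).trans (max_le ?_ hf)
    rw [hvφ]
    simpa [heP] using hy P hPS
  choose v hv hv' using fun i => hlift (β i)
  have hCv : ∀ (b : F), Valued.v (HahnSeries.C b : F⸨X⸩) ≤ 1 := fun b =>
    (LaurentSeries.val_le_one_iff_eq_coe F _).mpr ⟨PowerSeries.C b, by simp⟩
  have hexpN : exp (-(N : ℤ)) ≤ (1 : WithZero (Multiplicative ℤ)) := by
    rw [← exp_zero, exp_le_exp]; omega
  have hvM : ∀ i, v i ∈ M := fun i => (hMem _).2 fun Q hQ => by
    rcases eq_or_ne Q P with rfl | hne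
    · rw [← hvφ, show φ (v i) = (φ (v i) - HahnSeries.C (β i)) + HahnSeries.C (β i) by ring]
      exact ((Valued.v).map_add _ _).trans (max_le ((hv i).trans hexpN) (hCv _))
    · refine (hv' i Q hQ hne).trans ?_
      rw [← exp_zero, exp_le_exp]
      exact neg_nonpos.2 (by positivity)
  -- `M / τ M` and its map to `F`
  set I₁ := S.inf fun Q => ball Q (-(ramIdx Q P₀ : ℤ) + ramIdx Q P₀) with hI₁
  set I₀ := S.inf fun Q => ball Q (-(ramIdx Q P₀ : ℤ)) with hI₀
  have hc : HasCodim I₀ I₁ (Module.finrank L K) :=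
    hsum' ▸ hasCodim_finsetInf_ball h' S (fun Q => -(ramIdx Q P₀ : ℤ)) (fun Q => ramIdx Q P₀)
  have hI1 : ∀ x, x ∈ I₁ ↔ x ∈ M := fun x => by
    rw [hI₁, mem_finsetInf_ball, hMem]; simp
  haveI := hc.finite
  let ev₁ : I₁ →ₗ[k] F :=
    { toFun := fun x => (φ (x : K)).coeff 0
      map_add' := fun x y => by rw [Submodule.coe_add, map_add, HahnSeries.coeff_add]
      map_smul' := fun c x => by
        rw [SetLike.val_smul, Algebra.smul_def, map_mul, _root_.LocRes.map_algebraMap,
          HahnSeries.C_mul_eq_smul, HahnSeries.coeff_smul, smul_eq_mul, ← Algebra.smul_def,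
          RingHom.id_apply] }
  have hker : I₀.comap I₁.subtype ≤ LinearMap.ker ev₁ := fun x hx => by
    have hx' := (mem_finsetInf_ball S _ (x : K)).1 hx P hPS
    rw [heP, ← hvφ] at hx'
    exact (LaurentSeries.valuation_le_iff_coeff_lt_eq_zero F (D := ((1 : ℕ) : ℤ))).mp hx' 0
      (by norm_num)
  let ev := (I₀.comap I₁.subtype).liftQ ev₁ hker
  have hev : Function.Surjective ev := fun b => by
    obtain ⟨y, hy, hy'⟩ := hlift b
    have hyM : y ∈ M := (hMem _).2 fun Q hQ => by
      rcases eq_or_ne Q P with rfl | hne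
      · rw [← hvφ, show φ y = (φ y - HahnSeries.C b) + HahnSeries.C b by ring]
        exact ((Valued.v).map_add _ _).trans (max_le (hy.trans hexpN) (hCv _))
      · refine (hy' Q hQ hne).trans ?_
        rw [← exp_zero, exp_le_exp]
        exact neg_nonpos.2 (by positivity)
    refine ⟨Submodule.Quotient.mk ⟨y, (hI1 y).2 hyM⟩, ?_⟩
    show (φ y).coeff 0 = b
    have := (LaurentSeries.valuation_le_iff_coeff_lt_eq_zero F).mp hy 0 (by omega)
    rw [HahnSeries.coeff_sub, sub_eq_zero, HahnSeries.C_apply, HahnSeries.coeff_single_same] at this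
    exact this
  -- the kernel, lifted to elements trivial at `P`
  set W := LinearMap.ker ev with hW
  let γ := Module.finBasis k W
  have hlift' : ∀ x : W, ∃ y : K, val P y ≤ exp (-(N : ℤ)) ∧ y ∈ M ∧
      ∀ x' : I₁, Submodule.Quotient.mk x' = (x : _ ⧸ I₀.comap I₁.subtype) → (x' : K) - y ∈ I₀ := by
    rintro ⟨q, hq⟩
    obtain ⟨⟨x, hx⟩, rfl⟩ := Submodule.Quotient.mk_surjective _ q
    have hx0 : (φ x).coeff 0 = 0 := hq
    have hxM := (hMem x).1 ((hI1 x).1 hx)
    have hxP : val P x ≤ exp (-1) := by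
      rw [← hvφ, ← sub_zero (φ x)]
      exact val_sub_le_of_coeff (by rw [hvφ]; exact hxM P hPS) (by simp) (by simpa using hx0)
    obtain ⟨y, hy⟩ := GrothLib.FunFld.exists_approx S (fun Q => if Q = P then 0 else x)
      fun Q => if Q = P then -(N : ℤ) else -(ramIdx Q P₀ : ℤ)
    have hyP : val P y ≤ exp (-(N : ℤ)) := by simpa using hy P hPS
    have hsub : x - y ∈ I₀ := by
      rw [hI₀, mem_finsetInf_ball]
      intro Q hQ
      rcases eq_or_ne Q P with rfl | hne
      · rw [heP]
        exact ((val Q).map_sub _ _).trans (max_le hxP (hyP.trans (exp_le_exp.2 (by omega))))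
      · rw [(val Q).map_sub_swap]; simpa [hne] using hy Q hQ
    refine ⟨y, hyP, (hI1 y).1 ?_, fun x' hx' => ?_⟩
    · rw [show y = x - (x - y) by ring]
      exact sub_mem hx (hc.le hsub)
    · rw [Submodule.Quotient.eq, Submodule.mem_comap] at hx'
      rw [show (x' : K) - y = ((x' : K) - x) + (x - y) by ring]
      exact add_mem hx' hsub
  choose w hw hwM hwx using fun i => hlift' (γ i)
  let bb : Fin (Module.finrank k F) ⊕ Fin (Module.finrank k W) → K := Sum.elim v w
  have hbM : ∀ s, bb s ∈ M := by rintro (i | i); exacts [hvM i, hwM i]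
  set M' := Submodule.span P₀.O (Set.range bb) with hM'
  set ϖ : P₀.O := ⟨τ, by rw [mem_O_iff, hτ, ← exp_zero, exp_le_exp]; omega⟩ with hϖ
  have hϖm : ϖ ∈ IsLocalRing.maximalIdeal P₀.O := by
    rw [← IsLocalRing.residue_eq_zero_iff]
    refine (res_eq_zero_iff P₀ ϖ).2 ?_
    show val P₀ τ < 1
    rw [hτ, ← exp_zero, exp_lt_exp]; omega
  have hdiv : ∀ (x : K) (m : ℕ), (∀ Q ∈ S, val Q x ≤ exp (-((ramIdx Q P₀ : ℤ) * m))) →
      x / t ^ m ∈ M := fun x m hx => (hMem _).2 fun Q hQ => by
    rw [map_div₀, div_le_one₀ (zero_lt_iff.2 ((val Q).ne_zero_iff.2 (pow_ne_zero m ht0))), hvt Q hQ]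
    exact hx Q hQ
  have hsmulk : ∀ (c : k) (x : K), c • x = algebraMap k P₀.O c • x := fun c x => by
    rw [val_smul_O, algebraMap_O_coe, ← IsScalarTower.algebraMap_apply, Algebra.smul_def]
  have hgen : M ≤ M' := by
    refine Submodule.le_of_le_smul_of_le_jacobson_bot (I := IsLocalRing.maximalIdeal P₀.O) hMfg
      (IsLocalRing.maximalIdeal_le_jacobson _) fun x hx => ?_
    set q : I₁ ⧸ I₀.comap I₁.subtype := Submodule.Quotient.mk ⟨x, (hI1 x).2 hx⟩ with hq
    let r : I₁ := ∑ i, β.repr (ev q) i • ⟨v i, (hI1 _).2 (hvM i)⟩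
    have hrM : (r : K) ∈ M' := by
      simp only [r, Submodule.coe_sum, SetLike.val_smul]
      exact sum_mem fun i _ => hsmulk _ (v i) ▸
        Submodule.smul_mem _ _ (Submodule.subset_span ⟨Sum.inl i, rfl⟩)
    have hrker : q - Submodule.Quotient.mk r ∈ W := by
      rw [hW, LinearMap.mem_ker, map_sub, sub_eq_zero]
      have hvi : ∀ i, (φ (v i)).coeff 0 = β i := fun i => by
        have := (LaurentSeries.valuation_le_iff_coeff_lt_eq_zero F).mp (hv i) 0 (by omega)
        rwa [HahnSeries.coeff_sub, sub_eq_zero, HahnSeries.C_apply,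
          HahnSeries.coeff_single_same] at this
      show ev q = ev₁ r
      simp only [r, map_sum, map_smul]
      conv_lhs => rw [← β.sum_repr (ev q)]
      exact Finset.sum_congr rfl fun i _ => by
        rw [show ev₁ ⟨v i, (hI1 _).2 (hvM i)⟩ = β i from hvi i]
    choose g hg using fun i => Submodule.Quotient.mk_surjective _ ((γ i : _ ⧸ I₀.comap I₁.subtype))
    let r' : I₁ := ∑ i, γ.repr ⟨_, hrker⟩ i • g i
    have hr' : (⟨x, (hI1 x).2 hx⟩ - r - r' : I₁) ∈ I₀.comap I₁.subtype := by
      rw [← Submodule.Quotient.mk_eq_zero, Submodule.Quotient.mk_sub, Submodule.Quotient.mk_sub,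
        sub_eq_zero]
      simp only [r', ← Submodule.mkQ_apply, map_sum, map_smul]
      simp only [Submodule.mkQ_apply, hg]
      have h2 := congrArg Subtype.val (γ.sum_repr ⟨_, hrker⟩)
      simp only [Submodule.coe_sum, SetLike.val_smul] at h2
      exact h2.symm
    let r'' : K := ∑ i, γ.repr ⟨_, hrker⟩ i • w i
    have hr''M : r'' ∈ M' := sum_mem fun i _ => hsmulk _ (w i) ▸
      Submodule.smul_mem _ _ (Submodule.subset_span ⟨Sum.inr i, rfl⟩)
    have hy : x - (r : K) - r'' ∈ I₀ := by
      rw [show x - (r : K) - r'' = (x - (r : K) - (r' : K)) + ((r' : K) - r'') by ring]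
      refine add_mem hr' ?_
      simp only [r', r'', Submodule.coe_sum, SetLike.val_smul, ← Finset.sum_sub_distrib, ← smul_sub]
      exact sum_mem fun i _ => Submodule.smul_mem _ _ (hwx i (g i) (hg i))
    rw [show x = ((r : K) + r'') + (x - (r : K) - r'') by ring]
    refine add_mem (Submodule.mem_sup_left (add_mem hrM hr''M)) (Submodule.mem_sup_right ?_)
    rw [show x - (r : K) - r'' = ϖ • ((x - (r : K) - r'') / t ^ 1) by
      rw [val_smul_O, pow_one]; exact (mul_div_cancel₀ _ ht0).symm]
    exact Submodule.smul_mem_smul hϖm (hdiv _ 1 fun Q hQ => by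
      simpa using (mem_finsetInf_ball S _ _).1 hy Q hQ)
  -- a basis over `L`
  have hspan : ⊤ ≤ Submodule.span L (Set.range bb) := fun x _ => by
    rcases eq_or_ne x 0 with rfl | hx0
    · exact zero_mem _
    set m := S.sup fun Q => (-Q.ord x).toNat with hm
    have hxm : x * t ^ m ∈ M := (hMem _).2 fun Q hQ => by
      have he : 0 < ramIdx Q P₀ := pos_of_isOverWith (ramIdx_spec ((hS Q).1 hQ))
      have h1 : (-Q.ord x).toNat ≤ m := Finset.le_sup (f := fun Q => (-Q.ord x).toNat) hQ
      rw [map_mul, val_eq Q hx0, hvt Q hQ, ← exp_add, ← exp_zero, exp_le_exp]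
      have : (m : ℤ) ≤ ramIdx Q P₀ * m := le_mul_of_one_le_left (by positivity) (by exact_mod_cast he)
      omega
    have : x * t ^ m ∈ Submodule.span L (Set.range bb) :=
      Submodule.span_le_restrictScalars P₀.O L _ (hgen hxm)
    have := Submodule.smul_mem _ (τ ^ m)⁻¹ this
    rwa [Algebra.smul_def, map_inv₀, map_pow, ← ht, mul_comm x, inv_mul_cancel_left₀
      (pow_ne_zero m ht0)] at this
  have hcard : Fintype.card (Fin (Module.finrank k F) ⊕ Fin (Module.finrank k W)) =
      Module.finrank L K := by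
    rw [Fintype.card_sum, Fintype.card_fin, Fintype.card_fin, ← hc.finrank_eq, hW,
      ← ev.finrank_range_add_finrank_ker, LinearMap.range_eq_top.mpr hev, finrank_top]
  let B := basisOfTopLeSpanOfCardEqFinrank bb hspan hcard
  have hB : ∀ s, B s = bb s := fun s => by simp [B]
  have hcoord' : ∀ x ∈ M', ∀ s, val P₀ (B.repr x s) ≤ 1 := fun x hx => by
    induction hx using Submodule.span_induction with
    | mem y hy =>
      obtain ⟨s', rfl⟩ := hy
      intro s
      rw [← hB, B.repr_self, Finsupp.single_apply]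
      split_ifs <;> simp
    | zero => intro s; simp
    | add y y' _ _ hy hy' =>
      intro s
      rw [map_add, Finsupp.add_apply]
      exact ((val P₀).map_add _ _).trans (max_le (hy s) (hy' s))
    | smul c y _ hy =>
      intro s
      rw [← IsScalarTower.algebraMap_smul L c y, map_smul, Finsupp.smul_apply, smul_eq_mul, map_mul]
      exact mul_le_one' c.2 (hy s)
  have hcoord : ∀ x ∈ M, ∀ s, val P₀ (B.repr x s) ≤ 1 := fun x hx => hcoord' x (hgen hx)
  have hsmall : ∀ x : K, (∀ Q ∈ S, val Q x ≤ exp (-((ramIdx Q P₀ : ℤ) * N))) →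
      ∀ s, val P₀ (B.repr x s) ≤ exp (-(N : ℤ)) := fun x hx s => by
    have h1 : x = τ ^ N • (x / t ^ N) := by
      rw [Algebra.smul_def, map_pow]; exact (mul_div_cancel₀ _ (pow_ne_zero N ht0)).symm
    rw [h1, map_smul, Finsupp.smul_apply, smul_eq_mul, map_mul, map_pow, hτ, ← exp_nsmul]
    refine (mul_le_mul' le_rfl (hcoord _ (hdiv x N hx) s)).trans_eq ?_
    rw [mul_one]
    congr 1; simp
  -- the diagonal
  have hlM : ∀ Q ∈ S, Q ≠ P → val Q l ≤ exp (-((ramIdx Q P₀ : ℤ) * N)) := fun Q hQ hne =>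
    hl' Q _ hne (ramIdx_spec ((hS Q).1 hQ))
  have hlP : Valued.v (φ l) ≤ 1 := by
    rw [show φ l = (φ l - HahnSeries.C a) + HahnSeries.C a by ring]
    exact ((Valued.v).map_add _ _).trans (max_le (hl.trans hexpN) (hCv _))
  set A := Algebra.leftMulMatrix β a with hA
  have hinl : ∀ i, val P₀ (B.repr (l * v i) (Sum.inl i) - algebraMap k L (A i i)) ≤
      exp (-(N : ℤ)) := fun i => by
    set r := ∑ j, algebraMap k K (A j i) * v j with hr
    have hrepr : B.repr r (Sum.inl i) = algebraMap k L (A i i) := by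
      rw [hr, map_sum, Finsupp.finsetSum_apply, Finset.sum_eq_single i]
      · rw [IsScalarTower.algebraMap_apply k L K, ← Algebra.smul_def,
          show v i = B (Sum.inl i) from (hB (Sum.inl i)).symm, map_smul, B.repr_self]
        simp [Algebra.algebraMap_eq_smul_one]
      · intro j _ hji
        rw [IsScalarTower.algebraMap_apply k L K, ← Algebra.smul_def,
          show v j = B (Sum.inl j) from (hB (Sum.inl j)).symm, map_smul, B.repr_self]
        simp [hji]
      · exact fun hi => absurd (Finset.mem_univ i) hi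
    rw [← hrepr, ← Finsupp.sub_apply, ← map_sub]
    refine hsmall _ (fun Q hQ => ?_) _
    rcases eq_or_ne Q P with rfl | hne
    · rw [heP, Nat.cast_one, one_mul, ← hvφ]
      have haβ : a * β i = ∑ j, algebraMap k F (A j i) * β j := by
        conv_lhs => rw [← β.sum_repr (a * β i)]
        exact Finset.sum_congr rfl fun j _ => by
          rw [hA, Algebra.leftMulMatrix_eq_repr_mul, Algebra.smul_def]
      have h1 : φ (l * v i - r) = ((φ l - HahnSeries.C a) * φ (v i) +
          HahnSeries.C a * (φ (v i) - HahnSeries.C (β i))) -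
          ∑ j, HahnSeries.C (algebraMap k F (A j i)) * (φ (v j) - HahnSeries.C (β j)) := by
        have h2 : HahnSeries.C a * HahnSeries.C (β i) =
            (∑ j, HahnSeries.C (algebraMap k F (A j i)) * HahnSeries.C (β j) : F⸨X⸩) := by
          rw [← map_mul, haβ, map_sum]; simp only [map_mul]
        rw [map_sub, map_mul, hr, map_sum]
        simp only [map_mul, _root_.LocRes.map_algebraMap, mul_sub, Finset.sum_sub_distrib, ← h2]
        ring
      rw [h1]
      refine ((Valued.v).map_sub _ _).trans (max_le (((Valued.v).map_add _ _).trans (max_le ?_ ?_)) ?_)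
      · rw [map_mul]
        exact (mul_le_mul' hl (by rw [hvφ]; exact (hMem _).1 (hvM i) _ hQ)).trans_eq (mul_one _)
      · rw [map_mul]
        exact (mul_le_mul' (hCv a) (hv i)).trans_eq (one_mul _)
      · refine (Valued.v).map_sum_le fun j _ => ?_
        rw [map_mul]
        exact (mul_le_mul' (hCv _) (hv j)).trans_eq (one_mul _)
    · refine ((val Q).map_sub _ _).trans (max_le ?_ ?_)
      · rw [map_mul]
        exact (mul_le_mul' (hlM Q hQ hne) ((hMem _).1 (hvM i) Q hQ)).trans_eq (mul_one _)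
      · refine (val Q).map_sum_le fun j _ => ?_
        rw [map_mul]
        exact (mul_le_mul' (val_le_one_of_const Q _) (hv' j Q hQ hne)).trans_eq (one_mul _)
  have hinr : ∀ i, val P₀ (B.repr (l * w i) (Sum.inr i)) ≤ exp (-(N : ℤ)) := fun i => by
    refine hsmall _ (fun Q hQ => ?_) _
    rw [map_mul]
    rcases eq_or_ne Q P with rfl | hne
    · rw [heP, Nat.cast_one, one_mul]
      exact (mul_le_mul' (by rw [← hvφ]; exact hlP) (hw i)).trans_eq (one_mul _)
    · exact (mul_le_mul' (hlM Q hQ hne) ((hMem _).1 (hwM i) Q hQ)).trans_eq (mul_one _)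
  rw [Algebra.trace_eq_matrix_trace β a, ← hA, Algebra.trace_eq_matrix_trace B l, Matrix.trace,
    Matrix.trace, Fintype.sum_sum_type, map_sum,
    show ∀ p q s : L, p + q - s = (p - s) + q from fun p q s => by ring, ← Finset.sum_sub_distrib]
  refine ((val P₀).map_add _ _).trans (max_le ((val P₀).map_sum_le fun i _ => ?_)
    ((val P₀).map_sum_le fun i _ => ?_))
  · rw [Matrix.diag_apply, Matrix.diag_apply, Algebra.leftMulMatrix_eq_repr_mul, hB]
    exact hinl i
  · rw [Matrix.diag_apply, Algebra.leftMulMatrix_eq_repr_mul, hB]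
    exact hinr i

end Congr

section Local

variable {k : Type u} {K : Type v} [Field k] [Field K] [Algebra k K]

/-- The components of a cotrace of `dx` from a rational field `L` at the places above the zero of
`x` with parameter `x` are the residues of `z dx`. -/
theorem cotrace_eta_sgl {L : Type z} [Field L] [Algebra k L] [Algebra L K] [IsScalarTower k L K]
    [FiniteDimensional L K] (hL : _root_.FunFld.IsFunctionField k L) {x : L} {P₀ : Place k L}
    {D : _root_.FunFld.Divisor k L} {η : Module.Dual k (_root_.FunFld.adele k L)}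
    (hη : η ∈ _root_.FunFld.WD D) (hD0 : D P₀ = 0) (hx0 : val P₀ x = exp (-1)) (hd0 : P₀.deg = 1)
    (huniq : ∀ Q : Place k L, 0 < Q.ord x → Q = P₀)
    (hηval : ∀ m : ℕ, η (sgl P₀ ((x ^ m)⁻¹)) = if m = 1 then 1 else 0)
    {ω : Module.Dual k (_root_.FunFld.adele k K)}
    (hωs : ∀ (Q : Place k K) (P : Place k L) (e : ℕ), IsOverWith Q P e →
      ∀ z b : K, val Q (z - b) ≤ exp ((e : ℤ) * D P) →
        (∀ (Q' : Place k K) (e' : ℕ), Q' ≠ Q → IsOverWith Q' P e' →
          val Q' b ≤ exp ((e' : ℤ) * D P)) →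
        ω (sgl Q z) = η (sgl P (Algebra.trace L K b)))
    {F : Type w} [Field F] [Algebra k F] [FiniteDimensional k F] {P : Place k K}
    {φ : K →ₐ[k] F⸨X⸩} (hφ : _root_.LocRes.IsExpansionAt P.1 φ) {t : K}
    (hxt : algebraMap L K x = t) (ht : val P t = exp (-1)) (z : K) :
    ω (sgl P z) = _root_.LocRes.locRes φ z t := by
  classical
  have ht0 : t ≠ 0 := fun h0 => by rw [h0, map_zero] at ht; exact exp_ne_zero ht.symm
  have hP : IsOverWith P P₀ 1 := by
    obtain ⟨P', e, he, hP'⟩ := exists_isOverWith (K := L) P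
    have h1 := ord_of_isOverWith hP' x
    rw [show P.ord (algebraMap L K x) = 1 from ord_eq_of_val_eq P (n := -1) (hxt.symm ▸ ht)] at h1
    have he1 : (e : ℤ) = 1 := Int.eq_one_of_mul_eq_one_right (Int.natCast_nonneg e) h1.symm
    obtain rfl : e = 1 := by exact_mod_cast he1
    rw [Nat.cast_one, one_mul] at h1
    rwa [huniq P' (by omega)] at hP'
  have hvφ : ∀ y, Valued.v (φ y) = val P y := hφ.1
  have hvt : Valued.v (φ t) = exp (-1) := (hvφ t).trans ht
  have hφt0 : φ t ≠ 0 := fun h0 => by rw [h0, map_zero] at hvt; exact exp_ne_zero hvt.symm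
  suffices H : ∀ (n : ℕ) (z : K), val P z ≤ exp (n : ℤ) →
      ω (sgl P z) = _root_.LocRes.locRes φ z t by
    rcases eq_or_ne z 0 with rfl | hz
    · simp [_root_.LocRes.locRes, _root_.LocRes.resExp]
    · exact H (-P.ord z).toNat z (by rw [val_eq P hz, exp_le_exp]; omega)
  intro n
  induction n with
  | zero =>
    intro z hz
    rw [Nat.cast_zero, exp_zero] at hz
    rw [hωs P P₀ 1 hP z 0 (by simpa [hD0] using hz) (fun Q e _ _ => by simp), map_zero, map_zero,
      map_zero, _root_.LocRes.locRes, _root_.LocRes.resExp, res_mul_D_eq_zero, map_zero]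
    · rw [hvφ]; exact hz
    · rw [hvt, ← exp_zero, exp_le_exp]; omega
  | succ n ih =>
    intro z hz
    set N : ℕ := n + 1 with hN
    set a := (φ (z * t ^ N)).coeff 0 with ha
    obtain ⟨f, hf⟩ := exists_approx hφ (HahnSeries.C a)
      ((LaurentSeries.val_le_one_iff_eq_coe F _).mpr ⟨PowerSeries.C a, by simp⟩) N
    have hfib := (sum_ramIdx (K' := K) hL.1 P₀).1
    obtain ⟨l, hl0⟩ := GrothLib.FunFld.exists_approx hfib.toFinset (fun Q => if Q = P then f else 0)
      fun Q => -((ramIdx Q P₀ : ℤ) * N)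
    have hlP : Valued.v (φ l - HahnSeries.C a) ≤ exp (-(N : ℤ)) := by
      rw [show φ l - HahnSeries.C a = φ (l - f) - (HahnSeries.C a - φ f) by rw [map_sub]; ring]
      refine ((Valued.v).map_sub _ _).trans (max_le ?_ hf)
      rw [hvφ]
      simpa [ramIdx_eq hP] using hl0 P (hfib.mem_toFinset.2 ⟨1, hP⟩)
    have hlQ : ∀ (Q : Place k K) (e : ℕ), Q ≠ P → IsOverWith Q P₀ e →
        val Q l ≤ exp (-((e : ℤ) * N)) := fun Q e hne he => by
      simpa [hne, ramIdx_eq he] using hl0 Q (hfib.mem_toFinset.2 ⟨e, he⟩)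
    have htr := trace_congr hφ hL.1 hd0 hP hx0 (N := N) (by omega) a hlP hlQ
    set b := l * (t ^ N)⁻¹ with hb
    have hla : Valued.v (φ l) ≤ 1 := by
      rw [show φ l = (φ l - HahnSeries.C a) + HahnSeries.C a by ring]
      refine ((Valued.v).map_add _ _).trans (max_le (hlP.trans ?_)
        ((LaurentSeries.val_le_one_iff_eq_coe F _).mpr ⟨PowerSeries.C a, by simp⟩))
      rw [← exp_zero, exp_le_exp]; omega
    -- one step down
    have hzt : Valued.v (φ (z * t ^ N)) ≤ 1 := by
      rw [hvφ, map_mul, map_pow, ht, ← exp_nsmul]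
      refine (mul_le_mul_left hz _).trans_eq ?_
      rw [← exp_add, ← exp_zero]
      congr 1; simp [hN]
    have hstep : val P (z - b) ≤ exp (n : ℤ) := by
      have h1 : Valued.v (φ (z * t ^ N) - φ l) ≤ exp (-1) := by
        refine val_sub_le_of_coeff hzt hla ?_
        have h2 := (LaurentSeries.valuation_le_iff_coeff_lt_eq_zero F).mp hlP 0 (by omega)
        rw [HahnSeries.coeff_sub, sub_eq_zero, HahnSeries.C_apply, HahnSeries.coeff_single_same] at h2
        rw [h2, ha]
      have htN : t ^ N ≠ 0 := pow_ne_zero N ht0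
      rw [← map_sub, hvφ] at h1
      rw [hb, show z - l * (t ^ N)⁻¹ = (z * t ^ N - l) * (t ^ N)⁻¹ by
        rw [sub_mul, mul_inv_cancel_right₀ htN], map_mul, map_inv₀, map_pow, ht, ← exp_nsmul, ← exp_neg]
      refine (mul_le_mul_left h1 _).trans_eq ?_
      rw [← exp_add]
      congr 1; simp [hN]
    have hbP : val P b ≤ exp (N : ℤ) := by
      rw [hb, map_mul, ← hvφ, map_inv₀, map_pow, ht, ← exp_nsmul, ← exp_neg]
      refine (mul_le_of_le_one_left' hla).trans_eq ?_
      congr 1; simp
    -- the cotrace side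
    have hωb : ω (sgl P b) = if N = 1 then Algebra.trace k F a else 0 := by
      rw [hωs P P₀ 1 hP b b (by simp) fun Q e hne he => ?_]
      · have h3 : Algebra.trace L K b = Algebra.trace k F a • (x ^ N)⁻¹ +
            (Algebra.trace L K l - algebraMap k L (Algebra.trace k F a)) * (x ^ N)⁻¹ := by
          rw [hb, show l * (t ^ N)⁻¹ = (x ^ N)⁻¹ • l by
            rw [Algebra.smul_def, map_inv₀, map_pow, hxt, mul_comm], map_smul, smul_eq_mul,
            Algebra.smul_def]
          ring
        rw [h3, map_add, map_add, map_smul, map_smul, hηval, smul_eq_mul, mul_ite, mul_one, mul_zero,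
          WD_sgl_eq_zero hη, add_zero]
        rw [hD0, map_mul, map_inv₀, map_pow, hx0, ← exp_nsmul, ← exp_neg]
        refine (mul_le_mul_left htr _).trans_eq ?_
        rw [← exp_add]
        congr 1; simp
      · rw [hD0, mul_zero, exp_zero, hb, map_mul, map_inv₀,
          show val Q (t ^ N) = exp (-((e : ℤ) * N)) by
            rw [map_pow, show val Q t = val P₀ x ^ e from hxt ▸ he x, hx0, ← exp_nsmul, ← exp_nsmul]
            congr 1; simp; ring, ← exp_neg, neg_neg]
        refine (mul_le_mul_left (hlQ Q e hne he) _).trans_eq ?_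
        rw [← exp_add, neg_add_cancel, exp_zero]
    -- the residue side
    have hresb : _root_.LocRes.resExp φ b t = if N = 1 then a else 0 := by
      rw [_root_.LocRes.resExp, hb, map_mul φ, map_inv₀ φ, map_pow φ,
        show φ l * (φ t ^ N)⁻¹ * _root_.LocRes.D F (φ t) =
          HahnSeries.C a * ((φ t ^ N)⁻¹ * _root_.LocRes.D F (φ t)) +
            ((φ l - HahnSeries.C a) * (φ t ^ N)⁻¹) * _root_.LocRes.D F (φ t) by ring,
        map_add, res_mul_D_eq_zero (f := (φ l - HahnSeries.C a) * (φ t ^ N)⁻¹) ?_ ?_, add_zero,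
        res_C_mul]
      · split_ifs with h1
        · rw [h1, pow_one, res_inv_mul_D hφt0, hvt, log_exp]; simp
        · rw [show (φ t ^ N)⁻¹ = φ t ^ ((1 - (N : ℤ)) - 1) by
            rw [show (1 - (N : ℤ)) - 1 = -(N : ℤ) by ring, zpow_neg, zpow_natCast],
            res_zpow_mul_D _ _ (by omega), mul_zero]
      · rw [map_mul, map_inv₀, map_pow, hvt, ← exp_nsmul, ← exp_neg]
        refine (mul_le_mul_left hlP _).trans_eq ?_
        rw [← exp_add, ← exp_zero]
        congr 1; simp
      · rw [hvt, ← exp_zero, exp_le_exp]; omega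
    have hloc : ∀ p q : K, _root_.LocRes.locRes φ (p + q) t =
        _root_.LocRes.locRes φ p t + _root_.LocRes.locRes φ q t := fun p q => by
      simp only [_root_.LocRes.locRes, _root_.LocRes.resExp, map_add, add_mul]
    rw [show z = (z - b) + b by ring, map_add, map_add, hloc, ih _ hstep, hωb,
      _root_.LocRes.locRes, _root_.LocRes.locRes, hresb, apply_ite (Algebra.trace k F), map_zero]

/-- There is a Weil differential whose components, at all places with local parameter `t`, are
the residues of `z dt`. -/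
theorem exists_local (hK : _root_.FunFld.IsFunctionField k K) {t : K} (htt : Transcendental k t) :
    ∃ ω : Module.Dual k (_root_.FunFld.adele k K), _root_.FunFld.IsWeil ω ∧
      ∀ (F : Type w) [Field F] [Algebra k F] [FiniteDimensional k F] (P : Place k K)
        (φ : K →ₐ[k] F⸨X⸩), _root_.LocRes.IsExpansionAt P.1 φ → val P t = exp (-1) →
        ∀ z, ω (sgl P z) = _root_.LocRes.locRes φ z t := by
  classical
  have ht0 : t ≠ 0 := fun h0 => htt (h0 ▸ isAlgebraic_zero)
  let L := IntermediateField.adjoin k ({t} : Set K)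
  obtain ⟨hL, hfin⟩ := isFunctionField_intermediateField hK L
    ⟨t, IntermediateField.mem_adjoin_simple_self k t, htt⟩
  let x : L := ⟨t, IntermediateField.mem_adjoin_simple_self k t⟩
  have hgen : IntermediateField.adjoin k ({x} : Set L) = ⊤ := by
    refine IntermediateField.map_injective L.val ?_
    rw [IntermediateField.adjoin_map, ← AlgHom.fieldRange_eq_map, IntermediateField.fieldRange_val,
      Set.image_singleton]
    rfl
  have hxt : Transcendental k x := fun h0 => htt (h0.algHom L.val)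
  obtain ⟨P₀, D, η, hη, hD0, hx0, hd0, huniq, hηval⟩ := exists_eta hL hxt hgen
  obtain ⟨ω, hω, hωs⟩ := exists_cotrace (K := K) hL.1 hη
  refine ⟨ω, ⟨_, hω⟩, ?_⟩
  intro F _ _ _ P φ hφ ht z
  exact cotrace_eta_sgl hL hη hD0 hx0 hd0 huniq hηval hωs hφ rfl ht z

end Local

end GrothLib.LocRes
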