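import Groth.Agent.Lib.LocRes.ResidueTheorem
import Groth.Agent.Lib.FunFld.SeparableExt

/-!
The Riemann–Hurwitz formula through different exponents.
-/

set_option autoImplicit false
set_option linter.style.haveILetI false
set_option linter.unusedSectionVars false

namespace GrothLib.LocRes

open LaurentSeries WithZero
open GrothLib.FunFld
open _root_.FunFld (Place Divisor genus conorm IsOverWith)

universe u v w z

noncomputable local instance (priority := high) resSMulRH {k K : Type*} [Field k] [Field K] [Algebra k K]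
    (P : Place k K) : SMul k (IsLocalRing.ResidueField P.O) := Algebra.toSMul

noncomputable local instance (priority := high) resModuleRH {k K : Type*} [Field k] [Field K] [Algebra k K]
    (P : Place k K) : Module k (IsLocalRing.ResidueField P.O) := Algebra.toModule

theorem finrank_tower_field (A : Type u) (B : Type w) (C : Type z) [Field A] [Field B] [Field C]
    [Algebra A B] [Algebra B C] [Algebra A C] [IsScalarTower A B C] :
    Module.finrank A C = Module.finrank A B * Module.finrank B C :=
  (Module.finrank_mul_finrank A B C).symm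

section CoeffField

variable {k : Type u} {K : Type v} {F : Type w} [Field k] [Field K] [Field F] [Algebra k K] [Algebra k F]

/-- The residue field maps onto the coefficient field. -/
theorem exists_residueToCoeff {P : Place k K} {φ : K →ₐ[k] F⸨X⸩}
    (hφ : _root_.LocRes.IsExpansionAt P.1 φ) :
    ∃ g : IsLocalRing.ResidueField P.O →ₐ[k] F, Function.Surjective g := by
  have hO : ∀ x : P.O, Valued.v (φ (x : K)) ≤ 1 := fun x => by rw [hφ.1]; exact x.2
  let ev : P.O →+* F :=
    { toFun := fun x => (φ (x : K)).coeff 0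
      map_one' := by simp
      map_mul' := fun x y => by
        obtain ⟨q, hq⟩ := (LaurentSeries.val_le_one_iff_eq_coe F _).mp (hO y)
        simp only [MulMemClass.coe_mul, map_mul]
        rw [← hq, coeff_zero_mul_coe (hO x)]
        simp [PowerSeries.coeff_coe]
      map_zero' := by simp
      map_add' := fun x y => by simp }
  have hker : ∀ a ∈ IsLocalRing.maximalIdeal P.O, ev a = 0 := fun a ha => by
    rw [← IsLocalRing.residue_eq_zero_iff] at ha
    have h1 : val P (a : K) ≤ exp (-1) := by
      rw [show (-1 : ℤ) = 0 - 1 by ring, le_exp_sub_one_iff, exp_zero]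
      exact (res_eq_zero_iff P a).mp ha
    have h2 : Valued.v (φ (a : K)) ≤ exp (-(1 : ℤ)) := by rw [hφ.1]; exact h1
    exact (LaurentSeries.valuation_le_iff_coeff_lt_eq_zero F).mp h2 0 one_pos
  let bar : IsLocalRing.ResidueField P.O →+* F := Ideal.Quotient.lift _ ev hker
  let g : IsLocalRing.ResidueField P.O →ₐ[k] F :=
    { bar with
      commutes' := fun c => by
        show ev (algebraMap k P.O c) = _
        show (φ (algebraMap k K c)).coeff 0 = _
        rw [_root_.LocRes.map_algebraMap, HahnSeries.C_apply, HahnSeries.coeff_single_same] }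
  refine ⟨g, fun a => ?_⟩
  obtain ⟨f, hf, hfa⟩ := hφ.2.1 a
  exact ⟨IsLocalRing.residue P.O ⟨f, hf⟩, hfa⟩

/-- The coefficient field is finite over the base. -/
theorem finiteDimensional_coeff (h : IsFG k K) {P : Place k K} {φ : K →ₐ[k] F⸨X⸩}
    (hφ : _root_.LocRes.IsExpansionAt P.1 φ) : FiniteDimensional k F := by
  haveI : Module.Finite k (IsLocalRing.ResidueField P.O) := h.finite_residueField P
  obtain ⟨g, hg⟩ := exists_residueToCoeff hφ
  exact Module.Finite.of_surjective g.toLinearMap hg

end CoeffField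

variable {k k' : Type u} {K K' : Type v} [Field k] [Field k'] [Field K] [Field K']
  [Algebra k k'] [Algebra k K] [Algebra K K'] [Algebra k' K'] [Algebra k K']
  [IsScalarTower k k' K'] [IsScalarTower k K K'] [FiniteDimensional k k']

variable (k) in
/-- Places over a finite constant extension, seen over the base. -/
def placeEquiv : Place k' K' ≃ Place k K' where
  toFun Q := ⟨Q.1, fun c => by rw [IsScalarTower.algebraMap_apply k k' K']; exact Q.2.1 _, Q.2.2⟩
  invFun Q := ⟨Q.1, fun c => by
    rcases eq_or_ne c 0 with rfl | hc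
    · simp
    · exact (val_eq_one_of_isAlgebraic Q
        ((Algebra.IsAlgebraic.isAlgebraic (R := k) c).algHom (IsScalarTower.toAlgHom k k' K'))
        (by simpa using hc)).le, Q.2.2⟩
  left_inv _ := rfl
  right_inv _ := rfl

theorem deg_placeEquiv (Q : Place k' K') :
    (placeEquiv (K' := K') k Q).deg = Module.finrank k k' * Q.deg := by
  letI a1 : Algebra k (IsLocalRing.ResidueField Q.O) :=
    _root_.FunFld.Place.algRes (placeEquiv (K' := K') k Q)
  haveI : IsScalarTower k k' (IsLocalRing.ResidueField Q.O) :=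
    IsScalarTower.of_algebraMap_eq fun c => congrArg (IsLocalRing.residue Q.O)
      (Subtype.ext (IsScalarTower.algebraMap_apply k k' K' c))
  exact finrank_tower_field k k' (IsLocalRing.ResidueField Q.O)

theorem riemann_hurwitz' [FiniteDimensional K K'] [Algebra.IsSeparable K K']
    (hK : _root_.FunFld.IsFunctionField k K) (hg : _root_.FunFld.IsGeometric k K)
    (hK' : _root_.FunFld.IsFunctionField k' K')
    {F : Place k K → Type w} [∀ P, Field (F P)] [∀ P, Algebra k (F P)]
    {φ : ∀ P, K →ₐ[k] LaurentSeries (F P)} (hφ : ∀ P, _root_.LocRes.IsExpansionAt P.1 (φ P))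
    {F' : Place k' K' → Type w} [∀ Q, Field (F' Q)] [∀ Q, Algebra k' (F' Q)]
    {ψ : ∀ Q, K' →ₐ[k'] LaurentSeries (F' Q)} (hψ : ∀ Q, _root_.LocRes.IsExpansionAt Q.1 (ψ Q))
    (below : Place k' K' → Place k K) (e : Place k' K' → ℕ)
    (he : ∀ Q (z : K), Q.1 (algebraMap K K' z) = (below Q).1 z ^ e Q)
    (x : K) (hx : ∀ P, _root_.LocRes.vDiff (φ P) 1 x ≠ 0)
    (hx' : ∀ Q, _root_.LocRes.vDiff (ψ Q) 1 (algebraMap K K' x) ≠ 0) :
    (Function.support fun Q =>
      _root_.LocRes.diffExp (φ (below Q)) (ψ Q) (e Q) x).Finite ∧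
    (Module.finrank k k' : ℤ) * (2 * (genus k' K' : ℤ) - 2) =
      (Module.finrank K K' : ℤ) * (2 * (genus k K : ℤ) - 2) +
      (Module.finrank k k' : ℤ) *
        ∑ᶠ Q, _root_.LocRes.diffExp (φ (below Q)) (ψ Q) (e Q) x * (Q.deg : ℤ) := by
  classical
  have hfg : IsFG k K := hK.1
  haveI : ∀ P, FiniteDimensional k (F P) := fun P => finiteDimensional_coeff hfg (hφ P)
  haveI : ∀ Q, FiniteDimensional k' (F' Q) := fun Q => finiteDimensional_coeff hK'.1 (hψ Q)
  have hg' := isGeometric_of_isSeparable hK hg hK'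
  obtain ⟨P₁⟩ := hfg.exists_place
  have hv := D_ne_zero_of_vDiff_ne_zero (φ P₁) (hx P₁)
  obtain ⟨P₂⟩ := IsFG.exists_place hK'.1
  have hv' := D_ne_zero_of_vDiff_ne_zero (ψ P₂) (hx' P₂)
  obtain ⟨ω, hω, hωs, -⟩ := exists_weil_mul hφ hK hg 1 x
  obtain ⟨hω0, hdiv⟩ := isDivOf_eq_ordDiff hφ hK hg one_ne_zero hv hωs
  obtain ⟨C, hC⟩ := exists_isDivOf' hK hω hω0
  have hdC := (ell_canonical hK ⟨ω, hω0, hC⟩).2
  obtain ⟨ω', hω', hωs', -⟩ := exists_weil_mul hψ hK' hg' 1 (algebraMap K K' x)
  obtain ⟨hω0', hdiv'⟩ := isDivOf_eq_ordDiff hψ hK' hg' one_ne_zero hv' hωs'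
  obtain ⟨C', hC'⟩ := exists_isDivOf' hK' hω' hω0'
  have hdC' := (ell_canonical hK' ⟨ω', hω0', hC'⟩).2
  let σ : Place k' K' ≃ Place k K' := placeEquiv k
  set N : Divisor k K' := conorm K' C with hN
  set N' : Divisor k' K' := N.equivMapDomain σ.symm with hN'
  have hval : ∀ Q, (C' - N') Q = _root_.LocRes.diffExp (φ (below Q)) (ψ Q) (e Q) x := fun Q => by
    rw [Finsupp.sub_apply, hdiv' C' hC', hN', Finsupp.equivMapDomain_apply, Equiv.symm_symm, hN,
      conorm_apply hfg (show IsOverWith (σ Q) (below Q) (e Q) from he Q), hdiv C hC, _root_.LocRes.diffExp]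
  have hdN : (Module.finrank k k' : ℤ) * N'.deg =
      (Module.finrank K K' : ℤ) * (2 * (genus k K : ℤ) - 2) := by
    rw [← hdC, ← deg_conorm (K' := K') hfg C, ← hN, deg_eq_degHom, deg_eq_degHom, hN',
      Finsupp.sum_equivMapDomain, Finsupp.mul_sum]
    refine Finsupp.sum_congr fun Q _ => ?_
    have := deg_placeEquiv (k := k) (K' := K') (σ.symm Q)
    rw [Equiv.apply_symm_apply] at this
    rw [this]; push_cast; ring
  have hsupp : (Function.support fun Q => _root_.LocRes.diffExp (φ (below Q)) (ψ Q) (e Q) x) ⊆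
      ↑(C' - N').support := fun Q hQ => by
    rw [Finset.mem_coe, Finsupp.mem_support_iff, hval]; exact hQ
  refine ⟨(C' - N').support.finite_toSet.subset hsupp, ?_⟩
  rw [finsum_eq_sum_of_support_subset _ (s := (C' - N').support) fun Q hQ => hsupp (left_ne_zero_of_mul hQ)]
  have hsum : ∑ Q ∈ (C' - N').support, _root_.LocRes.diffExp (φ (below Q)) (ψ Q) (e Q) x * (Q.deg : ℤ) =
      (C' - N').deg := by
    rw [deg_eq_degHom, Finsupp.sum]
    exact Finset.sum_congr rfl fun Q _ => by rw [hval]
  rw [hsum, deg_sub, hdC']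
  linarith [hdN]

end GrothLib.LocRes
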