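import Groth.Agent.Lib.LocRes.DiffExpDual
import Groth.Agent.Lib.LocRes.RiemannHurwitz
import Groth.Agent.Lib.FunFld.GaloisPlaces
import Mathlib.FieldTheory.PrimitiveElement

/-!
The different exponent of a place in a Galois extension and the ramification groups.

An element of the inertia field integral at the place is a root of a polynomial with simple reduction
over the ground field, so its differential is a multiple, integral at the place, of that of a
parameter below; the different exponent is then read off the product of `s - σs`, `σ` in the inertia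
group, for a local parameter `s`.
-/

set_option autoImplicit false
set_option linter.style.haveILetI false
set_option linter.unusedSectionVars false

namespace GrothLib.LocRes

open LaurentSeries WithZero Polynomial
open GrothLib.FunFld
open _root_.FunFld (Place IsOver IsOverWith IsGeometric ramIdx)

universe u v w

variable {k : Type u} {K K' : Type v} [Field k] [Field K] [Field K'] [Algebra k K] [Algebra K K']
  [Algebra k K'] [IsScalarTower k K K'] [FiniteDimensional K K']

section

noncomputable local instance (priority := high) resSMulRS {k K : Type*} [Field k] [Field K] [Algebra k K]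
    (P : Place k K) : SMul k (IsLocalRing.ResidueField P.O) := Algebra.toSMul

noncomputable local instance (priority := high) resModuleRS {k K : Type*} [Field k] [Field K] [Algebra k K]
    (P : Place k K) : Module k (IsLocalRing.ResidueField P.O) := Algebra.toModule

/-- With no residue degree, the residue field does not grow. -/
theorem trivialResidue_of_deg_le (hK : IsFG k K) {P : Place k K} {Q : Place k K'} {e : ℕ}
    (he : IsOverWith Q P e) (hdeg : Q.deg ≤ P.deg) : TrivialResidue P Q := by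
  intro w hw
  haveI : FiniteDimensional k (IsLocalRing.ResidueField P.O) := hK.finite_residueField P
  haveI : FiniteDimensional k (IsLocalRing.ResidueField Q.O) :=
    (isFG_extension (K := K) hK).finite_residueField Q
  let g : IsLocalRing.ResidueField P.O →ₐ[k] IsLocalRing.ResidueField Q.O := AlgHom.mk (resBelow he)
    fun c => by
      show resBelow he (IsLocalRing.residue P.O (algebraMap k P.O c)) =
        IsLocalRing.residue Q.O (algebraMap k Q.O c)
      rw [resBelow_residue]
      refine congrArg (IsLocalRing.residue Q.O) (Subtype.ext ?_)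
      exact (IsScalarTower.algebraMap_apply k K K' c).symm
  have hle := LinearMap.finrank_le_finrank_of_injective (f := g.toLinearMap) g.toRingHom.injective
  have hsurj : Function.Surjective g.toLinearMap :=
    (LinearMap.injective_iff_surjective_of_finrank_eq_finrank (le_antisymm hle hdeg)).mp
      g.toRingHom.injective
  obtain ⟨r, hr⟩ := hsurj (IsLocalRing.residue Q.O ⟨w, hw⟩)
  obtain ⟨c, rfl⟩ := IsLocalRing.residue_surjective r
  refine ⟨c, c.2, ?_⟩
  exact (res_eq_zero_iff Q (⟨w, hw⟩ - inclBelow he c)).mp (by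
    show IsLocalRing.residue Q.O _ = 0
    rw [map_sub, sub_eq_zero]
    exact hr.symm)

/-- The residue field of a place with an expansion is separable, for a separable extension of a
geometric function field. -/
theorem isSeparable_residue [Algebra.IsSeparable K K'] (hK : IsFG k K) (hg : IsGeometric k K)
    {F' : Type w} [Field F'] [Algebra k F'] {Q : Place k K'} {ψ : K' →ₐ[k] F'⸨X⸩}
    (hψ : _root_.LocRes.IsExpansionAt Q.1 ψ) :
    Algebra.IsSeparable k (IsLocalRing.ResidueField Q.O) := by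
  obtain ⟨x, -, hsep⟩ := exists_separatingElement hK hg
  set L := IntermediateField.adjoin k ({x} : Set K)
  set L' := IntermediateField.adjoin k ({algebraMap K K' x} : Set K')
  have hL : ∀ z ∈ L, algebraMap K K' z ∈ L' := by
    intro z hz
    have hm : IntermediateField.map (IsScalarTower.toAlgHom k K K') L = L' := by
      rw [IntermediateField.adjoin_map, Set.image_singleton]; rfl
    rw [← hm]
    exact ⟨z, hz, rfl⟩
  letI : Algebra L L' := (((algebraMap K K').comp L.val.toRingHom).codRestrict L' fun z => hL _ z.2).toAlgebra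
  haveI : IsScalarTower L L' K' := IsScalarTower.of_algebraMap_eq fun z => rfl
  haveI : Algebra.IsSeparable L K := hsep
  haveI : Algebra.IsSeparable L K' := Algebra.IsSeparable.trans L K K'
  haveI : Algebra.IsSeparable L' K' := Algebra.isSeparable_tower_top_of_isSeparable L L' K'
  haveI := finiteDimensional_coeff (isFG_extension (K := K) hK) hψ
  haveI : Algebra.IsSeparable k F' := isSeparable_coeffField_of_span hψ fun y =>
    Submodule.mem_span_singleton.mp (span_D_eq_top (k := k) (algebraMap K K' x) ▸ Submodule.mem_top)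
  obtain ⟨g, -⟩ := exists_residueToCoeff hψ
  exact Algebra.IsSeparable.of_algHom k F' g

/-- A residue moved by every nontrivial element of a finite group of automorphisms. -/
theorem exists_moved {Ω : Type*} [Field Ω] [Algebra k Ω] [FiniteDimensional k Ω] [Algebra.IsSeparable k Ω]
    (H : Subgroup (Ω ≃ₐ[k] Ω)) : ∃ γ : Ω, γ ≠ 0 ∧ ∀ g ∈ H, g γ = γ → g = 1 := by
  set L := IntermediateField.fixedField H
  haveI : Algebra.IsSeparable L Ω := Algebra.isSeparable_tower_top_of_isSeparable k L Ω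
  obtain ⟨γ, hγ⟩ := Field.exists_primitive_element L Ω
  have key : ∀ g ∈ H, g γ = γ → g = 1 := by
    intro g hg hgγ
    refine AlgEquiv.ext fun z => ?_
    have hz : z ∈ IntermediateField.adjoin L ({γ} : Set Ω) := hγ ▸ IntermediateField.mem_top
    induction hz using IntermediateField.adjoin_induction with
    | mem a ha => rw [Set.mem_singleton_iff] at ha; subst ha; exact hgγ
    | algebraMap a => exact a.2 ⟨g, hg⟩
    | add a b _ _ iha ihb => rw [map_add, map_add, iha, ihb]
    | inv a _ iha => rw [map_inv₀, map_inv₀, iha]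
    | mul a b _ _ iha ihb => rw [map_mul, map_mul, iha, ihb]
  by_cases h0 : γ = 0
  · refine ⟨1, one_ne_zero, fun g hg _ => key g hg ?_⟩
    rw [h0, map_zero]
  · exact ⟨γ, h0, key⟩

end

section Galois

variable [IsGalois K K'] (hK : IsFG k K) {Q : Place k K'} {P : Place k K} {e : ℕ}
  (he : IsOverWith Q P e)

theorem mapPlace_eq_of_mem_ramGroup {σ : K' ≃ₐ[K] K'} (hσ : σ ∈ ramGroup Q 1) : mapPlace σ Q = Q := by
  rw [← map_inertia_eq Q] at hσ
  obtain ⟨g, -, rfl⟩ := hσ
  exact (mem_decomposition_iff _ _).mp g.2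

theorem val_apply_of_mem_ramGroup {σ : K' ≃ₐ[K] K'} (hσ : σ ∈ ramGroup Q 1) (z : K') :
    val Q (σ z) = val Q z := by
  conv_lhs => rw [← mapPlace_eq_of_mem_ramGroup hσ]
  rw [val_mapPlace, AlgEquiv.symm_apply_apply]

include hK he

/-- An element of the inertia field whose conjugates are separated modulo the place. -/
theorem exists_theta [Algebra.IsSeparable k (IsLocalRing.ResidueField Q.O)] :
    ∃ θ : K', (∀ σ ∈ ramGroup (K := K) Q 1, σ θ = θ) ∧ (∀ σ : K' ≃ₐ[K] K', val Q (σ θ) ≤ 1) ∧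
      val Q θ = 1 ∧ (∀ R : Place k K', IsOver R P → R ≠ Q → val R θ ≤ exp (-1)) ∧
      ∀ σ : K' ≃ₐ[K] K', σ ∉ ramGroup (K := K) Q 1 → val Q (θ - σ θ) = 1 := by
  classical
  set E := IntermediateField.fixedField (ramGroup (K := K) Q 1) with hE
  have hKE : IsFG k E := isFG_extension (K := K) (K' := E) hK
  obtain ⟨Q₁, hQ₁⟩ := totallyRamified_fixedField (K := K) hK Q
  obtain ⟨hdeg, huniq⟩ := totallyRamified hKE hQ₁ rfl
  have hres := trivialResidue_of_deg_le hKE hQ₁ hdeg
  have h' : IsFG k K' := isFG_extension (K := K) hK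
  have hfinQ : @Module.Finite k (IsLocalRing.ResidueField Q.O) _ _ Algebra.toModule :=
    h'.finite_residueField Q
  letI : SMul k (IsLocalRing.ResidueField Q.O) := Algebra.toSMul
  letI : Module k (IsLocalRing.ResidueField Q.O) := Algebra.toModule
  haveI : FiniteDimensional k (IsLocalRing.ResidueField Q.O) := hfinQ
  obtain ⟨γ, hγ0, hγ⟩ := exists_moved (resAut (K := K) Q).range
  obtain ⟨x, rfl⟩ := res_surjective Q γ
  obtain ⟨a, -, ha⟩ := hres (x : K') x.2
  obtain ⟨hfin, -⟩ := sum_ramIdx (K' := E) hK P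
  obtain ⟨R₀, e₁, he₁, hR₀⟩ := exists_isOverWith (K := K) Q₁
  have hPeq : R₀ = P := by
    have h0 : IsOverWith Q R₀ (e₁ * Module.finrank E K') := fun z => by
      rw [IsScalarTower.algebraMap_apply K E K', hQ₁, hR₀, ← pow_mul]
    exact (isOverWith_unique h0 he).1
  rw [hPeq] at hR₀
  obtain ⟨y, hy⟩ := GrothLib.FunFld.exists_approx hfin.toFinset (fun R => if R = Q₁ then a else 0) fun _ => -1
  have hy1 := hy Q₁ (hfin.mem_toFinset.mpr ⟨e₁, hR₀⟩)
  rw [if_pos rfl] at hy1
  have hlt : (exp (-1 : ℤ) : WithZero (Multiplicative ℤ)) < 1 := by rw [← exp_zero, exp_lt_exp]; omega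
  have hpos := pos_of_isOverWith hQ₁
  set θ := algebraMap E K' y with hθ
  have hθx : val Q (θ - x) < 1 := by
    rw [show θ - x = algebraMap E K' (y - a) + -((x : K') - algebraMap E K' a) by rw [hθ, map_sub]; ring]
    refine lt_of_le_of_lt ((val Q).map_add _ _) (max_lt ?_ (by rwa [Valuation.map_neg]))
    rw [show val Q (algebraMap E K' (y - a)) = _ from hQ₁ _]
    exact pow_lt_one₀ zero_le (hy1.trans_lt hlt) hpos.ne'
  have hx1 : val Q (x : K') = 1 := le_antisymm x.2 (not_lt.mp fun h => hγ0 ((res_eq_zero_iff Q x).mpr h))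
  have hθ1 : val Q θ = 1 := by
    rw [show θ = (x : K') + (θ - x) by ring, (val Q).map_add_eq_of_lt_left, hx1]
    rw [hx1]; exact hθx
  have hother : ∀ R : Place k K', IsOver R P → R ≠ Q → val R θ ≤ exp (-1) := by
    intro R hR hne
    obtain ⟨R', d, hd0, hd⟩ := exists_isOverWith (K := E) R
    obtain ⟨P', e₂, he₂, hP'⟩ := exists_isOverWith (K := K) R'
    obtain ⟨eR, heR⟩ := hR
    have hPP : P' = P := by
      have h0 : IsOverWith R P' (e₂ * d) := fun z => by
        rw [IsScalarTower.algebraMap_apply K E K', hd, hP', ← pow_mul]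
      exact (isOverWith_unique h0 heR).1
    rw [hPP] at hP'
    have hR' : R' ≠ Q₁ := fun h => hne (huniq R ⟨d, h ▸ hd⟩)
    have h1 := hy R' (hfin.mem_toFinset.mpr ⟨e₂, hP'⟩)
    rw [if_neg hR', sub_zero] at h1
    rw [hθ, show val R (algebraMap E K' y) = _ from hd y]
    exact (pow_le_of_le_one zero_le (h1.trans hlt.le) (pos_of_isOverWith hd).ne').trans h1
  have hall : ∀ σ : K' ≃ₐ[K] K', σ ∉ (Q.O).decompositionSubgroup K → val Q (σ θ) ≤ exp (-1) := by
    intro σ hσ
    have h1 := hother (mapPlace σ.symm Q) ⟨e, isOverWith_mapPlace σ.symm he⟩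
      (fun hh => hσ (inv_inv σ ▸ inv_mem ((mem_decomposition_iff σ.symm Q).mpr hh)))
    rwa [val_mapPlace, AlgEquiv.symm_symm] at h1
  refine ⟨θ, fun σ hσ => y.2 ⟨σ, hσ⟩, fun σ => ?_, hθ1, hother, fun σ hσ => ?_⟩
  · by_cases hd : σ ∈ (Q.O).decompositionSubgroup K
    · exact ((⟨σ, hd⟩ : (Q.O).decompositionSubgroup K) • (⟨θ, hθ1.le⟩ : Q.O)).2
    · exact (hall σ hd).trans hlt.le
  · by_cases hd : σ ∈ (Q.O).decompositionSubgroup K
    · have hθσ : val Q (σ θ) ≤ 1 := ((⟨σ, hd⟩ : (Q.O).decompositionSubgroup K) • (⟨θ, hθ1.le⟩ : Q.O)).2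
      refine le_antisymm (((val Q).map_sub _ _).trans (max_le hθ1.le hθσ)) (not_lt.mp fun hlt1 => ?_)
      let g : (Q.O).decompositionSubgroup K := ⟨σ, hd⟩
      have hres' : res Q (g • (⟨θ, hθ1.le⟩ : Q.O)) = res Q ⟨θ, hθ1.le⟩ := by
        rw [← sub_eq_zero, ← map_sub, res_eq_zero_iff]
        show val Q (σ θ - θ) < 1
        rwa [Valuation.map_sub_swap]
      have hθres : res Q ⟨θ, hθ1.le⟩ = res Q x := by
        rw [← sub_eq_zero, ← map_sub, res_eq_zero_iff]
        exact hθx
      rw [← resAut_res, hθres] at hres'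
      have h1 := hγ (resAut Q g) ⟨g, rfl⟩ hres'
      apply hσ
      rw [← map_inertia_eq Q]
      exact ⟨g, by rw [← ker_resAut]; exact h1, rfl⟩
    · rw [(val Q).map_sub_eq_of_lt_left (by rw [hθ1]; exact (hall σ hd).trans_lt hlt), hθ1]

variable {F F' : Type w} [Field F] [Algebra k F] [Field F'] [Algebra k F']
  {φ : K →ₐ[k] F⸨X⸩} {ψ : K' →ₐ[k] F'⸨X⸩} (hg : IsGeometric k K)
  (hφ : _root_.LocRes.IsExpansionAt P.1 φ) (hψ : _root_.LocRes.IsExpansionAt Q.1 ψ)
  {t : K} (ht : val P t = exp (-1))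

include hg hφ hψ ht

omit [IsGalois K K'] hψ in
/-- The differential of an element integral below is an integral multiple of that of a parameter. -/
theorem exists_D_algebraMap_eq {a : K} (ha : val P a ≤ 1) :
    ∃ c : K, val P c ≤ 1 ∧ _root_.LocRes.D F' (ψ (algebraMap K K' a)) =
        ψ (algebraMap K K' c) * _root_.LocRes.D F' (ψ (algebraMap K K' t)) := by
  have hDt : Valued.v (_root_.LocRes.D F (φ t)) = exp (-((1 : ℤ) - 1)) :=
    (val_D_of_val (n := 1) (by rw [hφ.1]; exact ht)).1 (by simp)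
  rw [sub_self, neg_zero, exp_zero] at hDt
  have htd : _root_.LocRes.vDiff φ 1 t ≠ 0 := by
    rw [_root_.LocRes.vDiff, map_one, one_mul, hDt]; exact one_ne_zero
  obtain ⟨c, hc⟩ := exists_D_eq hK hg (D_ne_zero_of_vDiff_ne_zero φ htd) a
  have h1 := congrArg Valued.v (D_eq_mul_of_smul φ hc)
  rw [map_mul, hDt, mul_one, hφ.1] at h1
  refine ⟨c, ?_, D_eq_mul_of_smul ψ (algebraMap_smul_D (K' := K') hc)⟩
  show P.1 c ≤ 1
  rw [← h1]
  obtain ⟨q, hq⟩ := (LaurentSeries.val_le_one_iff_eq_coe F _).mp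
    (show Valued.v (φ a) ≤ 1 by rw [hφ.1]; exact ha)
  rw [← hq, _root_.LocRes.D_coe]
  exact (LaurentSeries.val_le_one_iff_eq_coe F _).mpr ⟨_, rfl⟩

omit [IsGalois K K'] in
theorem val_D_le_of_val_le_one {a : K} (ha : val P a ≤ 1) :
    Valued.v (_root_.LocRes.D F' (ψ (algebraMap K K' a))) ≤
      Valued.v (_root_.LocRes.D F' (ψ (algebraMap K K' t))) := by
  obtain ⟨c, hc, h⟩ := exists_D_algebraMap_eq hK he hg hφ ht (ψ := ψ) ha
  rw [h, map_mul, hψ.1, he]
  exact mul_le_of_le_one_left' (pow_le_one₀ zero_le hc)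

omit [IsGalois K K'] in
/-- The differential of a polynomial expression. -/
theorem val_D_aeval_sub_le (p : K[X]) (hp : ∀ i, val P (p.coeff i) ≤ 1) {y : K'} (hy : val Q y ≤ 1) :
    Valued.v (_root_.LocRes.D F' (ψ (aeval y p)) -
        ψ (aeval y (derivative p)) * _root_.LocRes.D F' (ψ y)) ≤
      Valued.v (_root_.LocRes.D F' (ψ (algebraMap K K' t))) := by
  have hev : ∀ q : K[X], (q.map (ψ.toRingHom.comp (algebraMap K K'))).eval (ψ y) = ψ (aeval y q) := fun q => by
    rw [eval_map, ← show ψ.toRingHom y = ψ y from rfl, ← hom_eval₂, aeval_def]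
    rfl
  have h := D_eval (p.map (ψ.toRingHom.comp (algebraMap K K'))) (ψ y)
  rw [hev, derivative_map, hev, sum_over_range' _ (fun i => by simp) (p.natDegree + 1)
    (lt_of_le_of_lt natDegree_map_le (Nat.lt_succ_self _))] at h
  rw [h, add_sub_cancel_left]
  refine Valuation.map_sum_le _ fun i _ => ?_
  rw [coeff_map, map_mul, map_pow, hψ.1]
  exact (mul_le_of_le_one_right' (pow_le_one₀ zero_le hy)).trans (val_D_le_of_val_le_one hK he hg hφ hψ ht (hp i))

/-- Elements of the inertia field integral at the place have differentials bounded by that of a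
parameter below. -/
theorem val_D_le_of_fixed [Algebra.IsSeparable k (IsLocalRing.ResidueField Q.O)] {a : K'}
    (ha : ∀ σ ∈ ramGroup (K := K) Q 1, σ a = a) (haQ : val Q a ≤ 1) :
    Valued.v (_root_.LocRes.D F' (ψ a)) ≤
      Valued.v (_root_.LocRes.D F' (ψ (algebraMap K K' t))) := by
  classical
  letI : Fintype (K' ≃ₐ[K] K') := AlgEquiv.fintype K K'
  obtain ⟨θ, hfix, hθle, hθ1, hother, hsep⟩ := exists_theta hK he (Q := Q)
  set δ := Valued.v (_root_.LocRes.D F' (ψ (algebraMap K K' t))) with hδ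
  have hθ0 : θ ≠ 0 := fun h => by rw [h, map_zero] at hθ1; exact zero_ne_one hθ1
  set S := Finset.univ.image fun σ : K' ≃ₐ[K] K' => σ θ with hS
  have hθS : θ ∈ S := Finset.mem_image.mpr ⟨1, Finset.mem_univ _, rfl⟩
  have hSle : ∀ c ∈ S, val Q c ≤ 1 := fun c hc => by
    obtain ⟨σ, -, rfl⟩ := Finset.mem_image.mp hc; exact hθle σ
  have hSτ : ∀ τ : K' ≃ₐ[K] K', S.image τ = S := fun τ => by
    refine Finset.eq_of_subset_of_card_le (fun c hc => ?_) (Finset.card_image_of_injective _ τ.injective).ge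
    obtain ⟨d, hd, rfl⟩ := Finset.mem_image.mp hc
    obtain ⟨σ, -, rfl⟩ := Finset.mem_image.mp hd
    exact Finset.mem_image.mpr ⟨τ * σ, Finset.mem_univ _, rfl⟩
  have hunit : val Q (∏ c ∈ S.erase θ, (θ - c)) = 1 := by
    rw [map_prod]
    refine Finset.prod_eq_one fun c hc => ?_
    obtain ⟨hne, hc⟩ := Finset.mem_erase.mp hc
    obtain ⟨σ, -, rfl⟩ := Finset.mem_image.mp hc
    exact hsep σ fun hσ => hne (hfix σ hσ)
  -- descent of polynomials with fixed coefficients
  have hdesc : ∀ p : K'[X], (∀ τ : K' ≃ₐ[K] K', p.map (τ : K' →+* K') = p) → (∀ i, val Q (p.coeff i) ≤ 1) →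
      ∃ q : K[X], q.map (algebraMap K K') = p ∧ ∀ i, val P (q.coeff i) ≤ 1 := by
    intro p hfp hval
    have hl : p ∈ lifts (algebraMap K K') := (lifts_iff_coeff_lifts p).mpr fun n =>
      (IsGalois.mem_range_algebraMap_iff_fixed _).mpr fun τ => by
        conv_rhs => rw [← hfp τ, coeff_map]
        rfl
    obtain ⟨q, hq⟩ := hl
    rw [coe_mapRingHom] at hq
    refine ⟨q, hq, fun i => (val_le_one_iff_of_isOverWith he _).mp ?_⟩
    rw [← coeff_map, hq]; exact hval i
  have hvalprod : ∀ T ⊆ S, ∀ i, val Q ((∏ c ∈ T, (X - C c)).coeff i) ≤ 1 := by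
    intro T hT i
    let c' : S → Q.O := fun c => ⟨c.1, hSle c.1 c.2⟩
    have : (∏ c ∈ T.attach, (X - C (c' ⟨c.1, hT c.2⟩))).map Q.O.subtype = ∏ c ∈ T, (X - C c) := by
      rw [Polynomial.map_prod, ← Finset.prod_attach T fun c => X - C c]
      exact Finset.prod_congr rfl fun c _ => by rw [Polynomial.map_sub, map_X, map_C]; rfl
    rw [← this, coeff_map]
    exact ((∏ c ∈ T.attach, (X - C (c' ⟨c.1, hT c.2⟩))).coeff i).2
  have hp : ∀ τ : K' ≃ₐ[K] K', (∏ c ∈ S, (X - C c)).map (τ : K' →+* K') = ∏ c ∈ S, (X - C c) := fun τ => by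
    conv_rhs => rw [← hSτ τ, Finset.prod_image fun a _ b _ h => τ.injective h]
    rw [Polynomial.map_prod]
    exact Finset.prod_congr rfl fun c _ => by rw [Polynomial.map_sub, map_X, map_C]; rfl
  obtain ⟨p₀, hp₀, hp₀v⟩ := hdesc _ hp (hvalprod S subset_rfl)
  have hp'θ : aeval θ (derivative p₀) = ∏ c ∈ S.erase θ, (θ - c) := by
    rw [aeval_def, ← eval_map, ← derivative_map, hp₀, derivative_prod_finset, eval_finset_sum,
      Finset.sum_eq_single θ (fun c _ hcne => ?_) (fun h => absurd hθS h)]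
    · simp [eval_prod]
    · rw [eval_mul, eval_prod, Finset.prod_eq_zero (Finset.mem_erase.mpr ⟨Ne.symm hcne, hθS⟩) (by simp),
        zero_mul]
  have hp0θ : aeval θ p₀ = 0 := by
    rw [aeval_def, ← eval_map, hp₀, eval_prod]
    exact Finset.prod_eq_zero hθS (by simp)
  have hθD : Valued.v (_root_.LocRes.D F' (ψ θ)) ≤ δ := by
    have h := val_D_aeval_sub_le hK he hg hφ hψ ht p₀ hp₀v hθ1.le (y := θ)
    rwa [hp0θ, map_zero, map_zero, zero_sub, Valuation.map_neg, map_mul, hψ.1, hp'θ,
      show Q.1 (∏ c ∈ S.erase θ, (θ - c)) = 1 from hunit, one_mul] at h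
  -- the case of an element integral at all conjugate places
  have key : ∀ b : K', (∀ σ ∈ ramGroup (K := K) Q 1, σ b = b) → (∀ σ : K' ≃ₐ[K] K', val Q (σ b) ≤ 1) →
      Valued.v (_root_.LocRes.D F' (ψ b)) ≤ δ := by
    intro b hb hbv
    have hrep : ∀ c ∈ S, ∃ σ : K' ≃ₐ[K] K', σ θ = c := fun c hc => by
      obtain ⟨σ, -, h⟩ := Finset.mem_image.mp hc; exact ⟨σ, h⟩
    have hwd : ∀ σ τ : K' ≃ₐ[K] K', σ θ = τ θ → σ b = τ b := by
      intro σ τ h
      have hm : τ⁻¹ * σ ∈ ramGroup (K := K) Q 1 := by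
        by_contra hn
        have h1 := hsep _ hn
        rw [AlgEquiv.mul_apply, h, ← AlgEquiv.mul_apply, inv_mul_cancel, AlgEquiv.one_apply, sub_self,
          map_zero] at h1
        exact zero_ne_one h1
      have h2 := congrArg τ (hb _ hm)
      rwa [← AlgEquiv.mul_apply, mul_inv_cancel_left] at h2
    choose! r hr using hrep
    set H := ∑ c ∈ S, C (r c b) * ∏ d ∈ S.erase c, (X - C d) with hH
    have hHfix : ∀ τ : K' ≃ₐ[K] K', H.map (τ : K' →+* K') = H := fun τ => by
      conv_rhs => rw [hH, ← hSτ τ, Finset.sum_image fun a _ b _ h => τ.injective h]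
      rw [hH, Polynomial.map_sum]
      refine Finset.sum_congr rfl fun c hc => ?_
      rw [hSτ τ, Polynomial.map_mul, map_C, Polynomial.map_prod]
      have hτc : τ c ∈ S := hSτ τ ▸ Finset.mem_image_of_mem τ hc
      congr 1
      · congr 1
        exact hwd (τ * r c) (r (τ c)) (by rw [AlgEquiv.mul_apply, hr c hc, hr _ hτc])
      · rw [show S.erase (τ c) = (S.erase c).image τ by rw [Finset.image_erase τ.injective, hSτ τ],
          Finset.prod_image fun a _ b _ h => τ.injective h]
        exact Finset.prod_congr rfl fun d _ => by rw [Polynomial.map_sub, map_X, map_C]; rfl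
    have hHv : ∀ i, val Q (H.coeff i) ≤ 1 := fun i => by
      rw [hH, finset_sum_coeff]
      refine (val Q).map_sum_le fun c hc => ?_
      rw [coeff_C_mul, map_mul]
      exact mul_le_one' (hbv _) (hvalprod _ (Finset.erase_subset _ _) i)
    obtain ⟨h₀, hh₀, hh₀v⟩ := hdesc H hHfix hHv
    have heq : aeval θ h₀ = b * aeval θ (derivative p₀) := by
      rw [hp'θ, aeval_def, ← eval_map, hh₀, hH, eval_finset_sum, Finset.sum_eq_single θ (fun c _ hcne => by
        rw [eval_mul, eval_prod, Finset.prod_eq_zero (Finset.mem_erase.mpr ⟨Ne.symm hcne, hθS⟩) (by simp),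
          mul_zero]) (fun h => absurd hθS h), eval_mul, eval_C, eval_prod]
      congr 1
      · rw [hwd (r θ) 1 (by rw [hr θ hθS, AlgEquiv.one_apply]), AlgEquiv.one_apply]
      · simp
    have hA : ∀ q : K[X], (∀ i, val P (q.coeff i) ≤ 1) → val Q (aeval θ q) ≤ 1 ∧
        Valued.v (_root_.LocRes.D F' (ψ (aeval θ q))) ≤ δ := by
      intro q hq
      have hle : ∀ q' : K[X], (∀ i, val P (q'.coeff i) ≤ 1) → val Q (aeval θ q') ≤ 1 := fun q' hq' => by
        rw [aeval_eq_sum_range]
        refine (val Q).map_sum_le fun i _ => ?_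
        rw [Algebra.smul_def, map_mul, map_pow, hθ1, one_pow, mul_one]
        exact (val_le_one_iff_of_isOverWith he _).mpr (hq' i)
      refine ⟨hle q hq, ?_⟩
      have hd : ∀ i, val P ((derivative q).coeff i) ≤ 1 := fun i => by
        rw [coeff_derivative]
        rw [map_mul]
        refine mul_le_one' (hq _) ?_
        have : ((i : K) + 1) = ((((i + 1 : ℕ) : P.O)) : K) := by push_cast; rfl
        rw [this]; exact (((i + 1 : ℕ) : P.O)).2
      have h := val_D_aeval_sub_le hK he hg hφ hψ ht q hq hθ1.le (y := θ)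
      rw [show _root_.LocRes.D F' (ψ (aeval θ q)) = (_root_.LocRes.D F' (ψ (aeval θ q)) -
        ψ (aeval θ (derivative q)) * _root_.LocRes.D F' (ψ θ)) +
        ψ (aeval θ (derivative q)) * _root_.LocRes.D F' (ψ θ) by ring]
      refine (Valued.v.map_add _ _).trans (max_le h ?_)
      rw [map_mul, hψ.1]
      exact (mul_le_of_le_one_left' (hle _ hd)).trans hθD
    have hdp : ∀ i, val P ((derivative p₀).coeff i) ≤ 1 := fun i => by
      rw [coeff_derivative, map_mul]
      refine mul_le_one' (hp₀v _) ?_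
      have : ((i : K) + 1) = ((((i + 1 : ℕ) : P.O)) : K) := by push_cast; rfl
      rw [this]; exact (((i + 1 : ℕ) : P.O)).2
    have h1 := congrArg (fun z => _root_.LocRes.D F' (ψ z)) heq
    simp only [map_mul, Derivation.leibniz, smul_eq_mul] at h1
    have h2 : Valued.v (ψ (aeval θ (derivative p₀)) * _root_.LocRes.D F' (ψ b)) ≤ δ := by
      rw [show ψ (aeval θ (derivative p₀)) * _root_.LocRes.D F' (ψ b) = _root_.LocRes.D F' (ψ (aeval θ h₀)) -
        ψ b * _root_.LocRes.D F' (ψ (aeval θ (derivative p₀))) by rw [h1]; ring]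
      refine (Valued.v.map_sub _ _).trans (max_le (hA h₀ hh₀v).2 ?_)
      rw [map_mul, hψ.1]
      exact (mul_le_of_le_one_left' (by simpa using hbv 1)).trans (hA _ hdp).2
    rwa [map_mul, hψ.1, hp'θ, show Q.1 (∏ c ∈ S.erase θ, (θ - c)) = 1 from hunit, one_mul] at h2
  -- shift the poles at the other places away
  have hfin := (sum_ramIdx (K' := K') hK P).1
  set N := ∑ R ∈ hfin.toFinset, (-(R.ord a)).toNat
  have hbv : ∀ σ : K' ≃ₐ[K] K', val Q (σ (a * θ ^ N)) ≤ 1 := by
    intro σ
    suffices val (mapPlace σ.symm Q) (a * θ ^ N) ≤ 1 by rwa [val_mapPlace, AlgEquiv.symm_symm] at this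
    have hR : IsOver (mapPlace σ.symm Q) P := ⟨e, isOverWith_mapPlace σ.symm he⟩
    rw [map_mul, map_pow]
    by_cases hne : mapPlace σ.symm Q = Q
    · rw [hne, hθ1, one_pow, mul_one]; exact haQ
    · rcases eq_or_ne a 0 with h0 | h0
      · simp [h0]
      refine (mul_le_mul_right (pow_le_pow_left₀ zero_le (hother _ hR hne) _) _).trans ?_
      rw [val_eq _ h0, ← exp_nsmul, ← exp_add, ← exp_zero, exp_le_exp]
      have := Finset.single_le_sum (f := fun R => (-(R.ord a)).toNat) (fun _ _ => Nat.zero_le _)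
        (hfin.mem_toFinset.mpr hR)
      simp only [nsmul_eq_mul]
      omega
  have h3 := key (a * θ ^ N) (fun σ hσ => by rw [map_mul, map_pow, ha σ hσ, hfix σ hσ]) hbv
  have h4 : Valued.v (ψ (θ ^ N) * _root_.LocRes.D F' (ψ a)) ≤ δ := by
    rw [show ψ (θ ^ N) * _root_.LocRes.D F' (ψ a) = _root_.LocRes.D F' (ψ (a * θ ^ N)) -
      ψ a * _root_.LocRes.D F' (ψ (θ ^ N)) by rw [map_mul, Derivation.leibniz, smul_eq_mul, smul_eq_mul]; ring]
    refine (Valued.v.map_sub _ _).trans (max_le h3 ?_)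
    rw [map_mul, hψ.1]
    refine (mul_le_of_le_one_left' haQ).trans ?_
    rw [map_pow, Derivation.leibniz_pow, nsmul_eq_mul, smul_eq_mul, map_mul, map_mul, map_pow, hψ.1,
      show Q.1 θ = 1 from hθ1, one_pow, one_mul]
    refine (mul_le_of_le_one_left' ?_).trans hθD
    exact (LaurentSeries.val_le_one_iff_eq_coe F' _).mpr ⟨(N : PowerSeries F'), by rw [map_natCast]⟩
  rwa [map_mul, map_pow, map_pow, hψ.1, show Q.1 θ = 1 from hθ1, one_pow, one_mul] at h4

/-- The different exponent at a place of a Galois extension through the inertia group. -/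
theorem diffExp_eq_sum_ord [Fintype (K' ≃ₐ[K] K')] [DecidableEq (K' ≃ₐ[K] K')]
    [DecidablePred (· ∈ ramGroup (K := K) Q 1)]
    [Algebra.IsSeparable k (IsLocalRing.ResidueField Q.O)] {x : K}
    (hx : _root_.LocRes.vDiff φ 1 x ≠ 0) (hx' : _root_.LocRes.vDiff ψ 1 (algebraMap K K' x) ≠ 0)
    {s : K'} (hs : val Q s = exp (-1)) :
    (∀ σ ∈ ((Finset.univ.filter (· ∈ ramGroup (K := K) Q 1)).erase 1), σ s ≠ s) ∧
    _root_.LocRes.diffExp φ ψ e x =
      ∑ σ ∈ ((Finset.univ.filter (· ∈ ramGroup (K := K) Q 1)).erase 1), Q.ord (σ s - s) := by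
  set I := Finset.univ.filter (· ∈ ramGroup (K := K) Q 1) with hI
  have h1I : (1 : K' ≃ₐ[K] K') ∈ I := by simp [hI, one_mem]
  have hcard : I.card = e := by
    rw [← card_ramGroup_one (K := K) Q hK he, Nat.card_eq_fintype_card, Fintype.card_subtype]
  set g := ∏ σ ∈ I, (X - C (σ s)) with hg'
  have hI' : ∀ σ ∈ I, val Q (σ s) = exp (-1) := fun σ hσ => by
    rw [val_apply_of_mem_ramGroup (Finset.mem_filter.mp hσ).2, hs]
  have hfix : ∀ i, ∀ τ ∈ ramGroup (K := K) Q 1, τ (g.coeff i) = g.coeff i := fun i τ hτ => by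
    have h : g.map (τ : K' →+* K') = g := by
      rw [hg', Polynomial.map_prod]
      refine Finset.prod_equiv (Equiv.mulLeft τ) (fun σ => ?_) fun σ _ => ?_
      · simp [hI, Subgroup.mul_mem_cancel_left _ hτ]
      · rw [Polynomial.map_sub, map_X, map_C]; rfl
    conv_rhs => rw [← h, coeff_map]
    rfl
  have hcv : ∀ i, val Q (g.coeff i) ≤ 1 := fun i => by
    let c' : I → Q.O := fun σ => ⟨σ.1 s, by
      show val Q _ ≤ 1
      rw [hI' σ.1 σ.2, ← exp_zero, exp_le_exp]; omega⟩
    have : (∏ σ ∈ I.attach, (X - C (c' σ))).map Q.O.subtype = g := by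
      rw [Polynomial.map_prod, hg', ← Finset.prod_attach I fun σ => X - C (σ s)]
      exact Finset.prod_congr rfl fun c _ => by rw [Polynomial.map_sub, map_X, map_C]; rfl
    rw [← this, coeff_map]
    exact ((∏ σ ∈ I.attach, (X - C (c' σ))).coeff i).2
  have hg0 : val Q (g.coeff 0) = exp (-(e : ℤ)) := by
    rw [coeff_zero_eq_eval_zero, hg', eval_prod, map_prod,
      Finset.prod_congr rfl fun σ hσ => by rw [eval_sub, eval_X, eval_C, zero_sub, Valuation.map_neg, hI' σ hσ],
      Finset.prod_const, hcard, ← exp_nsmul]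
    simp
  set δ := Valued.v (_root_.LocRes.D F' (ψ (algebraMap K K' t))) with hδ
  have hDt : Valued.v (_root_.LocRes.D F (φ t)) = exp (-((1 : ℤ) - 1)) :=
    (val_D_of_val (n := 1) (by rw [hφ.1]; exact ht)).1 (by simp)
  rw [sub_self, neg_zero, exp_zero] at hDt
  have htd : _root_.LocRes.vDiff φ 1 t ≠ 0 := by
    rw [_root_.LocRes.vDiff, map_one, one_mul, hDt]; exact one_ne_zero
  obtain ⟨heq, htd'⟩ := diffExp_indep hK hg he hφ hψ hx hx' htd
  have hδ0 : δ ≠ 0 := by
    rw [_root_.LocRes.vDiff, map_one, one_mul] at htd'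
    exact htd'
  have ht0 : t ≠ 0 := fun h => by rw [h, map_zero] at ht; exact exp_ne_zero ht.symm
  have hT0 : algebraMap K K' t ≠ 0 := (_root_.map_ne_zero _).mpr ht0
  have hTv : val Q (algebraMap K K' t) = exp (-(e : ℤ)) := by
    rw [show val Q (algebraMap K K' t) = val P t ^ e from he t, ht, ← exp_nsmul]; simp
  -- the constant coefficient
  have hD0 : Valued.v (_root_.LocRes.D F' (ψ (g.coeff 0))) = δ := by
    set u := g.coeff 0 / algebraMap K K' t with hu
    have huv : val Q u = 1 := by rw [hu, map_div₀, hg0, hTv, div_self exp_ne_zero]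
    have hufix : ∀ σ ∈ ramGroup (K := K) Q 1, σ u = u := fun σ hσ => by
      rw [hu, map_div₀, hfix 0 σ hσ, AlgEquiv.commutes]
    have hgu : g.coeff 0 = u * algebraMap K K' t := by rw [hu, div_mul_cancel₀ _ hT0]
    rw [hgu, map_mul, Derivation.leibniz, smul_eq_mul, smul_eq_mul, Valuation.map_add_eq_of_lt_left]
    · rw [map_mul, hψ.1, show Q.1 u = 1 from huv, one_mul]
    · rw [map_mul, map_mul, hψ.1, hψ.1, show Q.1 u = 1 from huv, one_mul,
        show Q.1 (algebraMap K K' t) = exp (-(e : ℤ)) from hTv, ← hδ]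
      refine lt_of_le_of_lt (mul_le_mul_right (val_D_le_of_fixed hK he hg hφ hψ ht hufix huv.le) _) ?_
      refine mul_lt_of_lt_one_left (zero_lt_iff.mpr hδ0) ?_
      rw [← exp_zero, exp_lt_exp]
      have := pos_of_isOverWith he
      omega
  -- differentiate `g s = 0`
  have hev : ∀ q : K'[X], (q.map ψ.toRingHom).eval (ψ s) = ψ (q.eval s) := fun q => by
    rw [eval_map, ← show ψ.toRingHom s = ψ s from rfl, eval₂_at_apply]
    rfl
  have hgs : g.eval s = 0 := by
    rw [hg', eval_prod]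
    exact Finset.prod_eq_zero h1I (by simp)
  have hid := D_eval (g.map ψ.toRingHom) (ψ s)
  rw [hev, derivative_map, hev, hgs, map_zero, map_zero,
    sum_over_range' _ (fun i => by simp) (g.natDegree + 1)
      (lt_of_le_of_lt natDegree_map_le (Nat.lt_succ_self _)), Finset.sum_range_succ'] at hid
  simp only [coeff_map, pow_zero, mul_one, AlgHom.toRingHom_eq_coe, RingHom.coe_coe] at hid
  have hrest : Valued.v (∑ i ∈ Finset.range g.natDegree,
      _root_.LocRes.D F' (ψ (g.coeff (i + 1))) * ψ s ^ (i + 1)) < δ := by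
    refine Valuation.map_sum_lt _ hδ0 fun i _ => ?_
    rw [map_mul, map_pow, hψ.1, show Q.1 s = exp (-1) from hs]
    refine lt_of_le_of_lt (mul_le_mul_left (val_D_le_of_fixed hK he hg hφ hψ ht (hfix _) (hcv _)) _) ?_
    refine mul_lt_of_lt_one_right (zero_lt_iff.mpr hδ0) ?_
    rw [← exp_nsmul, ← exp_zero, exp_lt_exp]
    simp
    omega
  have hder : g.derivative.eval s = ∏ σ ∈ I.erase 1, (s - σ s) := by
    rw [hg', derivative_prod_finset, eval_finset_sum,
      Finset.sum_eq_single (1 : K' ≃ₐ[K] K') (fun c _ hcne => ?_) (fun h => absurd h1I h)]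
    · simp [eval_prod]
    · rw [eval_mul, eval_prod, Finset.prod_eq_zero (Finset.mem_erase.mpr ⟨Ne.symm hcne, h1I⟩) (by simp),
        zero_mul]
  have hvs : Valued.v (_root_.LocRes.D F' (ψ s)) = 1 := by
    rw [(val_D_of_val (n := 1) (by rw [hψ.1]; exact hs)).1 (by simp), sub_self, neg_zero, exp_zero]
  have h4 : val Q (g.derivative.eval s) = δ := by
    have h := congrArg Valued.v (eq_neg_of_add_eq_zero_left hid.symm)
    rw [map_mul, Valuation.map_neg, hψ.1, hvs, mul_one, Valuation.map_add_eq_of_lt_right, hD0] at h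
    · exact h
    · rwa [hD0]
  rw [hder, map_prod] at h4
  have hne : ∀ σ ∈ I.erase 1, σ s ≠ s := fun σ hσ h => hδ0 (by
    rw [← h4]; exact Finset.prod_eq_zero hσ (by rw [h, sub_self, map_zero]))
  refine ⟨hne, ?_⟩
  rw [← heq, _root_.LocRes.diffExp, _root_.LocRes.ordDiff, _root_.LocRes.ordDiff, _root_.LocRes.vDiff,
    _root_.LocRes.vDiff, map_one, map_one, one_mul, one_mul, hDt, log_one, neg_zero, mul_zero, sub_zero,
    ← hδ, ← h4]
  rw [Finset.prod_congr rfl fun σ hσ => by
    rw [Valuation.map_sub_swap, val_eq Q (sub_ne_zero.mpr (hne σ hσ))], ← exp_sum', log_exp,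
    Finset.sum_neg_distrib, neg_neg]

/-- The different exponent is the sum of the excesses of the ramification groups. -/
theorem diffExp_eq_finsum [Algebra.IsSeparable k (IsLocalRing.ResidueField Q.O)] {x : K}
    (hx : _root_.LocRes.vDiff φ 1 x ≠ 0) (hx' : _root_.LocRes.vDiff ψ 1 (algebraMap K K' x) ≠ 0) :
    (Function.support fun i : ℕ => (Nat.card (ramGroup (K := K) Q i) : ℤ) - 1).Finite ∧
      _root_.LocRes.diffExp φ ψ e x =
        ∑ᶠ i : ℕ, if 1 ≤ i then (Nat.card (ramGroup (K := K) Q i) : ℤ) - 1 else 0 := by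
  classical
  letI : Fintype (K' ≃ₐ[K] K') := AlgEquiv.fintype K K'
  obtain ⟨s, -, hs⟩ := exists_val_eq Q (-1)
  obtain ⟨hne, hsum⟩ := diffExp_eq_sum_ord hK he hg hφ hψ ht hx hx' hs
  set J := (Finset.univ.filter (· ∈ ramGroup (K := K) Q 1)).erase 1 with hJ
  have hn1 : ∀ σ ∈ J, 1 ≤ Q.ord (σ s - s) := fun σ hσ => by
    have h := (Finset.mem_filter.mp (Finset.mem_erase.mp hσ).2).2
    have h1 := mem_ramGroup.mp h s (by rw [hs, ← exp_zero, exp_le_exp]; omega)
    rw [val_eq Q (sub_ne_zero.mpr (hne σ hσ)), exp_le_exp] at h1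
    omega
  have hcard : ∀ i, 1 ≤ i → (Nat.card (ramGroup (K := K) Q i) : ℤ) - 1 =
      (J.filter fun σ => (i : ℤ) ≤ Q.ord (σ s - s)).card := by
    intro i hi
    have : Finset.univ.filter (· ∈ ramGroup (K := K) Q i) =
        insert 1 (J.filter fun σ => (i : ℤ) ≤ Q.ord (σ s - s)) := by
      ext σ
      rw [Finset.mem_filter, Finset.mem_insert, Finset.mem_filter]
      by_cases hσ1 : σ = 1
      · subst hσ1; simp [one_mem]
      constructor
      · rintro ⟨-, hσ⟩
        have hσI : σ ∈ ramGroup (K := K) Q 1 :=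
          mem_ramGroup.mpr (InRam.mono (by exact_mod_cast hi) (mem_ramGroup.mp hσ))
        have hσJ : σ ∈ J := Finset.mem_erase.mpr ⟨hσ1, Finset.mem_filter.mpr ⟨Finset.mem_univ _, hσI⟩⟩
        refine Or.inr ⟨hσJ, ?_⟩
        have h1 := (inRam_iff hs (by exact_mod_cast mem_ramGroup.mp hσI) hi).mp (mem_ramGroup.mp hσ)
        rw [val_eq Q (sub_ne_zero.mpr (hne σ hσJ)), exp_le_exp] at h1
        omega
      · rintro (rfl | ⟨hσJ, hle⟩)
        · exact absurd rfl hσ1
        have hσI := (Finset.mem_filter.mp (Finset.mem_erase.mp hσJ).2).2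
        refine ⟨Finset.mem_univ _, mem_ramGroup.mpr ((inRam_iff hs (by exact_mod_cast mem_ramGroup.mp hσI) hi).mpr ?_)⟩
        rw [val_eq Q (sub_ne_zero.mpr (hne σ hσJ)), exp_le_exp]
        omega
    rw [Nat.card_eq_fintype_card, Fintype.card_subtype, this, Finset.card_insert_of_notMem]
    · push_cast; ring
    · exact fun h => (Finset.mem_erase.mp (Finset.mem_filter.mp h).1).1 rfl
  set N := ∑ σ ∈ J, (Q.ord (σ s - s)).toNat with hN
  have hle : ∀ σ ∈ J, Q.ord (σ s - s) ≤ N := fun σ hσ => by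
    have := Finset.single_le_sum (f := fun σ => (Q.ord (σ s - s)).toNat) (fun _ _ => Nat.zero_le _) hσ
    omega
  have hzero : ∀ i : ℕ, N < i → (Nat.card (ramGroup (K := K) Q i) : ℤ) - 1 = 0 := fun i hi => by
    rw [hcard i (by omega), Finset.filter_eq_empty_iff.mpr fun σ hσ => by have := hle σ hσ; omega]
    rfl
  refine ⟨(Set.finite_Iic N).subset fun i hi => ?_, ?_⟩
  · by_contra h; exact hi (hzero i (not_le.mp h))
  rw [hsum, finsum_eq_sum_of_support_subset _ (s := Finset.Icc 1 N) fun i hi => by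
    rw [Function.mem_support] at hi
    rw [Finset.coe_Icc]
    refine ⟨by_contra fun h => hi (if_neg h), by_contra fun h => hi ?_⟩
    rw [if_pos (by omega : 1 ≤ i), hzero i (by omega)]]
  rw [show (∑ i ∈ Finset.Icc 1 N, if 1 ≤ i then (Nat.card (ramGroup (K := K) Q i) : ℤ) - 1 else 0) =
      ∑ i ∈ Finset.Icc 1 N, ((∑ σ ∈ J, if (i : ℤ) ≤ Q.ord (σ s - s) then 1 else 0 : ℕ) : ℤ) from
    Finset.sum_congr rfl fun i hi => by
      rw [if_pos (Finset.mem_Icc.mp hi).1, hcard i (Finset.mem_Icc.mp hi).1, Finset.card_filter]]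
  push_cast
  rw [Finset.sum_comm]
  refine Finset.sum_congr rfl fun σ hσ => ?_
  rw [Finset.sum_boole, show (Finset.Icc 1 N).filter (fun i : ℕ => (i : ℤ) ≤ Q.ord (σ s - s)) =
    Finset.Icc 1 (Q.ord (σ s - s)).toNat by
      ext i; simp only [Finset.mem_filter, Finset.mem_Icc]; have := hle σ hσ; omega, Nat.card_Icc]
  have := hn1 σ hσ
  omega

end Galois

end GrothLib.LocRes
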