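import Groth.Agent.Lib.LocRes.RegularBasis
import Groth.Agent.Lib.FunFld.ArtinSchreier

/-!
Regular differentials of Artin–Schreier covers of the line in characteristic two.
-/

set_option autoImplicit false
set_option linter.style.haveILetI false
set_option linter.unusedSectionVars false

namespace GrothLib.LocRes

open LaurentSeries WithZero Polynomial
open GrothLib.FunFld
open _root_.FunFld (Place IsOverWith genus div)

universe u v w

variable {k : Type u} {K : Type v} [Field k] [Field K] [Algebra k K] [Algebra (RatFunc k) K]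
  [IsScalarTower k (RatFunc k) K] (h2 : ringChar k = 2) (hdeg : Module.finrank (RatFunc k) K = 2)
  {y : K} (hy : y ∉ Set.range (algebraMap (RatFunc k) K)) {f : RatFunc k}
  (heq : y ^ 2 + y = algebraMap (RatFunc k) K f)
  {P : Place k K} {P₀ : Place k (RatFunc k)} {e : ℕ} (he : IsOverWith P P₀ e)
  {F : Type w} [Field F] [Algebra k F] {φ : K →ₐ[k] F⸨X⸩} (hφ : _root_.LocRes.IsExpansionAt P.1 φ)

include h2 heq he hφ in
/-- The order of `dw` at a pole of odd order, for a local parameter `w` below. -/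
theorem as_val_D (he2 : e = 2) {m : ℕ} (hm : Odd m) (hf : val P₀ f = exp (m : ℤ)) {W : RatFunc k}
    (hw : val P₀ W = exp (-1))
    (hint : ∀ r : RatFunc k, val P₀ r ≤ 1 →
      Valued.v (_root_.LocRes.D F (φ (algebraMap (RatFunc k) K r))) ≤
        Valued.v (_root_.LocRes.D F (φ (algebraMap (RatFunc k) K W)))) :
    Valued.v (_root_.LocRes.D F (φ (algebraMap (RatFunc k) K W))) = exp (-((m : ℤ) + 1)) := by
  subst he2
  haveI : CharP k 2 := ringChar.of_eq h2
  haveI : CharP F 2 := charP_of_injective_algebraMap (algebraMap k F).injective 2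
  haveI : CharP K 2 := charP_of_injective_algebraMap (algebraMap k K).injective 2
  have hvL : ∀ r, val P (algebraMap (RatFunc k) K r) = val P₀ r ^ 2 := he
  have hm1 : 1 ≤ m := hm.pos
  have hvf : val P (algebraMap (RatFunc k) K f) = exp (2 * (m : ℤ)) := by
    rw [hvL, hf, ← exp_nsmul]; rfl
  have hbig : 1 < val P y := by
    by_contra hle
    rw [not_lt] at hle
    have : val P (algebraMap (RatFunc k) K f) ≤ 1 := by
      rw [← heq]
      exact ((val P).map_add _ _).trans (max_le (by rw [map_pow]; exact pow_le_one₀ zero_le hle) hle)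
    rw [hvf, ← exp_zero, exp_le_exp] at this
    omega
  have hy0 : y ≠ 0 := fun h0 => by rw [h0, map_zero] at hbig; exact not_lt.mpr zero_le hbig
  have hvy : val P y = exp (m : ℤ) := by
    have h1 : val P (algebraMap (RatFunc k) K f) = val P y ^ 2 := by
      rw [← heq, (val P).map_add_eq_of_lt_left, map_pow]
      rw [map_pow, sq]; exact lt_mul_of_one_lt_left (zero_lt_one.trans hbig) hbig
    rw [hvf, val_eq P hy0, ← exp_nsmul, exp_inj, nsmul_eq_mul] at h1
    rw [val_eq P hy0]; congr 1; push_cast at h1; omega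
  have hmF : (m : F) = 1 := by
    obtain ⟨r, rfl⟩ := hm
    simp [CharTwo.two_eq_zero]
  have hDy : Valued.v (_root_.LocRes.D F (φ y)) = exp ((m : ℤ) + 1) := by
    rw [val_D_eq (n := -(m : ℤ)) (by rw [hφ.1, neg_neg]; exact hvy) (by push_cast; rw [hmF]; simp)]
    congr 1; ring
  have hDf : _root_.LocRes.D F (φ (algebraMap (RatFunc k) K f)) = _root_.LocRes.D F (φ y) := by
    rw [← heq, map_add, map_add, D_pow_two, CharTwo.two_eq_zero, zero_mul, map_zero, zero_mul, zero_add]
  set G := φ (algebraMap (RatFunc k) K f) with hG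
  set T := φ (algebraMap (RatFunc k) K W) with hT
  have hvT : Valued.v T = exp (-2) := by
    rw [hT, hφ.1]
    show val P _ = _
    rw [hvL, hw, ← exp_nsmul]; rfl
  have hprod : G * T ^ m = φ (algebraMap (RatFunc k) K (f * W ^ m)) := by
    rw [hG, hT, map_mul, map_mul, map_pow, map_pow]
  have hr : val P₀ (f * W ^ m) ≤ 1 := by
    rw [map_mul, map_pow, hf, hw, ← exp_nsmul, ← exp_add, ← exp_zero, exp_le_exp]; simp
  have hD1 := hint _ hr
  rw [← hprod, Derivation.leibniz, Derivation.leibniz_pow] at hD1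
  simp only [smul_eq_mul, nsmul_eq_mul] at hD1
  rw [hDf] at hD1
  set A := G * ((m : F⸨X⸩) * (T ^ (m - 1) * _root_.LocRes.D F T)) with hA
  set B := T ^ m * _root_.LocRes.D F (φ y) with hB
  have hvm : Valued.v (m : F⸨X⸩) = 1 := by
    have : (m : F⸨X⸩) = 1 := by
      rw [← map_natCast (HahnSeries.C : F →+* F⸨X⸩), hmF, map_one]
    rw [this, map_one]
  have hvA : Valued.v A = exp 2 * Valued.v (_root_.LocRes.D F T) := by
    rw [hA, map_mul, map_mul, map_mul, map_pow, hvm, one_mul, hvT, hG, hφ.1,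
      show P.1 (algebraMap (RatFunc k) K f) = exp (2 * (m : ℤ)) from hvf, ← exp_nsmul, ← mul_assoc,
      ← exp_add]
    congr 2
    rw [nsmul_eq_mul]; push_cast [Nat.cast_sub hm1]; omega
  have hvB : Valued.v B = exp (-(m : ℤ) + 1) := by
    rw [hB, map_mul, map_pow, hvT, hDy, ← exp_nsmul, ← exp_add]
    congr 1; rw [nsmul_eq_mul]; ring
  have hT0 : Valued.v (_root_.LocRes.D F T) ≠ 0 := fun h0 => by
    rw [h0, nonpos_iff_eq_zero, Valuation.zero_iff] at hD1
    rw [h0, mul_zero, Valuation.zero_iff] at hvA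
    rw [hvA, zero_add] at hD1
    rw [hD1, map_zero] at hvB
    exact exp_ne_zero hvB.symm
  have hlt : Valued.v (A + B) < Valued.v A := by
    refine hD1.trans_lt ?_
    rw [hvA]
    exact lt_mul_of_one_lt_left (zero_lt_iff.2 hT0) (by rw [← exp_zero, exp_lt_exp]; norm_num)
  have hAB : Valued.v B = Valued.v A := by
    have := Valued.v.map_sub_eq_of_lt_left (x := A + B) (y := A)
    rw [show B = -(A - (A + B)) by ring, Valuation.map_neg]
    exact Valued.v.map_sub_eq_of_lt_left hlt
  rw [hvB, hvA] at hAB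
  calc Valued.v (_root_.LocRes.D F T) = exp (-2) * (exp 2 * Valued.v (_root_.LocRes.D F T)) := by
        rw [← mul_assoc, ← exp_add]; simp
    _ = _ := by rw [← hAB, ← exp_add]; congr 1; ring

include he hφ in
/-- At a finite place, differentiation of integral functions is bounded by `dπ`. -/
theorem as_val_D_le_finite [PerfectField k] (hX : 0 ≤ P₀.ord (RatFunc.X : RatFunc k)) :
    ∃ π : k[X], val P₀ (algebraMap k[X] (RatFunc k) π) = exp (-1) ∧
      Valued.v (_root_.LocRes.D F (φ (algebraMap (RatFunc k) K (algebraMap k[X] (RatFunc k) π)))) =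
        Valued.v (_root_.LocRes.D F (φ (algebraMap (RatFunc k) K RatFunc.X))) ∧
      ∀ r : RatFunc k, val P₀ r ≤ 1 →
        Valued.v (_root_.LocRes.D F (φ (algebraMap (RatFunc k) K r))) ≤
          Valued.v (_root_.LocRes.D F (φ (algebraMap (RatFunc k) K RatFunc.X))) := by
  obtain ⟨π, hπ, hπ1, hiff⟩ := exists_prime hX
  set x := algebraMap (RatFunc k) K RatFunc.X with hx
  have hvL : ∀ r, val P (algebraMap (RatFunc k) K r) = val P₀ r ^ e := he
  have hunit : ∀ q : k[X], ¬ π ∣ q → val P₀ (algebraMap k[X] (RatFunc k) q) = 1 := fun q hq => by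
    have hq0 : q ≠ 0 := fun h0 => hq (h0 ▸ dvd_zero _)
    have hne : algebraMap k[X] (RatFunc k) q ≠ 0 := RatFunc.algebraMap_ne_zero hq0
    have h1 : 0 ≤ P₀.ord (algebraMap k[X] (RatFunc k) q) :=
      (val_le_one_iff P₀ hne).mp (val_poly_le_one hX q)
    have h2 : ¬ 0 < P₀.ord (algebraMap k[X] (RatFunc k) q) := fun h => hq ((hiff q hq0).mp h)
    rw [val_eq P₀ hne, show P₀.ord (algebraMap k[X] (RatFunc k) q) = 0 by omega, neg_zero, exp_zero]
  have hpoly : ∀ q : k[X], Valued.v (φ (aeval x q)) ≤ 1 := fun q => by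
    rw [hφ.1, hx, ← algebraMap_poly]
    show val P _ ≤ 1
    rw [hvL]; exact pow_le_one₀ zero_le (val_poly_le_one hX q)
  have hπ' : ¬ π ∣ derivative π := fun hdvd => by
    obtain ⟨a, b, hab⟩ := PerfectField.separable_of_irreducible hπ
    exact hπ.not_isUnit (isUnit_of_dvd_one (hab ▸ dvd_add (dvd_mul_left _ _) (hdvd.mul_left b)))
  refine ⟨π, by rw [val_eq P₀ (RatFunc.algebraMap_ne_zero hπ.ne_zero), hπ1], ?_, fun r hr => ?_⟩
  · rw [algebraMap_poly, D_aeval, map_mul, hφ.1, ← algebraMap_poly]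
    show val P _ * _ = _
    rw [hvL, hunit _ hπ', one_pow, one_mul]
  · have hden : ¬ π ∣ r.denom := fun hdvd => by
      have hnum : ¬ π ∣ r.num := fun hn =>
        hπ.not_isUnit ((RatFunc.isCoprime_num_denom r).isUnit_of_dvd' hn hdvd)
      have hne : algebraMap k[X] (RatFunc k) r.denom ≠ 0 := RatFunc.algebraMap_ne_zero r.denom_ne_zero
      have hlt : val P₀ (algebraMap k[X] (RatFunc k) r.denom) < 1 :=
        (val_lt_one_iff P₀ hne).mpr ((hiff _ r.denom_ne_zero).mpr hdvd)
      have h1 := hunit _ hnum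
      rw [show algebraMap k[X] (RatFunc k) r.num = r * algebraMap k[X] (RatFunc k) r.denom by
        conv_rhs => rw [← RatFunc.num_div_denom r]
        rw [RatFunc.num_div_denom r]
        exact (div_eq_iff hne).mp (RatFunc.num_div_denom r), map_mul] at h1
      exact ((mul_le_of_le_one_left' hr).trans_lt hlt).ne h1
    set R := φ (algebraMap (RatFunc k) K r) with hR
    have hprod : R * φ (aeval x r.denom) = φ (aeval x r.num) := by
      rw [hR, hx, ← map_mul, ← algebraMap_poly, ← algebraMap_poly, ← map_mul,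
        (div_eq_iff (RatFunc.algebraMap_ne_zero r.denom_ne_zero)).mp (RatFunc.num_div_denom r)]
    have hd : Valued.v (φ (aeval x r.denom)) = 1 := by
      rw [hφ.1, hx, ← algebraMap_poly]
      show val P _ = 1
      rw [hvL, hunit _ hden, one_pow]
    have h := congrArg (fun s => _root_.LocRes.D F s) hprod
    simp only [Derivation.leibniz, smul_eq_mul, D_aeval] at h
    have h' : φ (aeval x r.denom) * _root_.LocRes.D F R =
        φ (aeval x r.num.derivative) * _root_.LocRes.D F (φ x) -
          R * (φ (aeval x r.denom.derivative) * _root_.LocRes.D F (φ x)) := by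
      rw [← h]; ring
    have hv := congrArg Valued.v h'
    rw [map_mul, hd, one_mul] at hv
    rw [hv]
    refine ((Valued.v).map_sub _ _).trans (max_le ?_ ?_)
    · rw [map_mul]; exact mul_le_of_le_one_left' (hpoly _)
    · rw [map_mul, map_mul, ← mul_assoc]
      refine mul_le_of_le_one_left' (mul_le_one' ?_ (hpoly _))
      rw [hR, hφ.1]
      show val P _ ≤ 1
      rw [hvL]; exact pow_le_one₀ zero_le hr

include h2 he hφ in
/-- At the infinite place, differentiation of integral functions is bounded by `d(1/x)`. -/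
theorem as_val_D_le_infinite (he2 : e = 2) (hX : P₀.ord (RatFunc.X : RatFunc k) < 0) :
    Valued.v (_root_.LocRes.D F (φ (algebraMap (RatFunc k) K (RatFunc.X)⁻¹))) =
        exp (-4) * Valued.v (_root_.LocRes.D F (φ (algebraMap (RatFunc k) K RatFunc.X))) ∧
      ∀ r : RatFunc k, val P₀ r ≤ 1 →
        Valued.v (_root_.LocRes.D F (φ (algebraMap (RatFunc k) K r))) ≤
          Valued.v (_root_.LocRes.D F (φ (algebraMap (RatFunc k) K (RatFunc.X)⁻¹))) := by
  subst he2
  set x := algebraMap (RatFunc k) K RatFunc.X with hx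
  set L := Valued.v (_root_.LocRes.D F (φ x))
  have hvL : ∀ r, val P (algebraMap (RatFunc k) K r) = val P₀ r ^ 2 := he
  have hvX : val P₀ (RatFunc.X : RatFunc k) = exp 1 := by
    rw [val_eq P₀ RatFunc.X_ne_zero, (inf_props hX).2.1, neg_neg]
  have hinv : Valued.v (_root_.LocRes.D F (φ (algebraMap (RatFunc k) K (RatFunc.X)⁻¹))) =
      exp (-4) * L := by
    rw [map_inv₀, map_inv₀, Derivation.leibniz_inv, smul_eq_mul, map_mul, Valuation.map_neg,
      map_pow, map_inv₀, hφ.1]
    show (val P x)⁻¹ ^ 2 * L = _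
    rw [hx, hvL, hvX, ← exp_nsmul, ← exp_neg, ← exp_nsmul]
    rfl
  refine ⟨hinv, fun r hr => ?_⟩
  rw [hinv]
  -- remove the value at infinity
  set n := r.denom.natDegree with hn
  have hpoly : ∀ (q : k[X]) (j : ℤ), (q ≠ 0 → (q.natDegree : ℤ) ≤ j) →
      Valued.v (φ (aeval x q)) ≤ exp (2 * j) := fun q j hj => by
    rcases eq_or_ne q 0 with rfl | hq
    · simp
    rw [hφ.1, hx, ← algebraMap_poly]
    show val P _ ≤ _
    rw [hvL, val_eq P₀ (RatFunc.algebraMap_ne_zero hq), ord_poly_inf hX hq, neg_neg, ← exp_nsmul,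
      exp_le_exp, nsmul_eq_mul]
    have := hj hq
    push_cast; omega
  have hden : Valued.v (φ (aeval x r.denom)) = exp (2 * (n : ℤ)) := by
    rw [hφ.1, hx, ← algebraMap_poly]
    show val P _ = _
    rw [hvL, val_eq P₀ (RatFunc.algebraMap_ne_zero r.denom_ne_zero), ord_poly_inf hX r.denom_ne_zero,
      neg_neg, ← exp_nsmul]
    congr 1
  have hdeg : r.num ≠ 0 → r.num.natDegree ≤ n := fun h0 => by
    have hr0 : r ≠ 0 := fun h => h0 (by rw [h, RatFunc.num_zero])
    have h1 := (val_le_one_iff P₀ hr0).mp hr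
    rw [← RatFunc.num_div_denom r, div_eq_mul_inv, ord_mul P₀ (RatFunc.algebraMap_ne_zero h0)
      (inv_ne_zero (RatFunc.algebraMap_ne_zero r.denom_ne_zero)), ord_inv, ord_poly_inf hX h0,
      ord_poly_inf hX r.denom_ne_zero] at h1
    omega
  set c := r.num.coeff n / r.denom.leadingCoeff with hc
  set q := r.num - Polynomial.C c * r.denom with hq
  have hq1 : q ≠ 0 → (q.natDegree : ℤ) ≤ (n : ℤ) - 1 := fun hq0 => by
    have hle : q.natDegree ≤ n := by
      refine (natDegree_sub_le _ _).trans (max_le ?_ ((natDegree_C_mul_le _ _).trans le_rfl))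
      rcases eq_or_ne r.num 0 with h0 | h0
      · simp [h0]
      · exact hdeg h0
    have hne : q.natDegree ≠ n := fun h => by
      have h3 := leadingCoeff_ne_zero.mpr hq0
      rw [leadingCoeff, h, hq, coeff_sub, coeff_C_mul, hc, hn, ← leadingCoeff, div_mul_cancel₀ _
        (leadingCoeff_ne_zero.mpr r.denom_ne_zero), sub_self] at h3
      exact h3 rfl
    omega
  set R := φ (algebraMap (RatFunc k) K r) - HahnSeries.C (algebraMap k F c) with hR
  have hprod : R * φ (aeval x r.denom) = φ (aeval x q) := by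
    rw [hR, hq, map_sub (aeval x (R := k)), map_sub φ, map_mul (aeval x (R := k)), aeval_C, map_mul φ,
      _root_.LocRes.map_algebraMap, sub_mul, hx, ← algebraMap_poly, ← algebraMap_poly, ← map_mul φ,
      ← map_mul (algebraMap (RatFunc k) K),
      (div_eq_iff (RatFunc.algebraMap_ne_zero r.denom_ne_zero)).mp (RatFunc.num_div_denom r)]
  have hDR : _root_.LocRes.D F R = _root_.LocRes.D F (φ (algebraMap (RatFunc k) K r)) := by
    rw [hR, map_sub, D_C, sub_zero]
  have hvR : Valued.v R ≤ exp (-2) := by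
    have h1 := congrArg Valued.v hprod
    rw [map_mul, hden] at h1
    have h2 := h1.le.trans (hpoly q _ hq1)
    calc Valued.v R = Valued.v R * exp (2 * (n : ℤ)) * exp (-(2 * (n : ℤ))) := by
          rw [mul_assoc, ← exp_add, add_neg_cancel, exp_zero, mul_one]
      _ ≤ exp (2 * ((n : ℤ) - 1)) * exp (-(2 * (n : ℤ))) := mul_le_mul_left h2 _
      _ = exp (-2) := by rw [← exp_add]; congr 1; ring
  have h := congrArg (fun s => _root_.LocRes.D F s) hprod
  simp only [Derivation.leibniz, smul_eq_mul, D_aeval] at h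
  have h' : φ (aeval x r.denom) * _root_.LocRes.D F R =
      φ (aeval x q.derivative) * _root_.LocRes.D F (φ x) -
        R * (φ (aeval x r.denom.derivative) * _root_.LocRes.D F (φ x)) := by
    rw [← h]; ring
  have hv := congrArg Valued.v h'
  rw [map_mul, hden, hDR] at hv
  have hb : Valued.v (φ (aeval x q.derivative) * _root_.LocRes.D F (φ x) -
      R * (φ (aeval x r.denom.derivative) * _root_.LocRes.D F (φ x))) ≤
      exp (2 * ((n : ℤ) - 2)) * L := by
    refine ((Valued.v).map_sub _ _).trans (max_le ?_ ?_)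
    · rw [map_mul]
      refine mul_le_mul_left (hpoly _ _ fun hd => ?_) _
      have h1 := hq1 fun h0 => hd (by rw [h0, derivative_zero])
      have h3 := natDegree_derivative_lt (p := q) fun h0 => hd (derivative_of_natDegree_zero h0)
      omega
    · rw [map_mul, map_mul, ← mul_assoc]
      refine mul_le_mul_left ((mul_le_mul' hvR (hpoly _ ((n : ℤ) - 1) fun hd => ?_)).trans_eq ?_) _
      · have h3 := natDegree_derivative_lt (p := r.denom) fun h0 => hd (derivative_of_natDegree_zero h0)
        omega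
      · rw [← exp_add]; congr 1; ring
  rw [← hv] at hb
  calc Valued.v (_root_.LocRes.D F (φ (algebraMap (RatFunc k) K r)))
      = exp (-(2 * (n : ℤ))) * (exp (2 * (n : ℤ)) *
          Valued.v (_root_.LocRes.D F (φ (algebraMap (RatFunc k) K r)))) := by
        rw [← mul_assoc, ← exp_add, neg_add_cancel, exp_zero, one_mul]
    _ ≤ exp (-(2 * (n : ℤ))) * (exp (2 * ((n : ℤ) - 2)) * L) := mul_le_mul_right hb _
    _ = _ := by rw [← mul_assoc, ← exp_add]; congr 2; ring

end GrothLib.LocRes

namespace GrothLib.LocRes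

open LaurentSeries WithZero Polynomial
open GrothLib.FunFld
open _root_.FunFld (Place IsOverWith genus div)

universe u v w

variable {k : Type u} {K : Type v} [Field k] [Field K] [Algebra k K] [Algebra (RatFunc k) K]
  [IsScalarTower k (RatFunc k) K] (h2 : ringChar k = 2) (hdeg : Module.finrank (RatFunc k) K = 2)
  {y : K} (hy : y ∉ Set.range (algebraMap (RatFunc k) K)) {f : RatFunc k}
  (heq : y ^ 2 + y = algebraMap (RatFunc k) K f)
  (hodd : ∀ p : Place k (RatFunc k), p.ord f < 0 → Odd (p.ord f))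
  {q : k[X]} (hq0 : q ≠ 0)
  (hq : ∀ p : Place k (RatFunc k), 0 ≤ p.ord (RatFunc.X : RatFunc k) →
    p.ord (algebraMap k[X] (RatFunc k) q) = if p.ord f < 0 then (1 - p.ord f) / 2 else 0)

include h2 hdeg hy heq hodd hq0 hq

/-- The genus through the conductor polynomial. -/
theorem as_genus_poly (hK : _root_.FunFld.IsFunctionField k K) (Pinf : Place k (RatFunc k))
    (hinf : Pinf.ord (RatFunc.X : RatFunc k) < 0) :
    (genus k K : ℤ) = q.natDegree + (if Pinf.ord f < 0 then (1 - Pinf.ord f) / 2 else 0) - 1 := by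
  classical
  set d : ℤ := if Pinf.ord f < 0 then (1 - Pinf.ord f) / 2 else 0 with hd
  have hE : asE f = div k (algebraMap k[X] (RatFunc k) q) +
      Finsupp.single Pinf ((q.natDegree : ℤ) + d) := by
    ext p
    rw [asE_apply, Finsupp.add_apply, isFG_ratFunc.div_apply]
    rcases eq_or_ne p Pinf with rfl | hne
    · rw [Finsupp.single_eq_same, ord_poly_inf hinf hq0, hd]; ring
    · rw [Finsupp.single_eq_of_ne hne, add_zero, hq p ((inf_props hinf).2.2.1 p hne)]
  rw [(isQuad_as hdeg hy heq).genus_eq (as_splits h2 hdeg hy heq hodd) hK, hE, deg_add,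
    isFG_ratFunc.deg_div, deg_single, (inf_props hinf).1]
  push_cast; ring

theorem as_regular [PerfectField k] (hK : _root_.FunFld.IsFunctionField k K)
    {P : Place k K} {F : Type w} [Field F] [Algebra k F] {φ : K →ₐ[k] F⸨X⸩}
    (hφ : _root_.LocRes.IsExpansionAt P.1 φ) {i : ℕ} (hi : i < genus k K) :
    _root_.LocRes.vDiff φ
      (algebraMap (RatFunc k) K (RatFunc.X ^ i / algebraMap k[X] (RatFunc k) q))
      (algebraMap (RatFunc k) K RatFunc.X) ≤ 1 := by
  haveI := (isQuad_as hdeg hy heq).finite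
  obtain ⟨P₀, e, he0, he⟩ := exists_isOverWith (K := RatFunc k) P
  have he2 := ((isQuad_as hdeg hy heq).ramIdx_facts isFG_ratFunc P₀).2.1 P e he
  have hvL : ∀ r, val P (algebraMap (RatFunc k) K r) = val P₀ r ^ e := he
  set x := algebraMap (RatFunc k) K RatFunc.X with hxdef
  have hqne : algebraMap k[X] (RatFunc k) q ≠ 0 := RatFunc.algebraMap_ne_zero hq0
  show Valued.v (φ _ * _root_.LocRes.D F (φ x)) ≤ 1
  rw [map_mul, hφ.1]
  show val P _ * _ ≤ 1
  rw [hvL, map_div₀, map_pow, val_eq P₀ hqne]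
  -- the pole of `f`, if any, forces ramification
  have hpole : P₀.ord f < 0 → e = 2 ∧ Odd (-P₀.ord f).toNat ∧
      val P₀ f = exp (((-P₀.ord f).toNat : ℕ) : ℤ) := fun hneg => by
    have hf0 : f ≠ 0 := fun h => by rw [h, ord_zero] at hneg; exact lt_irrefl _ hneg
    obtain ⟨r, hr⟩ := hodd P₀ hneg
    refine ⟨(isOverWith_unique he ((as_ramified h2 hdeg hy heq P₀ hneg (hodd P₀ hneg)).1 P ⟨e, he⟩).1).2,
      ⟨(-r - 1).toNat, by omega⟩, by rw [val_eq P₀ hf0]; congr 1; omega⟩
  rcases lt_or_ge (P₀.ord (RatFunc.X : RatFunc k)) 0 with hX | hX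
  · -- at infinity
    rw [ord_poly_inf hX hq0, val_eq P₀ RatFunc.X_ne_zero, (inf_props hX).2.1, neg_neg, neg_neg,
      ← exp_nsmul, div_eq_mul_inv, ← exp_neg, ← exp_add, ← exp_nsmul]
    have hgen := as_genus_poly h2 hdeg hy heq hodd hq0 hq hK P₀ hX
    rcases lt_or_ge (P₀.ord f) 0 with hneg | hint
    · obtain ⟨rfl, hm, hf⟩ := hpole hneg
      rw [if_pos hneg] at hgen
      obtain ⟨hinv, hle⟩ := as_val_D_le_infinite h2 he hφ rfl hX
      have hw : val P₀ (RatFunc.X : RatFunc k)⁻¹ = exp (-1) := by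
        rw [map_inv₀, val_eq P₀ RatFunc.X_ne_zero, (inf_props hX).2.1, neg_neg, ← exp_neg]
      have hD := as_val_D h2 heq he hφ rfl hm hf hw hle
      rw [hinv] at hD
      have hDx : Valued.v (_root_.LocRes.D F (φ x)) = exp (4 - (((-P₀.ord f).toNat : ℕ) + 1 : ℤ)) := by
        calc Valued.v (_root_.LocRes.D F (φ x))
            = exp 4 * (exp (-4) * Valued.v (_root_.LocRes.D F (φ x))) := by
              rw [← mul_assoc, ← exp_add]; simp
          _ = _ := by rw [hD, ← exp_add]; congr 1
      rw [hDx, ← exp_add, ← exp_zero, exp_le_exp]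
      simp only [nsmul_eq_mul]
      push_cast
      omega
    · rw [if_neg (not_lt.mpr hint)] at hgen
      have hD : Valued.v (_root_.LocRes.D F (φ x)) ≤ exp ((e : ℤ) + 1) := val_D_le (by
        rw [hφ.1]
        show val P x ≤ _
        rw [hxdef, hvL, val_eq P₀ RatFunc.X_ne_zero, (inf_props hX).2.1, neg_neg, ← exp_nsmul]
        simp)
      refine (mul_le_mul_right hD _).trans ?_
      rw [← exp_add, ← exp_zero, exp_le_exp]
      simp only [nsmul_eq_mul]
      rcases he2 with rfl | rfl <;> push_cast <;> omega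
  · -- at a finite place
    have hxi : val P₀ (RatFunc.X : RatFunc k) ^ i ≤ 1 := pow_le_one₀ zero_le (val_X_le_one hX)
    rw [hq P₀ hX]
    rcases lt_or_ge (P₀.ord f) 0 with hneg | hint
    · obtain ⟨rfl, hm, hf⟩ := hpole hneg
      obtain ⟨π, hπ, hDπ, hle⟩ := as_val_D_le_finite he hφ hX
      have hD := as_val_D h2 heq he hφ rfl hm hf hπ (fun r hr => by rw [hDπ]; exact hle r hr)
      rw [hDπ] at hD
      rw [hD, if_pos hneg, div_eq_mul_inv, ← exp_neg, neg_neg, mul_pow, ← exp_nsmul, mul_assoc,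
        ← exp_add]
      refine mul_le_one' (pow_le_one₀ zero_le hxi) ?_
      rw [← exp_zero, exp_le_exp, nsmul_eq_mul]
      obtain ⟨r, hr⟩ := hodd P₀ hneg
      push_cast
      omega
    · rw [if_neg (not_lt.mpr hint), neg_zero, exp_zero, div_one]
      refine mul_le_one' (pow_le_one₀ zero_le hxi) (val_D_le_one ?_)
      rw [hφ.1]
      show val P x ≤ 1
      rw [hxdef, hvL]
      exact pow_le_one₀ zero_le (val_X_le_one hX)

end GrothLib.LocRes
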