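import Groth.Agent.Lib.LocRes.RegularAS
import Mathlib.FieldTheory.IsAlgClosed.Basic
import Mathlib.Algebra.BigOperators.Field

/-!
Partial-fraction bases of the regular differentials on an Artin–Schreier cover over a closed field.
-/

set_option autoImplicit false
set_option linter.style.haveILetI false
set_option linter.unusedSectionVars false

namespace GrothLib.FunFld

open _root_.FunFld WithZero Polynomial

variable {k : Type*} [Field k] [IsAlgClosed k]

local notation "ι" => algebraMap k[X] (RatFunc k)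

/-- Over a closed field a finite place of the line is a point. -/
theorem exists_point {P : Place k (RatFunc k)} (hP : 0 ≤ P.ord (RatFunc.X : RatFunc k)) :
    ∃ a : k, val P ((RatFunc.X : RatFunc k) - RatFunc.C a) = exp (-1) ∧
      ∀ b, b ≠ a → val P ((RatFunc.X : RatFunc k) - RatFunc.C b) = 1 := by
  obtain ⟨p, hp, hp1, hiff⟩ := exists_prime hP
  obtain ⟨a, ha⟩ := IsAlgClosed.exists_root p (by
    rw [degree_eq_natDegree hp.ne_zero]; exact_mod_cast hp.natDegree_pos.ne')
  have hassoc : Associated p (X - C a) :=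
    ((irreducible_X_sub_C a).associated_of_dvd hp (dvd_iff_isRoot.mpr ha)).symm
  obtain ⟨u, hu⟩ := hassoc
  obtain ⟨c, hc, hcu⟩ := Polynomial.isUnit_iff.mp u.isUnit
  have hX : ∀ b : k, ι (X - C b) = (RatFunc.X : RatFunc k) - RatFunc.C b := fun b => by
    rw [map_sub, RatFunc.algebraMap_X, RatFunc.algebraMap_C]
  have ha1 : val P ((RatFunc.X : RatFunc k) - RatFunc.C a) = exp (-1) := by
    rw [← hX, ← hu, map_mul, map_mul, ← hcu, val_eq P (RatFunc.algebraMap_ne_zero hp.ne_zero), hp1,
      RatFunc.algebraMap_C]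
    show _ * val P (algebraMap k (RatFunc k) c) = _
    rw [val_const P hc.ne_zero, mul_one]
  refine ⟨a, ha1, fun b hb => ?_⟩
  rw [show (RatFunc.X : RatFunc k) - RatFunc.C b =
    algebraMap k (RatFunc k) (a - b) + ((RatFunc.X : RatFunc k) - RatFunc.C a) by
      rw [map_sub (algebraMap k (RatFunc k))]
      show _ = RatFunc.C a - RatFunc.C b + _
      ring]
  have hc1 := val_const P (sub_ne_zero.mpr (Ne.symm hb))
  rw [(val P).map_add_eq_of_lt_left, hc1]
  rw [hc1, ha1, ← exp_zero, exp_lt_exp]; norm_num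

/-- Every point gives a place. -/
theorem exists_place_point (a : k) :
    ∃ P : Place k (RatFunc k), val P ((RatFunc.X : RatFunc k) - RatFunc.C a) = exp (-1) ∧
      ∀ b, b ≠ a → val P ((RatFunc.X : RatFunc k) - RatFunc.C b) = 1 := by
  obtain ⟨P, hP, hpos⟩ := exists_finite_place_of_irreducible (irreducible_X_sub_C a)
  obtain ⟨a', ha', hother⟩ := exists_point hP
  refine ⟨P, ?_⟩
  by_cases h : a = a'
  · subst h; exact ⟨ha', hother⟩
  · exfalso
    have h1 := hother a h
    rw [map_sub, RatFunc.algebraMap_X, RatFunc.algebraMap_C] at hpos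
    rw [← val_lt_one_iff P (by
      intro h0; rw [h0, map_zero] at h1; exact zero_ne_one h1), h1] at hpos
    exact lt_irrefl _ hpos

end GrothLib.FunFld

namespace GrothLib.LocRes

open LaurentSeries WithZero Polynomial
open GrothLib.FunFld
open _root_.FunFld (Place genus)

universe u v w

variable {k : Type u} [Field k] [IsAlgClosed k]

/-- The index set: higher partial fractions and differences of simple ones. -/
abbrev PFIdx (B : Finset k) (d : k → ℕ) :=
  {a : ↥B × ℕ // 1 ≤ a.2 ∧ 2 * a.2 + 1 ≤ d (a.1 : k)} ⊕ {b : ↥B // (b : k) ≠ 0}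

/-- The partial fractions. -/
noncomputable def pf (B : Finset k) (d : k → ℕ) : PFIdx B d → RatFunc k :=
  Sum.elim (fun a => ((RatFunc.X : RatFunc k) - RatFunc.C (a.1.1 : k))⁻¹ ^ (a.1.2 + 1))
    (fun b => RatFunc.C (b.1 : k) /
      ((RatFunc.X : RatFunc k) * ((RatFunc.X : RatFunc k) - RatFunc.C (b.1 : k))))

theorem finite_pfIdx (B : Finset k) (d : k → ℕ) : Finite (PFIdx B d) := by
  haveI : Finite {a : ↥B × ℕ // 1 ≤ a.2 ∧ 2 * a.2 + 1 ≤ d (a.1 : k)} := by
    refine Finite.of_injective
      (fun a => (⟨a.1.1, ⟨a.1.2, by have := a.2.2; omega⟩⟩ : Σ α : ↥B, Fin (d (α : k) + 1))) ?_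
    rintro ⟨⟨α, j⟩, h⟩ ⟨⟨α', j'⟩, h'⟩ heq
    simp only [Sigma.mk.injEq] at heq
    obtain ⟨rfl, h2⟩ := heq
    simp only [heq_eq_eq, Fin.mk.injEq] at h2
    subst h2; rfl
  infer_instance

theorem card_pfIdx (B : Finset k) (h0 : (0 : k) ∈ B) (d : k → ℕ) (hd : ∀ α ∈ B, Odd (d α))
    [Fintype (PFIdx B d)] :
    Fintype.card (PFIdx B d) + 1 = ∑ α ∈ B, (d α + 1) / 2 := by
  classical
  haveI : Finite {a : ↥B × ℕ // 1 ≤ a.2 ∧ 2 * a.2 + 1 ≤ d (a.1 : k)} :=
    Finite.of_injective (β := PFIdx B d) Sum.inl Sum.inl_injective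
  haveI := Fintype.ofFinite {a : ↥B × ℕ // 1 ≤ a.2 ∧ 2 * a.2 + 1 ≤ d (a.1 : k)}
  let e : {a : ↥B × ℕ // 1 ≤ a.2 ∧ 2 * a.2 + 1 ≤ d (a.1 : k)} ≃
      Σ α : ↥B, Fin ((d (α : k) - 1) / 2) :=
    { toFun := fun a => ⟨a.1.1, ⟨a.1.2 - 1, by have := a.2; omega⟩⟩
      invFun := fun s => ⟨(s.1, (s.2 : ℕ) + 1), by
        have := s.2.2; exact ⟨by simp, by simp only; omega⟩⟩
      left_inv := fun a => by
        refine Subtype.ext (Prod.ext rfl ?_)
        show a.1.2 - 1 + 1 = a.1.2
        have := a.2.1; omega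
      right_inv := fun s => rfl }
  have h1 : Fintype.card {a : ↥B × ℕ // 1 ≤ a.2 ∧ 2 * a.2 + 1 ≤ d (a.1 : k)} =
      ∑ α ∈ B, (d α - 1) / 2 := by
    rw [Fintype.card_congr e, Fintype.card_sigma]
    simp only [Fintype.card_fin]
    exact Finset.sum_coe_sort B fun α => (d α - 1) / 2
  have h2 : Fintype.card {b : ↥B // (b : k) ≠ 0} + 1 = B.card := by
    rw [Fintype.card_subtype_compl, Fintype.card_coe,
      Fintype.card_subtype_eq' (⟨0, h0⟩ : ↥B) |>.symm.trans (Fintype.card_congr
        (Equiv.subtypeEquivRight fun b : ↥B => ⟨fun h => by rw [← h], fun h => Subtype.ext h.symm⟩))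
      |>.symm]
    have := Finset.card_pos.mpr ⟨0, h0⟩
    omega
  have h3 : ∑ α ∈ B, (d α + 1) / 2 = (∑ α ∈ B, (d α - 1) / 2) + B.card := by
    rw [Finset.card_eq_sum_ones, ← Finset.sum_add_distrib]
    exact Finset.sum_congr rfl fun α hα => by obtain ⟨r, hr⟩ := hd α hα; omega
  rw [← Nat.card_eq_fintype_card, Nat.card_sum, Nat.card_eq_fintype_card, Nat.card_eq_fintype_card, h3]
  omega

theorem pf_linearIndependent (B : Finset k) (d : k → ℕ) : LinearIndependent k (pf B d) := by
  classical
  haveI := finite_pfIdx B d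
  haveI := Fintype.ofFinite (PFIdx B d)
  rw [Fintype.linearIndependent_iff]
  intro c hc
  -- the order of a partial fraction at a point
  have hvi : ∀ (P : Place k (RatFunc k)) (α : k),
      val P ((RatFunc.X : RatFunc k) - RatFunc.C α) = exp (-1) →
      (∀ b, b ≠ α → val P ((RatFunc.X : RatFunc k) - RatFunc.C b) = 1) →
      (∀ a, (a.1.1 : k) = α → val P (pf B d (Sum.inl a)) = exp ((a.1.2 : ℤ) + 1)) ∧
      (∀ a, (a.1.1 : k) ≠ α → val P (pf B d (Sum.inl a)) ≤ 1) ∧
      (∀ b, val P (pf B d (Sum.inr b)) ≤ exp 1) ∧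
      (∀ b, α ≠ 0 → (b.1 : k) = α → val P (pf B d (Sum.inr b)) = exp 1) ∧
      (∀ b, α ≠ 0 → (b.1 : k) ≠ α → val P (pf B d (Sum.inr b)) ≤ 1) := by
    intro P α hα hother
    have hone : ∀ b, val P ((RatFunc.X : RatFunc k) - RatFunc.C b) =
        if b = α then exp (-1) else 1 := fun b => by
      split_ifs with h
      · rw [h, hα]
      · exact hother b h
    have hC : ∀ b : k, b ≠ 0 → val P (RatFunc.C b) = 1 := fun b hb => val_const P hb
    have hX0 : val P (RatFunc.X : RatFunc k) = if (0 : k) = α then exp (-1) else 1 := by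
      rw [← hone 0, map_zero, sub_zero]
    have hL : ∀ a, val P (pf B d (Sum.inl a)) =
        (val P ((RatFunc.X : RatFunc k) - RatFunc.C (a.1.1 : k)))⁻¹ ^ (a.1.2 + 1) := fun a => by
      rw [pf, Sum.elim_inl, map_pow, map_inv₀]
    have hR : ∀ b, val P (pf B d (Sum.inr b)) = ((if (0 : k) = α then exp (-1) else 1) *
        (if (b.1 : k) = α then exp (-1) else 1))⁻¹ := fun b => by
      rw [pf, Sum.elim_inr, map_div₀, map_mul, hC _ b.2, hX0, hone, one_div]
    refine ⟨fun a ha => ?_, fun a ha => ?_, fun b => ?_, fun b h0 hb => ?_, fun b h0 hb => ?_⟩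
    · rw [hL, ha, hα, ← exp_neg, ← exp_nsmul]; simp
    · rw [hL, hother _ ha, inv_one, one_pow]
    · rw [hR]
      split_ifs with h h'
      · exact absurd (h'.trans h.symm) b.2
      · rw [mul_one, ← exp_neg, neg_neg]
      · rw [one_mul, ← exp_neg, neg_neg]
      · rw [one_mul, inv_one, ← exp_zero, exp_le_exp]; norm_num
    · rw [hR, if_neg (Ne.symm h0), if_pos hb, one_mul, ← exp_neg, neg_neg]
    · rw [hR, if_neg (Ne.symm h0), if_neg hb, one_mul, inv_one]
  have hdom : ∀ (P : Place k (RatFunc k)) (i₀ : PFIdx B d),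
      (∀ i, i ≠ i₀ → c i ≠ 0 → val P (pf B d i) < val P (pf B d i₀)) → c i₀ = 0 := by
    intro P i₀ hlt
    by_contra h0
    rw [← Finset.sum_erase_add _ _ (Finset.mem_univ i₀)] at hc
    have hv0 : val P (c i₀ • pf B d i₀) = val P (pf B d i₀) := by
      rw [Algebra.smul_def, map_mul, val_const P h0, one_mul]
    have hpos : val P (pf B d i₀) ≠ 0 := by
      rw [(val P).ne_zero_iff]
      rcases i₀ with a | b
      · exact pow_ne_zero _ (inv_ne_zero fun h => by
          rw [sub_eq_zero] at h
          exact RatFunc.transcendental_X (h ▸ isAlgebraic_algebraMap _))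
      · refine div_ne_zero ((_root_.map_ne_zero _).mpr b.2) (mul_ne_zero RatFunc.X_ne_zero fun h => ?_)
        rw [sub_eq_zero] at h
        exact RatFunc.transcendental_X (h ▸ isAlgebraic_algebraMap _)
    have hsum : val P (∑ i ∈ Finset.univ.erase i₀, c i • pf B d i) < val P (c i₀ • pf B d i₀) := by
      rw [hv0]
      refine (val P).map_sum_lt hpos fun i hi => ?_
      rw [Finset.mem_erase] at hi
      by_cases hci : c i = 0
      · rw [hci, zero_smul, map_zero]; exact zero_lt_iff.mpr hpos
      · rw [Algebra.smul_def, map_mul, val_const P hci, one_mul]; exact hlt i hi.1 hci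
    have := (val P).map_add_eq_of_lt_right hsum
    rw [hc, map_zero, hv0] at this
    exact hpos this.symm
  -- the higher partial fractions, from the top
  have hinl : ∀ n : ℕ, ∀ a, d (a.1.1 : k) + 1 ≤ a.1.2 + n → c (Sum.inl a) = 0 := by
    intro n
    induction n with
    | zero => intro a h; have := a.2.2; omega
    | succ n ih =>
      intro a h
      obtain ⟨P, hP, hother⟩ := exists_place_point (a.1.1 : k)
      obtain ⟨h1, h2, h3, -, -⟩ := hvi P _ hP hother
      refine hdom P _ fun i hi hci => ?_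
      rw [h1 a rfl]
      rcases i with a' | b
      · by_cases hα : (a'.1.1 : k) = a.1.1
        · rw [h1 a' hα, exp_lt_exp]
          have hne : a'.1.2 ≠ a.1.2 := fun h' => hi (congrArg Sum.inl
            (Subtype.ext (Prod.ext (Subtype.ext hα) h')))
          by_contra hlt
          refine hci (ih a' ?_)
          rw [hα]; omega
        · refine (h2 a' hα).trans_lt ?_
          rw [← exp_zero, exp_lt_exp]; omega
      · refine (h3 b).trans_lt ?_
        rw [exp_lt_exp]; have := a.2.1; omega
  have hzero : ∀ a, c (Sum.inl a) = 0 := fun a => hinl (d (a.1.1 : k) + 1) a (by omega)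
  rintro (a | b)
  · exact hzero a
  · obtain ⟨P, hP, hother⟩ := exists_place_point (b.1 : k)
    obtain ⟨-, -, -, h4, h5⟩ := hvi P _ hP hother
    refine hdom P _ fun i hi hci => ?_
    rw [h4 b b.2 rfl]
    rcases i with a' | b'
    · exact absurd (hzero a') hci
    · refine (h5 b' b.2 fun h => hi (congrArg Sum.inr (Subtype.ext (Subtype.ext h)))).trans_lt ?_
      rw [← exp_zero, exp_lt_exp]; norm_num

variable {K : Type v} [Field K] [Algebra k K] [Algebra (RatFunc k) K] [IsScalarTower k (RatFunc k) K]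

/-- The partial fractions form a basis of the regular differentials. -/
theorem as_partial_basis [CharP k 2] (hK : _root_.FunFld.IsFunctionField k K)
    (hdeg : Module.finrank (RatFunc k) K = 2) [Algebra.IsSeparable (RatFunc k) K]
    {y : K} (hy : y ∉ Set.range (algebraMap (RatFunc k) K)) {f : RatFunc k}
    (heq : y ^ 2 + y = algebraMap (RatFunc k) K f)
    (B : Finset k) (h0 : (0 : k) ∈ B) (d : k → ℕ) (hd : ∀ α ∈ B, Odd (d α))
    (hpole : ∀ (p : Place k (RatFunc k)) (α : k), α ∈ B →
      p.1 ((RatFunc.X : RatFunc k) - RatFunc.C α) < 1 → p.ord f = -(d α : ℤ))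
    (hint : ∀ p : Place k (RatFunc k),
      (∀ α ∈ B, 1 ≤ p.1 ((RatFunc.X : RatFunc k) - RatFunc.C α)) → p.1 f ≤ 1)
    {F : Place k K → Type w} [∀ P, Field (F P)] [∀ P, Algebra k (F P)] [∀ P, FiniteDimensional k (F P)]
    {φ : ∀ P, K →ₐ[k] LaurentSeries (F P)} (hφ : ∀ P, _root_.LocRes.IsExpansionAt P.1 (φ P)) :
    (∀ i P, _root_.LocRes.vDiff (φ P) (algebraMap (RatFunc k) K (pf B d i))
      (algebraMap (RatFunc k) K RatFunc.X) ≤ 1) ∧
    LinearIndependent k (fun i => algebraMap (RatFunc k) K (pf B d i)) ∧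
    ∀ z : K, (∀ P, _root_.LocRes.vDiff (φ P) z (algebraMap (RatFunc k) K RatFunc.X) ≤ 1) →
      z ∈ Submodule.span k (Set.range fun i => algebraMap (RatFunc k) K (pf B d i)) := by
  classical
  haveI := finite_pfIdx B d
  haveI := Fintype.ofFinite (PFIdx B d)
  have h2 : ringChar k = 2 := ringChar.eq k 2
  set D : k → ℕ := fun α => (d α + 1) / 2 with hD
  set q : k[X] := ∏ α ∈ B, (X - C α) ^ D α with hqdef
  have hq0 : q ≠ 0 := Finset.prod_ne_zero_iff.mpr fun α _ => pow_ne_zero _ (X_sub_C_ne_zero α)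
  have hιq : algebraMap k[X] (RatFunc k) q =
      ∏ α ∈ B, ((RatFunc.X : RatFunc k) - RatFunc.C α) ^ D α := by
    rw [hqdef, map_prod]
    exact Finset.prod_congr rfl fun α _ => by
      rw [map_pow, map_sub, RatFunc.algebraMap_X, RatFunc.algebraMap_C]
  have hqdeg : q.natDegree = ∑ α ∈ B, D α := by
    rw [hqdef, natDegree_prod _ _ fun α _ => pow_ne_zero _ (X_sub_C_ne_zero α)]
    exact Finset.sum_congr rfl fun α _ => by rw [natDegree_pow, natDegree_X_sub_C, mul_one]
  have hq : ∀ p : Place k (RatFunc k), 0 ≤ p.ord (RatFunc.X : RatFunc k) →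
      p.ord (algebraMap k[X] (RatFunc k) q) = if p.ord f < 0 then (1 - p.ord f) / 2 else 0 := by
    intro p hp
    obtain ⟨a, ha, hother⟩ := exists_point hp
    have hqv : val p (algebraMap k[X] (RatFunc k) q) =
        if a ∈ B then exp (-(D a : ℤ)) else 1 := by
      rw [hιq, map_prod]
      split_ifs with haB
      · rw [Finset.prod_eq_single a (fun b _ hb => by rw [map_pow, hother b hb, one_pow])
          (fun h => absurd haB h), map_pow, ha, ← exp_nsmul]
        simp
      · exact Finset.prod_eq_one fun b hb => by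
          rw [map_pow, hother b (fun h => haB (h ▸ hb)), one_pow]
    rw [val_eq p (RatFunc.algebraMap_ne_zero hq0)] at hqv
    by_cases haB : a ∈ B
    · rw [if_pos haB, exp_inj, neg_inj] at hqv
      have hlt : p.1 ((RatFunc.X : RatFunc k) - RatFunc.C a) < 1 := by
        show val p _ < 1
        rw [ha, ← exp_zero, exp_lt_exp]; norm_num
      have hpf := hpole p a haB hlt
      obtain ⟨r, hr⟩ := hd a haB
      rw [hqv, hpf, if_pos (by omega)]
      simp only [hD]
      omega
    · rw [if_neg haB, ← exp_zero, exp_inj, neg_eq_zero] at hqv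
      rw [hqv, if_neg]
      intro hneg
      have hf1 := hint p fun α hα => (hother α fun h => haB (h ▸ hα)).ge
      have hf0 : f ≠ 0 := fun h => by rw [h, ord_zero] at hneg; exact lt_irrefl _ hneg
      have := (val_le_one_iff p hf0).mp hf1
      omega
  obtain ⟨Pinf, hinf⟩ := exists_inf (k := k)
  have hinfint : ¬ Pinf.ord f < 0 := fun hneg => by
    have hf1 := hint Pinf fun α _ => by
      show 1 ≤ val Pinf _
      rw [← RatFunc.algebraMap_X, ← RatFunc.algebraMap_C, ← map_sub,
        val_eq Pinf (RatFunc.algebraMap_ne_zero (X_sub_C_ne_zero α)),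
        ord_poly_inf hinf (X_sub_C_ne_zero α), natDegree_X_sub_C, ← exp_zero, exp_le_exp]
      norm_num
    have hf0 : f ≠ 0 := fun h => by rw [h, ord_zero] at hneg; exact lt_irrefl _ hneg
    have := (val_le_one_iff Pinf hf0).mp hf1
    omega
  have hodd : ∀ p : Place k (RatFunc k), p.ord f < 0 → Odd (p.ord f) := fun p hneg => by
    have hX : 0 ≤ p.ord (RatFunc.X : RatFunc k) := by
      by_contra h
      rw [not_le] at h
      have : p = Pinf := by
        by_contra hne
        exact absurd ((inf_props hinf).2.2.1 p hne) (not_le.mpr h)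
      exact hinfint (this ▸ hneg)
    obtain ⟨a, ha, hother⟩ := exists_point hX
    by_cases haB : a ∈ B
    · rw [hpole p a haB (by show val p _ < 1; rw [ha, ← exp_zero, exp_lt_exp]; norm_num), odd_neg]
      exact_mod_cast hd a haB
    · exfalso
      have hf1 := hint p fun α hα => (hother α fun h => haB (h ▸ hα)).ge
      have hf0 : f ≠ 0 := fun h => by rw [h, ord_zero] at hneg; exact lt_irrefl _ hneg
      have := (val_le_one_iff p hf0).mp hf1
      omega
  have hgen : (genus k K : ℤ) = q.natDegree - 1 := by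
    rw [as_genus_poly h2 hdeg hy heq hodd hq0 hq hK Pinf hinf, if_neg hinfint, add_zero]
  -- each partial fraction is a polynomial of degree `< g` over `q`
  have hXC : ∀ α : k, (RatFunc.X : RatFunc k) - RatFunc.C α = algebraMap k[X] (RatFunc k) (X - C α) :=
    fun α => by rw [map_sub, RatFunc.algebraMap_X, RatFunc.algebraMap_C]
  have hpoly : ∀ i, ∃ p : k[X], (p ≠ 0 → p.natDegree + 2 ≤ q.natDegree) ∧
      pf B d i = algebraMap k[X] (RatFunc k) p / algebraMap k[X] (RatFunc k) q := by
    have key : ∀ (den : k[X]) (num : k), den ∣ q → 2 ≤ den.natDegree →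
        ∃ p : k[X], (p ≠ 0 → p.natDegree + 2 ≤ q.natDegree) ∧
          RatFunc.C num / algebraMap k[X] (RatFunc k) den =
            algebraMap k[X] (RatFunc k) p / algebraMap k[X] (RatFunc k) q := by
      intro den num hdvd hdeg2
      obtain ⟨r, hr⟩ := hdvd
      have hden0 : den ≠ 0 := fun h => by rw [h, zero_mul] at hr; exact hq0 hr
      have hr0 : r ≠ 0 := fun h => by rw [h, mul_zero] at hr; exact hq0 hr
      refine ⟨C num * r, fun _ => ?_, ?_⟩
      · have := natDegree_C_mul_le num r
        rw [hr, natDegree_mul hden0 hr0]; omega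
      · rw [hr, map_mul, map_mul, RatFunc.algebraMap_C,
          mul_div_mul_right _ _ (RatFunc.algebraMap_ne_zero hr0)]
    rintro (a | b)
    · obtain ⟨p, hp1, hp2⟩ := key ((X - C (a.1.1 : k)) ^ (a.1.2 + 1)) 1
        ((pow_dvd_pow _ (by have := a.2; simp only [hD]; omega)).trans
          (Finset.dvd_prod_of_mem (fun α => (X - C α) ^ D α) a.1.1.2))
        (by rw [natDegree_pow, natDegree_X_sub_C]; have := a.2.1; omega)
      refine ⟨p, hp1, ?_⟩
      rw [← hp2, pf, Sum.elim_inl, map_one, map_pow, ← hXC, inv_pow, one_div]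
    · obtain ⟨p, hp1, hp2⟩ := key (X * (X - C (b.1 : k))) (b.1 : k) (by
        have hpair : ∏ α ∈ ({(0 : k), (b.1 : k)} : Finset k), (X - C α) ∣ q := by
          refine (Finset.prod_dvd_prod_of_subset _ B (fun α => (X - C α)) ?_).trans
            (Finset.prod_dvd_prod_of_dvd _ _ fun α hα => dvd_pow_self _ ?_)
          · intro α hα
            simp only [Finset.mem_insert, Finset.mem_singleton] at hα
            rcases hα with rfl | rfl
            exacts [h0, b.1.2]
          · obtain ⟨r, hr⟩ := hd α hα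
            simp only [hD]; omega
        rwa [Finset.prod_pair (Ne.symm b.2), map_zero, sub_zero] at hpair)
        (by rw [natDegree_mul X_ne_zero (X_sub_C_ne_zero _), natDegree_X, natDegree_X_sub_C])
      refine ⟨p, hp1, ?_⟩
      rw [← hp2, pf, Sum.elim_inr, map_mul, ← hXC, RatFunc.algebraMap_X]
  set x := algebraMap (RatFunc k) K RatFunc.X
  have hreg : ∀ i P, _root_.LocRes.vDiff (φ P) (algebraMap (RatFunc k) K (pf B d i)) x ≤ 1 := by
    intro i P
    obtain ⟨p, hp, he⟩ := hpoly i
    rw [he, show algebraMap k[X] (RatFunc k) p / algebraMap k[X] (RatFunc k) q =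
      ∑ j ∈ Finset.range (p.natDegree + 1), algebraMap k (RatFunc k) (p.coeff j) *
        (RatFunc.X ^ j / algebraMap k[X] (RatFunc k) q) by
      conv_lhs => rw [← aeval_X_eq, aeval_eq_sum_range]
      rw [Finset.sum_div]
      exact Finset.sum_congr rfl fun j _ => by rw [Algebra.smul_def, mul_div_assoc]]
    rw [_root_.LocRes.vDiff, map_sum, map_sum, Finset.sum_mul]
    refine (Valued.v).map_sum_le fun j hj => ?_
    rw [map_mul (algebraMap (RatFunc k) K), map_mul (φ P), map_mul, map_mul, mul_assoc, ← map_mul Valued.v (φ P _) (_root_.LocRes.D (F P) (φ P x))]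
    by_cases hp0 : p = 0
    · simp [hp0]
    refine mul_le_one' ?_ (as_regular h2 hdeg hy heq hodd hq0 hq hK (hφ P) ?_)
    · rw [(hφ P).1, ← IsScalarTower.algebraMap_apply]; exact P.2.1 _
    · rw [Finset.mem_range] at hj
      have := hp hp0
      omega
  have hli : LinearIndependent k fun i => algebraMap (RatFunc k) K (pf B d i) :=
    (pf_linearIndependent B d).map' (IsScalarTower.toAlgHom k (RatFunc k) K).toLinearMap
      (LinearMap.ker_eq_bot.mpr (algebraMap (RatFunc k) K).injective)
  refine ⟨hreg, hli, fun z hz => ?_⟩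
  have hgeo := isGeometric_of_ratFunc (k := k) hK
  have hDx := D_X_ne_zero (k := k) hK
  set S : Set K := {y : K | ∀ P, _root_.LocRes.vDiff (φ P) y x ≤ 1}
  have hfr : Module.finrank k (Submodule.span k S) = genus k K := by
    have h := exists_equiv_WD hφ hK hgeo hDx (0 : _root_.FunFld.Divisor k K)
    simp only [Finsupp.coe_zero, Pi.zero_apply, neg_zero, WithZero.exp_zero] at h
    refine h.trans ?_
    have h3 := (finrank_WD' hK (0 : _root_.FunFld.Divisor k K)).2
    rw [delta_zero hK, sub_zero] at h3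
    exact_mod_cast h3
  have hcardg : Fintype.card (PFIdx B d) = genus k K := by
    have h1 := card_pfIdx B h0 d hd
    have h4 : (∑ α ∈ B, (d α + 1) / 2) = q.natDegree := hqdeg.symm
    omega
  have hle : Submodule.span k (Set.range fun i => algebraMap (RatFunc k) K (pf B d i)) ≤
      Submodule.span k S := Submodule.span_mono (by rintro _ ⟨i, rfl⟩; exact hreg i)
  rcases Nat.eq_zero_or_pos (genus k K) with hg0 | hg0
  · obtain ⟨a, ha, rfl⟩ := exists_poly_of_regular hφ hK hgeo (transcendental_X (k := k)) one_ne_zero hDx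
      (fun i hi => absurd hi (by omega)) hz
    rw [hg0, Nat.cast_zero, Nat.WithBot.lt_zero_iff, degree_eq_bot] at ha
    simp [ha]
  haveI : Module.Finite k (Submodule.span k S) := Module.finite_of_finrank_pos (by omega)
  rw [Submodule.eq_of_le_of_finrank_eq hle (by rw [finrank_span_eq_card hli, hcardg, hfr])]
  exact Submodule.subset_span hz

end GrothLib.LocRes
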