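import Groth.Agent.Lib.LocRes.ResidueTheorem
import Groth.Agent.Lib.FunFld.RatLine
import Mathlib.RingTheory.Polynomial.Basic

/-!
Tools for writing down bases of regular differentials on covers of the rational line.
-/

set_option autoImplicit false
set_option linter.style.haveILetI false

namespace GrothLib.LocRes

open LaurentSeries WithZero
open GrothLib.FunFld
open _root_.FunFld (Place)
open scoped Polynomial

universe u v w

section Series

variable {F : Type w} [Field F]

theorem val_D_le {s : F⸨X⸩} {n : ℤ} (h : Valued.v s ≤ exp n) :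
    Valued.v (_root_.LocRes.D F s) ≤ exp (n + 1) := by
  rw [show n + 1 = -(-n - 1) by ring]
  refine (LaurentSeries.valuation_le_iff_coeff_lt_eq_zero F).mpr fun i hi => ?_
  rw [show n = -(-n) by ring] at h
  rw [_root_.LocRes.D_coeff,
    (LaurentSeries.valuation_le_iff_coeff_lt_eq_zero F).mp h _ (by omega), smul_zero]

theorem val_D_le_one {s : F⸨X⸩} (h : Valued.v s ≤ 1) : Valued.v (_root_.LocRes.D F s) ≤ 1 := by
  obtain ⟨p, rfl⟩ := (LaurentSeries.val_le_one_iff_eq_coe F s).mp h
  rw [_root_.LocRes.D_coe]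
  exact (LaurentSeries.val_le_one_iff_eq_coe F _).mpr ⟨_, rfl⟩

/-- The derivative of a series whose order is prime to the characteristic. -/
theorem val_D_eq {s : F⸨X⸩} {n : ℤ} (h : Valued.v s = exp (-n)) (hn : (n : F) ≠ 0) :
    Valued.v (_root_.LocRes.D F s) = exp (-(n - 1)) := by
  obtain ⟨a, u, hu, rfl, hv⟩ := exists_eq_single_mul (f := s)
    (fun h0 => by rw [h0, map_zero] at h; exact exp_ne_zero h.symm)
  rw [h, exp_inj, neg_inj] at hv
  subst hv
  refine le_antisymm ((val_D_le h.le).trans_eq (by congr 1; ring)) ?_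
  have hc : (_root_.LocRes.D F (HahnSeries.single n 1 * (u : F⸨X⸩))).coeff (n - 1) =
      (n : F) * PowerSeries.constantCoeff u := by
    rw [_root_.LocRes.D_coeff, sub_add_cancel, HahnSeries.coeff_single_mul, one_mul, sub_self,
      PowerSeries.coeff_coe, if_neg (lt_irrefl 0), Int.natAbs_zero,
      PowerSeries.coeff_zero_eq_constantCoeff, zsmul_eq_mul]
  by_contra hlt
  rw [not_le] at hlt
  have hle : Valued.v (_root_.LocRes.D F (HahnSeries.single n 1 * (u : F⸨X⸩))) ≤ exp (-n) := by
    rw [show -n = -(n - 1) - 1 by ring, le_exp_sub_one_iff]; exact hlt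
  have h0 := (LaurentSeries.valuation_le_iff_coeff_lt_eq_zero F).mp hle (n - 1) (by omega)
  rw [hc, mul_eq_zero] at h0
  exact h0.elim hn hu

end Series

variable {k : Type u} {K : Type v} [Field k] [Field K] [Algebra k K]

theorem D_pow_two {F : Type w} [Field F] [Algebra k F] (φ : K →ₐ[k] F⸨X⸩) (y : K) :
    _root_.LocRes.D F (φ (y ^ 2)) = φ (2 * y) * _root_.LocRes.D F (φ y) := by
  refine D_eq_mul_of_smul φ ?_
  rw [pow_two, Derivation.leibniz, ← add_smul, ← two_mul]

theorem D_aeval {F : Type w} [Field F] [Algebra k F] (φ : K →ₐ[k] F⸨X⸩) (x : K) (p : k[X]) :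
    _root_.LocRes.D F (φ (Polynomial.aeval x p)) =
      φ (Polynomial.aeval x p.derivative) * _root_.LocRes.D F (φ x) := by
  refine D_eq_mul_of_smul φ ?_
  rw [Derivation.map_aeval]

section RatFunc

variable [Algebra (RatFunc k) K] [IsScalarTower k (RatFunc k) K]

theorem transcendental_X : Transcendental k (algebraMap (RatFunc k) K RatFunc.X) := fun h =>
  RatFunc.transcendental_X
    ((isAlgebraic_algHom_iff (IsScalarTower.toAlgHom k (RatFunc k) K)
      (algebraMap (RatFunc k) K).injective).1 h)

/-- A separable cover of the line is separating. -/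
theorem separating_of_ratFunc [Algebra.IsSeparable (RatFunc k) K] :
    Algebra.IsSeparable
      (IntermediateField.adjoin k ({algebraMap (RatFunc k) K RatFunc.X} : Set K)) K := by
  let f : RatFunc k →ₐ[k] K := IsScalarTower.toAlgHom k (RatFunc k) K
  have hrange : f.fieldRange =
      IntermediateField.adjoin k ({algebraMap (RatFunc k) K RatFunc.X} : Set K) := by
    rw [AlgHom.fieldRange_eq_map, ← RatFunc.adjoin_X, IntermediateField.adjoin_map,
      Set.image_singleton]
    rfl
  let e := (AlgEquiv.ofInjectiveField f).trans (IntermediateField.equivOfEq hrange)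
  exact Algebra.IsSeparable.of_equiv_equiv (A₁ := RatFunc k) (B₁ := K) e.toRingEquiv
    (RingEquiv.refl K) (RingHom.ext fun z => rfl)

theorem isGeometric_of_ratFunc (hK : _root_.FunFld.IsFunctionField k K)
    [Algebra.IsSeparable (RatFunc k) K] : _root_.FunFld.IsGeometric k K := by
  haveI := IsFG.finiteDimensional_adjoin hK.1 (transcendental_X (k := k) (K := K))
  exact isGeometric_of_separating hK.2 transcendental_X separating_of_ratFunc

theorem D_X_ne_zero (hK : _root_.FunFld.IsFunctionField k K)
    [Algebra.IsSeparable (RatFunc k) K] :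
    KaehlerDifferential.D k K (algebraMap (RatFunc k) K RatFunc.X) ≠ 0 :=
  D_ne_zero_of_isSeparable hK.1 separating_of_ratFunc

theorem algebraMap_poly (p : k[X]) :
    algebraMap (RatFunc k) K (algebraMap k[X] (RatFunc k) p) =
      Polynomial.aeval (algebraMap (RatFunc k) K RatFunc.X) p := by
  rw [Polynomial.aeval_algebraMap_apply, RatFunc.aeval_X_left_eq_algebraMap]

end RatFunc

variable {F : Place k K → Type w} [∀ P, Field (F P)] [∀ P, Algebra k (F P)]
  [∀ P, FiniteDimensional k (F P)]
  {φ : ∀ P, K →ₐ[k] LaurentSeries (F P)} (hφ : ∀ P, _root_.LocRes.IsExpansionAt P.1 (φ P))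
include hφ

/-- As soon as `g` independent forms `x^i c dx` are regular, they span the regular forms. -/
theorem exists_poly_of_regular (hK : _root_.FunFld.IsFunctionField k K)
    (hg : _root_.FunFld.IsGeometric k K) {x c : K} (hx : Transcendental k x) (hc : c ≠ 0)
    (hDx : KaehlerDifferential.D k K x ≠ 0)
    (hreg : ∀ i : ℕ, i < _root_.FunFld.genus k K → ∀ P,
      _root_.LocRes.vDiff (φ P) (x ^ i * c) x ≤ 1)
    {z : K} (hz : ∀ P, _root_.LocRes.vDiff (φ P) z x ≤ 1) :
    ∃ a : k[X], a.degree < (_root_.FunFld.genus k K : WithBot ℕ) ∧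
      z = Polynomial.aeval x a * c := by
  classical
  set g := _root_.FunFld.genus k K with hgdef
  set S : Set K := {y : K | ∀ P, _root_.LocRes.vDiff (φ P) y x ≤ 1} with hS
  set W := Submodule.span k S with hW
  have hfr : Module.finrank k W = g := by
    have h := exists_equiv_WD hφ hK hg hDx (0 : _root_.FunFld.Divisor k K)
    simp only [Finsupp.coe_zero, Pi.zero_apply, neg_zero, WithZero.exp_zero] at h
    refine h.trans ?_
    have h2 := (finrank_WD' hK (0 : _root_.FunFld.Divisor k K)).2
    rw [delta_zero hK, sub_zero] at h2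
    exact_mod_cast h2
  let Φ : k[X] →ₗ[k] K := (LinearMap.mulRight k c) ∘ₗ (Polynomial.aeval x).toLinearMap
  have hΦ : ∀ p, Φ p = Polynomial.aeval x p * c := fun p => rfl
  have hinj : Function.Injective Φ := fun p q h => by
    rw [hΦ, hΦ] at h
    exact transcendental_iff_injective.mp hx (mul_right_cancel₀ hc h)
  set V := (Polynomial.degreeLT k g).map Φ with hV
  have hVW : V ≤ W := by
    rw [hV, Polynomial.degreeLT_eq_span_X_pow, Submodule.map_span, Submodule.span_le]
    rintro _ ⟨p, hp, rfl⟩
    simp only [Finset.coe_image, Set.mem_image, Finset.mem_coe, Finset.mem_range] at hp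
    obtain ⟨i, hi, rfl⟩ := hp
    rw [hΦ, map_pow, Polynomial.aeval_X]
    exact Submodule.subset_span (hreg i hi)
  have hVfr : Module.finrank k V = g := by
    rw [hV, ← (Submodule.equivMapOfInjective Φ hinj _).finrank_eq,
      (Polynomial.degreeLTEquiv k g).finrank_eq, Module.finrank_fin_fun]
  rcases Nat.eq_zero_or_pos g with hg0 | hg0
  · suffices hz0 : z = 0 from ⟨0, by simp, by simp [hz0]⟩
    by_contra hz0
    obtain ⟨ω, hω, hωs, -⟩ := exists_weil_mul hφ hK hg z x
    obtain ⟨hω0, hdiv⟩ := isDivOf_eq_ordDiff hφ hK hg hz0 hDx hωs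
    obtain ⟨C, hC⟩ := exists_isDivOf' hK hω hω0
    obtain ⟨hfin, hdim⟩ := finrank_WD' hK (0 : _root_.FunFld.Divisor k K)
    rw [delta_zero hK, sub_zero, ← hgdef, hg0, Nat.cast_zero, Int.natCast_eq_zero] at hdim
    have hmem : ω ∈ _root_.FunFld.WD (0 : _root_.FunFld.Divisor k K) := (hC 0).2 fun Q => by
      have hne : _root_.LocRes.vDiff (φ Q) z x ≠ 0 := (Valuation.ne_zero_iff _).2
        (mul_ne_zero ((map_ne_zero (φ Q)).2 hz0) (D_map_ne_zero (hφ Q) hK.1 hg hDx))
      rw [hdiv C hC Q, _root_.LocRes.ordDiff, Finsupp.coe_zero, Pi.zero_apply, neg_nonneg,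
        WithZero.log_le_iff_le_exp hne, WithZero.exp_zero]
      exact hz Q
    rw [Submodule.finrank_eq_zero.mp hdim, Submodule.mem_bot] at hmem
    exact hω0 hmem
  haveI : Module.Finite k W := Module.finite_of_finrank_pos (by omega)
  have heq : V = W := Submodule.eq_of_le_of_finrank_eq hVW (hVfr.trans hfr.symm)
  have hzW : z ∈ W := Submodule.subset_span hz
  rw [← heq] at hzW
  obtain ⟨a, ha, rfl⟩ := hzW
  exact ⟨a, Polynomial.mem_degreeLT.mp ha, rfl⟩

end GrothLib.LocRes
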