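import Groth.Agent.Lib.LocRes.RegularBasis
import Groth.Agent.Lib.FunFld.Hyperelliptic

/-!
Regular differentials of hyperelliptic function fields.
-/

set_option autoImplicit false
set_option linter.style.haveILetI false
set_option linter.unusedSectionVars false

namespace GrothLib.LocRes

open LaurentSeries WithZero Polynomial
open GrothLib.FunFld
open _root_.FunFld (Place IsOverWith)

universe u v w

variable {k : Type u} {K : Type v} [Field k] [Field K] [Algebra k K] [Algebra (RatFunc k) K]
  [IsScalarTower k (RatFunc k) K] (h2 : ringChar k ≠ 2) (hdeg : Module.finrank (RatFunc k) K = 2)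
  {y : K} {f : k[X]} (hf : Squarefree f) (hd : 1 ≤ f.natDegree)
  (heq : y ^ 2 = algebraMap (RatFunc k) K (algebraMap k[X] (RatFunc k) f))

include h2 hdeg in
theorem isSeparable_of_finrank_two : Algebra.IsSeparable (RatFunc k) K := by
  haveI : FiniteDimensional (RatFunc k) K := Module.finite_of_finrank_pos (by omega)
  refine ⟨fun z => ?_⟩
  have hint : IsIntegral (RatFunc k) z := IsIntegral.of_finite _ z
  refine (separable_iff_derivative_ne_zero (minpoly.irreducible hint)).mpr fun h0 => ?_
  have hn := minpoly.natDegree_pos hint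
  have hle : (minpoly (RatFunc k) z).natDegree ≤ 2 := hdeg ▸ minpoly.natDegree_le z
  have h2' : ringChar (RatFunc k) ≠ 2 := by
    rwa [← Algebra.ringChar_eq k (RatFunc k)]
  have hc := congrArg (fun p => p.coeff ((minpoly (RatFunc k) z).natDegree - 1)) h0
  simp only [coeff_derivative, coeff_zero] at hc
  rw [show (minpoly (RatFunc k) z).natDegree - 1 + 1 = (minpoly (RatFunc k) z).natDegree by omega,
    (minpoly.monic hint).coeff_natDegree, one_mul] at hc
  rcases (show (minpoly (RatFunc k) z).natDegree = 1 ∨ (minpoly (RatFunc k) z).natDegree = 2 by omega)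
    with h | h <;> rw [h] at hc <;> norm_num at hc
  exact Ring.two_ne_zero h2' hc

include h2 hdeg hf hd heq in
theorem hyper_regular {P : Place k K} {F : Type w} [Field F] [Algebra k F]
    {φ : K →ₐ[k] F⸨X⸩} (hφ : _root_.LocRes.IsExpansionAt P.1 φ) {i : ℕ}
    (hi : i < (f.natDegree - 1) / 2) :
    _root_.LocRes.vDiff φ (algebraMap (RatFunc k) K RatFunc.X ^ i / y)
      (algebraMap (RatFunc k) K RatFunc.X) ≤ 1 := by
  have hq := isQuad_hyper hdeg hf hd heq
  haveI := hq.finite
  set x := algebraMap (RatFunc k) K RatFunc.X with hxdef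
  obtain ⟨P₀, e, he0, he⟩ := exists_isOverWith (K := RatFunc k) P
  have he2 := (hq.ramIdx_facts isFG_ratFunc P₀).2.1 P e he
  have key := two_mul_ord hf heq he
  have hy0 : y ≠ 0 := by
    rintro rfl
    exact hq.not_mem ⟨0, map_zero _⟩
  have hF : algebraMap k[X] (RatFunc k) f ≠ 0 := RatFunc.algebraMap_ne_zero hf.ne_zero
  have hx0 : x ≠ 0 := by simpa [hxdef] using RatFunc.X_ne_zero
  have hordx : P.ord x = e * P₀.ord (RatFunc.X : RatFunc k) := ord_of_isOverWith he _
  show Valued.v (φ (x ^ i / y) * _root_.LocRes.D F (φ x)) ≤ 1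
  rw [map_mul, hφ.1]
  show val P (x ^ i / y) * _ ≤ 1
  rw [map_div₀, map_pow]
  rcases lt_or_ge (P₀.ord (RatFunc.X : RatFunc k)) 0 with hX | hX
  · -- at infinity
    rw [(inf_props hX).2.1] at hordx
    rw [ord_poly_inf hX hf.ne_zero] at key
    have hvx : val P x = exp (e : ℤ) := by rw [val_eq P hx0, hordx]; congr 1; ring
    have hD : Valued.v (_root_.LocRes.D F (φ x)) ≤ exp ((e : ℤ) + 1) := val_D_le (by
      rw [hφ.1]; exact hvx.le)
    refine (mul_le_mul_right hD _).trans ?_
    rw [hvx, val_eq P hy0, div_eq_mul_inv, ← exp_nsmul, ← exp_neg, ← exp_add, ← exp_add, ← exp_zero,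
      exp_le_exp, nsmul_eq_mul]
    rcases he2 with rfl | rfl <;> push_cast at key ⊢ <;> omega
  · -- at a finite place
    have hvx : val P x ≤ 1 := by
      rw [val_le_one_iff P hx0, hordx]; exact mul_nonneg (Int.natCast_nonneg _) hX
    have hxi : val P x ^ i ≤ 1 := pow_le_one₀ zero_le hvx
    obtain ⟨h0, h1⟩ := ord_squarefree_le_one hX hf
    rcases (show P₀.ord (algebraMap k[X] (RatFunc k) f) = 0 ∨
      P₀.ord (algebraMap k[X] (RatFunc k) f) = 1 by omega) with hz | ho
    · rw [hz, mul_zero] at key
      rw [val_eq P hy0, show P.ord y = 0 by omega, neg_zero, exp_zero, div_one]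
      exact mul_le_one' hxi (val_D_le_one (by rw [hφ.1]; exact hvx))
    · rw [ho, mul_one] at key
      obtain rfl : e = 2 := by rcases he2 with rfl | rfl <;> omega
      have hy1 : P.ord y = 1 := by omega
      have hvy : val P y = exp (-1) := by rw [val_eq P hy0, hy1]
      have hDy : Valued.v (_root_.LocRes.D F (φ y)) = exp 0 := by
        rw [val_D_eq (n := 1) (by rw [hφ.1]; exact hvy) (by simp)]
        rfl
      have hid : _root_.LocRes.D F (φ (Polynomial.aeval x f)) =
          φ (2 * y) * _root_.LocRes.D F (φ y) := by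
        rw [hxdef, ← algebraMap_poly, ← heq, D_pow_two]
      rw [D_aeval] at hid
      have h2v : val P ((2 : K) * y) = exp (-1) := by
        rw [map_mul, show (2 : K) = algebraMap k K 2 by rw [map_ofNat],
          val_const P (Ring.two_ne_zero h2), one_mul, hvy]
      have hv := congrArg Valued.v hid
      rw [map_mul, map_mul, hφ.1, hφ.1, hDy, exp_zero, mul_one] at hv
      change val P _ * _ = val P _ at hv
      rw [h2v] at hv
      set r := Polynomial.aeval x f.derivative with hrdef
      have hr0 : r ≠ 0 := fun h => by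
        rw [h, map_zero, zero_mul] at hv; exact exp_ne_zero hv.symm
      have hrev : Even (P.ord r) := by
        rw [hrdef, hxdef, ← algebraMap_poly, ord_of_isOverWith he]
        exact (even_two).mul_right _
      have hD1 : Valued.v (_root_.LocRes.D F (φ x)) ≤ exp (-1) := by
        rw [show Valued.v (_root_.LocRes.D F (φ x)) = exp (P.ord r - 1) by
          rw [val_eq P hr0] at hv
          calc Valued.v (_root_.LocRes.D F (φ x))
              = exp (P.ord r) * (exp (-P.ord r) * Valued.v (_root_.LocRes.D F (φ x))) := by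
                rw [← mul_assoc, ← exp_add, add_neg_cancel, exp_zero, one_mul]
            _ = _ := by rw [hv, ← exp_add]; congr 1]
        rw [exp_le_exp]
        have hD0 := val_D_le_one (s := φ x) (by rw [hφ.1]; exact hvx)
        rw [val_eq P hr0] at hv
        obtain ⟨c, hc⟩ := hrev
        by_contra hlt
        have : exp (-1) ≤ exp (-P.ord r) * (1 : WithZero (Multiplicative ℤ)) :=
          hv ▸ mul_le_mul_right hD0 _
        rw [mul_one, exp_le_exp] at this
        omega
      refine (mul_le_mul_right hD1 _).trans ?_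
      rw [hvy, div_eq_mul_inv, mul_assoc, ← exp_neg, neg_neg, ← exp_add, add_neg_cancel, exp_zero,
        mul_one]
      exact hxi

end GrothLib.LocRes
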