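import Groth.Agent.Lib.LocRes.CoeffField
import Mathlib.FieldTheory.PurelyInseparable.PerfectClosure
import Mathlib.RingTheory.Trace.Basic
import Mathlib.RingTheory.PowerSeries.Expand

/-!
Elementary facts on residues through an expansion, and: a place with separable coefficient field
forces the function field to be geometric.
-/

set_option autoImplicit false
set_option linter.style.haveILetI false

namespace GrothLib.LocRes

open LaurentSeries
open GrothLib.FunFld

universe u v w

variable {k : Type u} {K : Type v} {F : Type w} [Field k] [Field K] [Field F] [Algebra k K] [Algebra k F]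

omit [Algebra k F] [Field k] in
/-- Series of nonnegative order with the same constant term agree to first order. -/
theorem val_sub_le_of_coeff {f g : F⸨X⸩} (hf : Valued.v f ≤ 1) (hg : Valued.v g ≤ 1)
    (h : f.coeff 0 = g.coeff 0) : Valued.v (f - g) ≤ WithZero.exp (-1) := by
  refine (LaurentSeries.valuation_le_iff_coeff_lt_eq_zero F).mpr fun i hi => ?_
  obtain ⟨p, rfl⟩ := (LaurentSeries.val_le_one_iff_eq_coe F _).mp hf
  obtain ⟨q, rfl⟩ := (LaurentSeries.val_le_one_iff_eq_coe F _).mp hg
  rcases lt_or_eq_of_le (show i ≤ 0 by omega) with hi' | rfl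
  · rw [HahnSeries.coeff_sub, coeff_coe_eq_zero _ hi', coeff_coe_eq_zero _ hi', sub_zero]
  · rw [HahnSeries.coeff_sub, h, sub_self]

omit [Algebra k F] [Field k] in
theorem res_C_mul (a : F) (f : F⸨X⸩) :
    _root_.LocRes.res F (HahnSeries.C a * f) = a * _root_.LocRes.res F f := by
  rw [HahnSeries.C_mul_eq_smul, map_smul, smul_eq_mul]

omit [Algebra k F] [Field k] in
theorem coeff_pow_char_powerSeries {p : ℕ} [Fact p.Prime] [CharP F p] (u : PowerSeries F) (m : ℕ) :
    PowerSeries.coeff (p * m) (u ^ p) = PowerSeries.coeff m u ^ p := by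
  haveI : ExpChar F p := ExpChar.prime Fact.out
  have h : PowerSeries.map (frobenius F p) (PowerSeries.expand p (Fact.out : p.Prime).ne_zero u) = u ^ p :=
    MvPowerSeries.map_frobenius_expand p (Fact.out : p.Prime).ne_zero
  rw [← h, PowerSeries.coeff_map, PowerSeries.coeff_expand_mul, frobenius_def]

omit [Algebra k F] [Field k] in
theorem coeff_pow_char {p : ℕ} [Fact p.Prime] [CharP F p] (g : F⸨X⸩) (i : ℤ) :
    (g ^ p).coeff ((p : ℤ) * i) = g.coeff i ^ p := by
  obtain ⟨a, u, rfl⟩ : ∃ (a : ℤ) (u : PowerSeries F), g = HahnSeries.single a 1 * (u : F⸨X⸩) :=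
    ⟨_, _, g.single_order_mul_powerSeriesPart.symm⟩
  rw [mul_pow, single_pow', HahnSeries.coeff_single_mul, HahnSeries.coeff_single_mul, one_mul,
    one_mul, ← mul_sub, ← PowerSeries.coe_pow, PowerSeries.coeff_coe, PowerSeries.coeff_coe]
  have hp : 0 < (p : ℤ) := by exact_mod_cast (Fact.out : p.Prime).pos
  by_cases hneg : i - a < 0
  · rw [if_pos (mul_neg_of_pos_of_neg hp hneg), if_pos hneg, zero_pow (Fact.out : p.Prime).ne_zero]
  · have hnn : ¬ (p : ℤ) * (i - a) < 0 := not_lt.2 (mul_nonneg hp.le (not_lt.1 hneg))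
    rw [if_neg hnn, if_neg hneg]
    obtain ⟨m, hm⟩ : ∃ m : ℕ, i - a = m := ⟨(i - a).toNat, by omega⟩
    rw [hm, show ((p : ℤ) * (m : ℤ)).natAbs = p * m by
      rw [Int.natAbs_mul, Int.natAbs_natCast, Int.natAbs_natCast], Int.natAbs_natCast,
      coeff_pow_char_powerSeries]

/-- In positive characteristic, a separable coefficient field keeps `p`-th powers independent. -/
theorem linearIndepOn_pow_of_coeff [FiniteDimensional k F] [Algebra.IsSeparable k F]
    (φ : K →ₐ[k] F⸨X⸩) (p : ℕ) [Fact p.Prime] [CharP k p] (s : Finset K)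
    (hs : LinearIndepOn k id (s : Set K)) : LinearIndepOn k (fun y => y ^ p) (s : Set K) := by
  classical
  haveI : ExpChar k p := ExpChar.prime Fact.out
  haveI : CharP F p := charP_of_injective_algebraMap (algebraMap k F).injective p
  haveI : CharP K p := charP_of_injective_algebraMap (algebraMap k K).injective p
  set b := Module.finBasis k F
  have hbp : LinearIndependent k fun l => b l ^ p := by
    simpa using b.linearIndependent.map_pow_expChar_pow_of_isSeparable p 1
  rw [LinearIndepOn, Fintype.linearIndependent_iff] at hs ⊢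
  intro c hc
  let T : Submodule k (↥(s : Set K) → k) :=
    { carrier := {v | ∑ j, c j * v j ^ p = 0}
      add_mem' := fun {v v'} (hv : _ = (0 : k)) (hv' : _ = (0 : k)) => by
        show _ = (0 : k)
        simp only [Pi.add_apply, add_pow_char, mul_add, Finset.sum_add_distrib, hv, hv', add_zero]
      zero_mem' := by
        show _ = (0 : k)
        exact Finset.sum_eq_zero fun j _ => by
          simp [(Fact.out : p.Prime).ne_zero]
      smul_mem' := fun r v (hv : _ = (0 : k)) => by
        show _ = (0 : k)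
        simp only [Pi.smul_apply, smul_eq_mul, mul_pow, mul_left_comm (c _) (r ^ p),
          ← Finset.mul_sum, hv, mul_zero] }
  have hT : T = ⊤ := by
    by_contra hne
    obtain ⟨w, hw⟩ : ∃ w, w ∉ T := by
      by_contra h; push Not at h; exact hne (eq_top_iff.mpr fun x _ => h x)
    obtain ⟨f, hf, hf0⟩ := Submodule.exists_dual_map_eq_bot_of_notMem hw inferInstance
    have hfT : ∀ v ∈ T, f v = 0 := fun v hv => (Submodule.mem_bot k).1 (hf0 ▸ ⟨v, hv, rfl⟩)
    -- the coordinates of the expansion coefficients lie in `T`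
    have hmem : ∀ (i : ℤ) l, (fun j : ↥(s : Set K) => b.repr ((φ (j : K)).coeff i) l) ∈ T := by
      intro i l
      have h1 : ∑ j : ↥(s : Set K), algebraMap k F (c j) * ((φ (j : K)).coeff i) ^ p = 0 := by
        have h2 := congrArg φ hc
        rw [map_zero, map_sum] at h2
        have h3 : (∑ j : ↥(s : Set K), HahnSeries.C (algebraMap k F (c j)) * φ (j : K) ^ p :
            F⸨X⸩).coeff ((p : ℤ) * i) = 0 := by
          rw [show (∑ j : ↥(s : Set K), HahnSeries.C (algebraMap k F (c j)) * φ (j : K) ^ p : F⸨X⸩)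
              = 0 by
            rw [← h2]
            exact Finset.sum_congr rfl fun j _ => by
              rw [Algebra.smul_def, map_mul, _root_.LocRes.map_algebraMap, map_pow]]
          rfl
        rw [HahnSeries.coeff_sum] at h3
        refine (Finset.sum_congr rfl fun j _ => ?_).trans h3
        rw [HahnSeries.C_mul_eq_smul, HahnSeries.coeff_smul, smul_eq_mul, coeff_pow_char]
      have h4 : ∀ j : ↥(s : Set K), ((φ (j : K)).coeff i) ^ p =
          ∑ l, b.repr ((φ (j : K)).coeff i) l ^ p • b l ^ p := fun j => by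
        conv_lhs => rw [← b.sum_repr ((φ (j : K)).coeff i)]
        rw [sum_pow_char]
        exact Finset.sum_congr rfl fun l _ => by rw [Algebra.smul_def, mul_pow, ← map_pow,
          ← Algebra.smul_def]
      simp only [h4, Finset.mul_sum, ← Algebra.smul_def, smul_smul] at h1
      rw [Finset.sum_comm] at h1
      simp only [← Finset.sum_smul] at h1
      exact Fintype.linearIndependent_iff.1 hbp _ h1 l
    have hd : ∑ j : ↥(s : Set K), f (Pi.single j 1) • (j : K) = 0 := by
      refine φ.toRingHom.injective ?_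
      rw [map_zero]
      ext i
      simp only [AlgHom.toRingHom_eq_coe, RingHom.coe_coe, map_sum, HahnSeries.coeff_sum,
        HahnSeries.coeff_zero]
      refine b.repr.injective (Finsupp.ext fun l => ?_)
      have h5 := hfT _ (hmem i l)
      rw [pi_eq_sum_univ' (fun j : ↥(s : Set K) => b.repr ((φ (j : K)).coeff i) l), map_sum] at h5
      simp only [map_smul, smul_eq_mul] at h5
      rw [map_sum, map_zero, Finsupp.finsetSum_apply, Finsupp.zero_apply, ← h5]
      refine Finset.sum_congr rfl fun j _ => ?_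
      rw [Algebra.smul_def, map_mul φ, _root_.LocRes.map_algebraMap, HahnSeries.C_mul_eq_smul,
        HahnSeries.coeff_smul, smul_eq_mul, ← Algebra.smul_def, map_smul, Finsupp.smul_apply,
        smul_eq_mul, mul_comm]
    refine hf ?_
    rw [pi_eq_sum_univ' w, map_sum]
    exact Finset.sum_eq_zero fun j _ => by rw [map_smul, hs _ hd j, smul_zero]
  intro j
  have : Pi.single j 1 ∈ T := hT ▸ Submodule.mem_top
  change ∑ i, c i * (Pi.single j (1 : k) : ↥(s : Set K) → k) i ^ p = 0 at this
  rwa [Finset.sum_eq_single j (fun i _ hi => by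
    rw [Pi.single_eq_of_ne hi, zero_pow (Fact.out : p.Prime).ne_zero, mul_zero])
    (fun h => absurd (Finset.mem_univ j) h), Pi.single_eq_same, one_pow, mul_one] at this

/-- A place with a separable coefficient field: the function field is geometric. -/
theorem isGeometric_of_isSeparable_coeff (hK : _root_.FunFld.IsFunctionField k K)
    [FiniteDimensional k F] [Algebra.IsSeparable k F] (φ : K →ₐ[k] F⸨X⸩) :
    _root_.FunFld.IsGeometric k K := by
  obtain ⟨x, hx, hsep⟩ := exists_separatingElement' hK.1 fun p _ _ s hs =>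
    linearIndepOn_pow_of_coeff φ p s hs
  haveI := IsFG.finiteDimensional_adjoin hK.1 hx
  exact isGeometric_of_separating hK.2 hx hsep

theorem locRes_eq_zero_of_not_isSeparable (h : ¬ Algebra.IsSeparable k F) (φ : K →ₐ[k] F⸨X⸩)
    (u v : K) : _root_.LocRes.locRes φ u v = 0 := by
  rw [_root_.LocRes.locRes, Algebra.trace_eq_zero_of_not_isSeparable h, LinearMap.zero_apply]

variable {P : _root_.FunFld.Place k K} {φ : K →ₐ[k] F⸨X⸩} (hφ : _root_.LocRes.IsExpansionAt P.1 φ)
include hφ

theorem D_map_ne_zero_of_val_eq {t : K} (ht : val P t = WithZero.exp (-1)) :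
    _root_.LocRes.D F (φ t) ≠ 0 := by
  intro hDt
  have hv' : Valued.v (φ t) = WithZero.exp (-1) := by rw [hφ.1]; exact ht
  obtain ⟨a, u, hu, hut, hv⟩ := exists_eq_single_mul (f := φ t)
    (fun h0 => by rw [h0, map_zero] at hv'; exact WithZero.exp_ne_zero hv'.symm)
  rw [hv', WithZero.exp_inj, neg_inj] at hv
  subst hv
  have h1 := congrArg (fun s : F⸨X⸩ => s.coeff 0) hDt
  simp only [HahnSeries.coeff_zero, _root_.LocRes.D_coeff] at h1
  rw [zero_add, one_smul, hut, HahnSeries.coeff_single_mul, one_mul, sub_self,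
    PowerSeries.coeff_coe, if_neg (lt_irrefl 0)] at h1
  exact hu (by simpa [PowerSeries.coeff_zero_eq_constantCoeff] using h1)

theorem D_ne_zero_of_val_eq {t : K} (ht : val P t = WithZero.exp (-1)) :
    KaehlerDifferential.D k K t ≠ 0 := fun h0 => by
  have := D_eq_mul_of_smul φ (x := t) (y := t) (c := 0) (by rw [h0, smul_zero])
  rw [map_zero, zero_mul] at this
  exact D_map_ne_zero_of_val_eq hφ ht this

/-- The residue pairing with a nonzero series of order `n` is nonzero on order `-n-1`. -/
theorem exists_res_ne [FiniteDimensional k F] [Algebra.IsSeparable k F] {s : F⸨X⸩} {n : ℤ}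
    (hs : Valued.v s = WithZero.exp (-n)) :
    ∃ z : K, val P z ≤ WithZero.exp (n + 1) ∧
      Algebra.trace k F (_root_.LocRes.res F (φ z * s)) ≠ 0 := by
  obtain ⟨b, hb⟩ : ∃ b : F, Algebra.trace k F b ≠ 0 := by
    by_contra h
    push Not at h
    exact Algebra.trace_ne_zero k F (LinearMap.ext h)
  obtain ⟨m, u, hu, hsu, hvs⟩ := exists_eq_single_mul (f := s)
    (fun h => by rw [h, map_zero] at hs; exact WithZero.exp_ne_zero hs.symm)
  rw [hs, WithZero.exp_inj, neg_inj] at hvs
  obtain ⟨t, -, ht⟩ := exists_val_eq_exp hφ (n + 1)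
  have ht0 : φ t ≠ 0 := fun h => by rw [h, map_zero] at ht; exact WithZero.exp_ne_zero ht.symm
  obtain ⟨a, w, hw, htw, hv⟩ := exists_eq_single_mul ht0
  rw [ht, WithZero.exp_inj] at hv
  obtain ⟨g, hg1, hg0⟩ := hφ.2.1 (b / (PowerSeries.constantCoeff (w * u)))
  refine ⟨g * t, ?_, ?_⟩
  · show P.1 (g * t) ≤ _
    rw [← hφ.1, map_mul φ, map_mul, ht]
    exact mul_le_of_le_one_left' (by rw [hφ.1]; exact hg1)
  have : _root_.LocRes.res F (φ (g * t) * s) = b := by
    rw [_root_.LocRes.res_apply, map_mul φ, htw, hsu,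
      show φ g * (HahnSeries.single a 1 * (w : F⸨X⸩)) * (HahnSeries.single m 1 * (u : F⸨X⸩)) =
        HahnSeries.single (a + m) 1 * (φ g * ((w * u : PowerSeries F) : F⸨X⸩)) by
        rw [PowerSeries.coe_mul, ← one_mul (1 : F), ← HahnSeries.single_mul_single, one_mul]; ring,
      HahnSeries.coeff_single_mul, one_mul, show -1 - (a + m) = 0 by omega,
      coeff_zero_mul_coe (by rw [hφ.1]; exact hg1), hg0, div_mul_cancel₀]
    rw [map_mul]; exact mul_ne_zero hw hu
  rw [this]
  exact hb

end GrothLib.LocRes
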