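import Groth.Agent.Lib.LocRes.ExpansionSep
import Groth.Agent.Lib.LocRes.RiemannHurwitz
import Groth.Agent.Lib.LocRes.DiffExp
import Groth.Agent.Lib.FunFld.SeparablePlaces
import Groth.Agent.Lib.FunFld.Unramified

/-!
The trace formula for residues.
-/

set_option autoImplicit false
set_option linter.style.haveILetI false
set_option linter.unusedSectionVars false

namespace GrothLib.LocRes

noncomputable local instance (priority := high) resSMulTF {k K : Type*} [Field k] [Field K] [Algebra k K]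
    (P : _root_.FunFld.Place k K) : SMul k (IsLocalRing.ResidueField P.O) := Algebra.toSMul

noncomputable local instance (priority := high) resModuleTF {k K : Type*} [Field k] [Field K] [Algebra k K]
    (P : _root_.FunFld.Place k K) : Module k (IsLocalRing.ResidueField P.O) := Algebra.toModule

open LaurentSeries WithZero
open GrothLib.FunFld
open _root_.FunFld (Place Divisor IsOver IsOverWith IsGeometric IsFunctionField IsWeil WD adele conorm ramIdx)

universe u v w w'

theorem isOverWith_trans {k A B C : Type*} [Field k] [Field A] [Field B] [Field C] [Algebra k A]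
    [Algebra k B] [Algebra k C] [Algebra A B] [Algebra B C] [Algebra A C] [IsScalarTower A B C]
    {Q : Place k C} {P : Place k B} {R : Place k A} {d e : ℕ} (hQ : IsOverWith Q P d)
    (hP : IsOverWith P R e) : IsOverWith Q R (e * d) := fun z => by
  rw [IsScalarTower.algebraMap_apply A B C, hQ, hP, ← pow_mul]

theorem transcendental_of_val_eq {k K : Type*} [Field k] [Field K] [Algebra k K] {P : Place k K} {t : K}
    (ht : val P t = exp (-1)) : Transcendental k t :=
  transcendental_of_val_ne_one P (fun h0 => by rw [h0, map_zero] at ht; exact exp_ne_zero ht.symm)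
    (by rw [ht, ← exp_zero, Ne, exp_inj]; omega)

theorem isWeil_sub {k K : Type*} [Field k] [Field K] [Algebra k K] {ω ω' : Module.Dual k (adele k K)}
    (h : IsWeil ω) (h' : IsWeil ω') : IsWeil (ω - ω') :=
  let ⟨C, hC⟩ := h
  let ⟨C', hC'⟩ := h'
  ⟨C ⊓ C', sub_mem (WD_anti inf_le_left hC) (WD_anti inf_le_right hC')⟩

variable {k : Type u} {K K' : Type v} [Field k] [Field K] [Field K'] [Algebra k K] [Algebra K K']
  [Algebra k K'] [IsScalarTower k K K'] [FiniteDimensional K K']

/-- There are unramified places with separable residue field. -/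
theorem exists_unramified_separable [Algebra.IsSeparable K K'] (hK : IsFunctionField k K)
    (hg : IsGeometric k K) (hK' : IsFunctionField k K') :
    ∃ (Q : Place k K') (P : Place k K), IsOverWith Q P 1 ∧
      Algebra.IsSeparable k (IsLocalRing.ResidueField Q.O) := by
  have hg' := isGeometric_of_isSeparable hK hg hK'
  obtain ⟨Q, hQsep, hQ⟩ := (infinite_separable_places hK' hg').exists_notMem_finite
    (finite_ramified (K' := K') hK.1) |>.imp fun Q h => And.intro h.1 h.2
  simp only [Set.mem_setOf_eq, not_not] at hQ hQsep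
  obtain ⟨P, e, he0, he⟩ := exists_isOverWith (K := K) Q
  obtain ⟨z, hz⟩ := hQ (exp (-1))
  rw [Valuation.comap_apply, he z] at hz
  obtain rfl : e = 1 := by
    have h := congrArg log hz
    rw [log_pow, log_exp, nsmul_eq_mul] at h
    have h1 : (e : ℤ) = 1 := Int.eq_one_of_mul_eq_one_right (Int.natCast_nonneg _)
      (show (e : ℤ) * -log (P.1 z) = 1 by push_cast at h ⊢; linarith)
    exact_mod_cast h1
  exact ⟨Q, P, he, hQsep⟩

/-- A Weil differential reading the residues of `z dT` where `T` is a parameter, reads them wherever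
there is an expansion. -/
theorem apply_sgl_eq_locRes {M : Type v} [Field M] [Algebra k M] (hM : IsFunctionField k M)
    (hgM : IsGeometric k M) {T : M} {ω : Module.Dual k (adele k M)} (hω : IsWeil ω)
    {Q₀ : Place k M} {F₀ : Type w'} [Field F₀] [Algebra k F₀] [FiniteDimensional k F₀]
    {φ₀ : M →ₐ[k] F₀⸨X⸩} (hφ₀ : _root_.LocRes.IsExpansionAt Q₀.1 φ₀)
    (h₀ : ∀ z, ω (sgl Q₀ z) = _root_.LocRes.locRes φ₀ z T)
    {F : Type w} [Field F] [Algebra k F] [FiniteDimensional k F] {Q : Place k M}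
    {ψ : M →ₐ[k] F⸨X⸩} (hψ : _root_.LocRes.IsExpansionAt Q.1 ψ) (z : M) :
    ω (sgl Q z) = _root_.LocRes.locRes ψ z T := by
  classical
  obtain ⟨s, hs⟩ := exists_approx_eq {Q₀, Q} (fun _ => (0 : M)) fun _ => -1
  have hs₀ : val Q₀ s = exp (-1) := by simpa using hs Q₀ (by simp)
  have hsQ : val Q s = exp (-1) := by simpa using hs Q (by simp)
  obtain ⟨c, hc⟩ := exists_D_eq hM.1 hgM (D_ne_zero_of_val_eq hψ hsQ) T
  -- the cotrace of `ds`
  let L := IntermediateField.adjoin k ({s} : Set M)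
  have hst := transcendental_of_val_eq hsQ
  obtain ⟨hL, hfin⟩ := isFunctionField_intermediateField hM L
    ⟨s, IntermediateField.mem_adjoin_simple_self k s, hst⟩
  let x : L := ⟨s, IntermediateField.mem_adjoin_simple_self k s⟩
  have hgen : IntermediateField.adjoin k ({x} : Set L) = ⊤ := by
    refine IntermediateField.map_injective L.val ?_
    rw [IntermediateField.adjoin_map, ← AlgHom.fieldRange_eq_map, IntermediateField.fieldRange_val,
      Set.image_singleton]
    rfl
  obtain ⟨R₀, D, η, hη, hD0, hx0, hd0, huniq, hηval⟩ :=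
    exists_eta (x := x) hL (fun h0 => hst (h0.algHom L.val)) hgen
  obtain ⟨ωs, hωs, hωsv⟩ := exists_cotrace (K := M) hL.1 hη
  have key : ∀ {G : Type w'} [Field G] [Algebra k G] [FiniteDimensional k G] {R : Place k M}
      {χ : M →ₐ[k] G⸨X⸩}, _root_.LocRes.IsExpansionAt R.1 χ → val R s = exp (-1) →
      ∀ y, mulMap hM.1 ωs c (sgl R y) = _root_.LocRes.locRes χ y T := fun {G} _ _ _ {R χ} hχ hR y => by
    rw [mulMap_sgl, cotrace_eta_sgl hL hη hD0 hx0 hd0 huniq hηval hωsv hχ (t := s) rfl hR,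
      _root_.LocRes.locRes, _root_.LocRes.locRes, _root_.LocRes.resExp, _root_.LocRes.resExp,
      D_eq_mul_of_smul χ hc, map_mul χ, mul_comm (χ c), mul_assoc]
  have h12 : mulMap hM.1 ωs c = ω := by
    rw [← sub_eq_zero]
    refine eq_zero_of_sgl hM (isWeil_sub (isWeil_mulMap hM.1 ⟨_, hωs⟩ c) hω) Q₀ fun y => ?_
    rw [LinearMap.sub_apply, key hφ₀ hs₀, h₀, sub_self]
  rw [← h12, mulMap_sgl, cotrace_eta_sgl hL hη hD0 hx0 hd0 huniq hηval hωsv hψ (t := s) rfl hsQ,
    _root_.LocRes.locRes, _root_.LocRes.locRes, _root_.LocRes.resExp, _root_.LocRes.resExp,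
    D_eq_mul_of_smul ψ hc, map_mul ψ, mul_comm (ψ c), mul_assoc]

/-- The trace formula. -/
theorem locRes_trace_eq_sum [Algebra.IsSeparable K K'] (hK : IsFunctionField k K) (hg : IsGeometric k K)
    (hK' : IsFunctionField k K') (P : Place k K) {F : Type w} [Field F] [Algebra k F] [FiniteDimensional k F]
    {φ : K →ₐ[k] F⸨X⸩} (hφ : _root_.LocRes.IsExpansionAt P.1 φ)
    (Qs : Finset (Place k K')) (hQs : ∀ Q, Q ∈ Qs ↔ IsOver Q P)
    (F' : Place k K' → Type w) [∀ Q, Field (F' Q)] [∀ Q, Algebra k (F' Q)]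
    [∀ Q, FiniteDimensional k (F' Q)] (ψ : ∀ Q, K' →ₐ[k] (F' Q)⸨X⸩)
    (hψ : ∀ Q ∈ Qs, _root_.LocRes.IsExpansionAt Q.1 (ψ Q)) (y : K') (x : K) :
    _root_.LocRes.locRes φ (Algebra.trace K K' y) x =
      ∑ Q ∈ Qs, _root_.LocRes.locRes (ψ Q) y (algebraMap K K' x) := by
  classical
  have hg' := isGeometric_of_isSeparable hK hg hK'
  obtain ⟨Q₀, P₀, he₀, hsep₀⟩ := exists_unramified_separable (K' := K') hK hg hK'
  -- one parameter at `P` and at `P₀`
  obtain ⟨T, hT⟩ := exists_approx_eq {P₀, P} (fun _ => (0 : K)) fun _ => -1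
  have hT₀ : val P₀ T = exp (-1) := by simpa using hT P₀ (by simp)
  have hTP : val P T = exp (-1) := by simpa using hT P (by simp)
  set T' := algebraMap K K' T with hT'
  have hTQ₀ : val Q₀ T' = exp (-1) := by
    rw [show val Q₀ T' = val P₀ T ^ 1 from he₀ T, pow_one, hT₀]
  obtain ⟨c, hc⟩ := exists_D_eq hK.1 hg (D_ne_zero_of_val_eq hφ hTP) x
  have hc' := algebraMap_smul_D (K' := K') hc
  suffices H : ∀ y : K', _root_.LocRes.locRes φ (Algebra.trace K K' y) T =
      ∑ Q ∈ Qs, _root_.LocRes.locRes (ψ Q) y T' by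
    have h1 := H (algebraMap K K' c * y)
    have h2 : Algebra.trace K K' (algebraMap K K' c * y) = c * Algebra.trace K K' y := by
      rw [← Algebra.smul_def, map_smul, smul_eq_mul]
    rw [h2] at h1
    simp only [_root_.LocRes.locRes, _root_.LocRes.resExp, D_eq_mul_of_smul φ hc,
      D_eq_mul_of_smul _ hc', map_mul, ← hT'] at h1 ⊢
    rw [show φ (Algebra.trace K K' y) * (φ c * _root_.LocRes.D F (φ T)) =
      φ c * φ (Algebra.trace K K' y) * _root_.LocRes.D F (φ T) by ring, h1]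
    exact Finset.sum_congr rfl fun Q _ => by
      rw [show ψ Q y * (ψ Q (algebraMap K K' c) * _root_.LocRes.D (F' Q) (ψ Q T')) =
        ψ Q (algebraMap K K' c) * ψ Q y * _root_.LocRes.D (F' Q) (ψ Q T') by ring]
  intro y
  -- `dT` from `k(T)`
  let L := IntermediateField.adjoin k ({T} : Set K)
  have hTt := transcendental_of_val_eq hTP
  obtain ⟨hL, hfin⟩ := isFunctionField_intermediateField hK L
    ⟨T, IntermediateField.mem_adjoin_simple_self k T, hTt⟩
  let xT : L := ⟨T, IntermediateField.mem_adjoin_simple_self k T⟩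
  have hgen : IntermediateField.adjoin k ({xT} : Set L) = ⊤ := by
    refine IntermediateField.map_injective L.val ?_
    rw [IntermediateField.adjoin_map, ← AlgHom.fieldRange_eq_map, IntermediateField.fieldRange_val,
      Set.image_singleton]
    rfl
  obtain ⟨R₀, D, η, hη, hD0, hx0, hd0, huniq, hηval⟩ :=
    exists_eta (x := xT) hL (fun h0 => hTt (h0.algHom L.val)) hgen
  haveI : FiniteDimensional L K' := Module.Finite.trans K K'
  obtain ⟨ωK, hωK, hωKv⟩ := exists_cotrace (K := K) hL.1 hη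
  obtain ⟨ωK', hωK', hωK'v⟩ := exists_cotrace (K := K') hL.1 hη
  obtain ⟨ω, hω, hωv⟩ := exists_cotrace (K := K') hK.1 hωK
  have hover : ∀ {R : Place k K}, val R T = exp (-1) → IsOverWith R R₀ 1 := fun {R} hR => by
    obtain ⟨R', e, he, hR'⟩ := exists_isOverWith (K := L) R
    have h1 := ord_of_isOverWith hR' xT
    rw [show R.ord (algebraMap L K xT) = 1 from ord_eq_of_val_eq R (n := -1) hR] at h1
    have he1 : (e : ℤ) = 1 := Int.eq_one_of_mul_eq_one_right (Int.natCast_nonneg e) h1.symm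
    obtain rfl : e = 1 := by exact_mod_cast he1
    rw [Nat.cast_one, one_mul] at h1
    rwa [huniq R' (by omega)] at hR'
  have hconP : conorm K D P = 0 := by rw [conorm_apply hL.1 (hover hTP), hD0, mul_zero]
  have hconP₀ : conorm K D P₀ = 0 := by rw [conorm_apply hL.1 (hover hT₀), hD0, mul_zero]
  have hP₀R : IsOverWith P₀ R₀ 1 := hover hT₀
  have hQ₀R : IsOverWith Q₀ R₀ 1 := isOverWith_trans he₀ hP₀R
  -- the two cotraces agree at `Q₀`
  have heq : ω = ωK' := by
    rw [← sub_eq_zero]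
    refine eq_zero_of_sgl hK' (isWeil_sub ⟨_, hω⟩ ⟨_, hωK'⟩) Q₀ fun z => ?_
    obtain ⟨hfib, -⟩ := sum_ramIdx (K' := K') hL.1 R₀
    obtain ⟨b, hb⟩ := GrothLib.FunFld.exists_approx hfib.toFinset
      (fun Q => if Q = Q₀ then z else 0) fun _ => 0
    have hbQ₀ : val Q₀ (z - b) ≤ exp 0 := by
      have h := hb Q₀ (hfib.mem_toFinset.mpr ⟨1, hQ₀R⟩)
      rw [if_pos rfl] at h
      rwa [(val Q₀).map_sub_swap]
    have hboth : ∀ Q' : Place k K', Q' ≠ Q₀ → IsOver Q' R₀ → val Q' b ≤ exp 0 := fun Q' hne h' => by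
      have h := hb Q' (hfib.mem_toFinset.mpr h')
      rwa [if_neg hne, sub_zero] at h
    rw [LinearMap.sub_apply, sub_eq_zero,
      hωv Q₀ P₀ 1 he₀ z b (by rw [hconP₀, mul_zero]; exact hbQ₀) fun Q' e' hne he' => by
        rw [hconP₀, mul_zero]; exact hboth Q' hne ⟨_, isOverWith_trans he' hP₀R⟩,
      hωK'v Q₀ R₀ 1 hQ₀R z b (by rw [hD0, mul_zero]; exact hbQ₀) fun Q' e' hne he' => by
        rw [hD0, mul_zero]; exact hboth Q' hne ⟨_, he'⟩,
      hωKv P₀ R₀ 1 hP₀R _ (Algebra.trace K K' b) (by rw [sub_self, map_zero]; exact zero_le)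
        fun P' e' hne he' => ?_, Algebra.trace_trace]
    rw [hD0, mul_zero]
    refine trace_val_le hK.1 P' b 0 fun Q' e'' he'' => ?_
    rw [mul_zero]
    exact hboth Q' (fun h => hne (isOverWith_unique (h ▸ he'') he₀).1) ⟨_, isOverWith_trans he'' he'⟩
  -- the components of `ω`
  haveI := hsep₀
  haveI : FiniteDimensional k (IsLocalRing.ResidueField Q₀.O) := by
    exact IsFG.finite_residueField hK'.1 Q₀
  obtain ⟨φ₀, hφ₀⟩ := exists_expansion_of_separable hTQ₀
  have hcomp : ∀ Q ∈ Qs, ∀ z, ω (sgl Q z) = _root_.LocRes.locRes (ψ Q) z T' := fun Q hQ z => by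
    rw [heq]
    exact apply_sgl_eq_locRes hK' hg' ⟨_, hωK'⟩ hφ₀
      (fun z' => cotrace_eta_sgl hL hη hD0 hx0 hd0 huniq hηval hωK'v hφ₀ rfl hTQ₀ z') (hψ Q hQ) z
  -- one approximant for each place above `P`
  have hb : ∀ Q : Place k K', ∃ b : K', Q ∈ Qs → ∀ Q' ∈ Qs,
      val Q' ((if Q' = Q then y else 0) - b) ≤ exp 0 := fun Q => by
    obtain ⟨b, hb⟩ := GrothLib.FunFld.exists_approx Qs (fun Q' => if Q' = Q then y else 0) fun _ => 0
    exact ⟨b, fun _ Q' hQ' => by rw [(val Q').map_sub_swap]; exact hb Q' hQ'⟩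
  choose b hb using hb
  have hstep : ∀ Q ∈ Qs, _root_.LocRes.locRes (ψ Q) y T' = ωK (sgl P (Algebra.trace K K' (b Q))) := by
    intro Q hQ
    obtain ⟨e, he⟩ := (hQs Q).1 hQ
    rw [← hcomp Q hQ]
    refine hωv Q P e he y (b Q) ?_ fun Q' e' hne he' => ?_
    · have h := hb Q hQ Q hQ
      rw [if_pos rfl] at h
      rwa [hconP, mul_zero]
    · have h := hb Q hQ Q' ((hQs Q').2 ⟨e', he'⟩)
      rw [if_neg hne, zero_sub, Valuation.map_neg] at h
      rwa [hconP, mul_zero]
  rw [Finset.sum_congr rfl hstep, ← cotrace_eta_sgl hL hη hD0 hx0 hd0 huniq hηval hωKv hφ (t := T) rfl hTP]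
  have hadd : ∀ f : Place k K' → K, (∑ Q ∈ Qs, ωK (sgl P (f Q))) = ωK (sgl P (∑ Q ∈ Qs, f Q)) :=
    fun f => by rw [← map_sum, ← map_sum]
  rw [hadd, ← sub_eq_zero, ← map_sub, ← map_sub, ← map_sum, ← map_sub]
  refine WD_sgl_eq_zero hωK ?_
  rw [hconP]
  refine trace_val_le hK.1 P _ 0 fun Q e he => ?_
  have hQ : Q ∈ Qs := (hQs Q).2 ⟨e, he⟩
  rw [mul_zero, show y - ∑ Q' ∈ Qs, b Q' = ∑ Q' ∈ Qs, ((if Q = Q' then y else 0) - b Q') by
    rw [Finset.sum_sub_distrib, Finset.sum_ite_eq, if_pos hQ]]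
  exact Valuation.map_sum_le _ fun Q' hQ' => hb Q' hQ' Q hQ

end GrothLib.LocRes
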